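/-
Coded permutations of 276 points (owner: helper27).

Main definitions: `fn`, `app`, `toP`, `unpack`, `ev`.
Main results (namespace `Cfsg.Agent.CoThreeType`): `toP_apply`, `ev_apply`, `ev_eq_of_check`.
-/
import Cfsg.Agent.EqLemmas
import Mathlib.GroupTheory.Perm.Basic
import Mathlib.Data.Fintype.EquivFin
import Mathlib.Algebra.BigOperators.Group.List.Basic

set_option autoImplicit false

namespace Cfsg.Agent.CoThreeType

/-- The permutations. -/
abbrev P276 : Type := Equiv.Perm (Fin 276)

/-- The image of a point under a coded permutation. -/
def fn (d i : ℕ) : ℕ := (d >>> (9 * i)) &&& 511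

/-- The image of a point under a product of coded permutations. -/
def app : List ℕ → ℕ → ℕ
  | [], i => i
  | d :: l, i => fn d (app l i)

/-- `d` codes a permutation whose order divides 12. -/
def valid (d : ℕ) : Bool :=
  (List.range 276).all fun i => decide (fn d i < 276) && app (List.replicate 12 d) i == i

/-- Equality of two products on all points. -/
def eqP (l r : List ℕ) : Bool := (List.range 276).all fun i => app l i == app r i

/-- The function of a code. -/
def tab (d : ℕ) (i : Fin 276) : Fin 276 :=
  if h : fn d i.val < 276 then ⟨fn d i.val, h⟩ else i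

/-- The permutation of a code. -/
noncomputable def toP (d : ℕ) : P276 :=
  if h : Function.Bijective (tab d) then Equiv.ofBijective _ h else 1

theorem bijective_tab {d : ℕ} (h : valid d = true) : Function.Bijective (tab d) := by
  simp only [valid, List.all_eq_true, List.mem_range, Bool.and_eq_true, decide_eq_true_eq, beq_iff_eq] at h
  have hit : ∀ (n : ℕ) (i : Fin 276), ((tab d)^[n] i).val = app (List.replicate n d) i.val := by
    intro n
    induction n with
    | zero => exact fun _ => rfl
    | succ n ih =>
      intro i
      rw [Function.iterate_succ_apply', List.replicate_succ, app, ← ih i, tab,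
        dif_pos (h _ ((tab d)^[n] i).isLt).1]
  refine Finite.injective_iff_bijective.1 fun x y hxy => Fin.ext ?_
  have h1 : (tab d)^[12] x = (tab d)^[12] y := congrArg ((tab d)^[11]) hxy
  rw [Fin.ext_iff, hit, hit, (h _ x.isLt).2, (h _ y.isLt).2] at h1
  exact h1

theorem toP_apply {d : ℕ} (h : valid d = true) (i : Fin 276) : (toP d i).val = fn d i.val := by
  rw [toP, dif_pos (bijective_tab h), Equiv.ofBijective_apply, tab]
  simp only [valid, List.all_eq_true, List.mem_range, Bool.and_eq_true, decide_eq_true_eq] at h
  rw [dif_pos (h _ i.isLt).1]

theorem prod_toP_apply : ∀ {l : List ℕ}, (∀ d ∈ l, valid d = true) → ∀ i : Fin 276,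
    ((l.map toP).prod i).val = app l i.val
  | [], _, _ => rfl
  | d :: l, h, i => by
    rw [List.map_cons, List.prod_cons, Equiv.Perm.mul_apply, toP_apply (h d List.mem_cons_self),
      prod_toP_apply fun e he => h e (List.mem_cons_of_mem _ he)]
    rfl

theorem prodP_eq {l r : List ℕ} (hl : ∀ d ∈ l, valid d = true) (hr : ∀ d ∈ r, valid d = true)
    (h : eqP l r = true) : (l.map toP).prod = (r.map toP).prod := by
  simp only [eqP, List.all_eq_true, List.mem_range, beq_iff_eq] at h
  refine Equiv.ext fun i => Fin.ext ?_
  rw [prod_toP_apply hl, prod_toP_apply hr, h _ i.isLt]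

/-- A word packed one hexadecimal digit a letter, each letter raised by one. -/
def unpackAux : ℕ → ℕ → List ℕ → List ℕ
  | 0, _, acc => acc
  | fuel + 1, w, acc => bif w == 0 then acc else unpackAux fuel (w >>> 4) (((w &&& 15) - 1) :: acc)

/-- The letters of a packed word. -/
def unpack (w : ℕ) : List ℕ := unpackAux 4096 w []

/-- The codes of the letters of a packed word. -/
def letters (tab : List ℕ) (w : ℕ) : List ℕ := (unpack w).map fun k => tab.getD k 0

/-- All letters of a packed word are below a bound. -/
def wordLT (b w : ℕ) : Bool := (unpack w).all fun k => decide (k < b)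

end Cfsg.Agent.CoThreeType
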