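/-
The double cover of `Sp6(2)` on 276 points (owner: helper27).

The seven lifts of transvections on 276 points generate the group `C0`; it is paired with `Sp6(2)`
through the 63 lifts, which it permutes up to sign as their images are permuted.

Main definitions (namespace `Cfsg.Agent.CoThreeType`): `C0`, `z0`, `g0`, `w276`.
Main results:
* `isCover_C0` : a non-split double cover of `Sp6(2)`
* `natCard_C0`, `letter_mem`, `z0_mem`, `z0_comm`
* `eq_of_base` : an element of `C0` is known by the images of the base points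
-/
import Cfsg.Agent.Lib.CoThreeType.Perms
import Cfsg.Agent.Lib.CoThreeType.Data
import Cfsg.Agent.Lib.Multiplier.Sp6Cover
import Cfsg.Agent.Lib.Leech.McLInvol.Centralizer

set_option autoImplicit false
set_option maxRecDepth 20000

namespace Cfsg.Agent.CoThreeType

open Multiplier

-- the certificate literals are only unfolded by the kernel
attribute [local irreducible] Data.negC Data.letterC Data.genC Data.liftC Data.letterW Data.genW Data.levels
  Data.roots Sp6Data.spin Sp6Data.lifts Sp6Data.neg Sp6Data.transv Sp6Data.tree Sp6Data.gens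

/-- The central involution. -/
noncomputable def z0 : P276 := toP Data.negC

/-- The lift of a generator of `Sp6(2)`. -/
noncomputable def tg (k : ℕ) : P276 := toP (Data.genC.getD k 0)

/-- The lift of a transvection. -/
noncomputable def lift (a : ℕ) : P276 := toP (Data.liftC.getD a 0)

/-- The seven lifts and the outer involution. -/
noncomputable def letter (k : ℕ) : P276 := toP (Data.letterC.getD k 0)

/-- The outer involution. -/
noncomputable def g0 : P276 := letter 7

/-- The value of a packed word in the letters. -/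
noncomputable def w276 (w : ℕ) : P276 := ((letters Data.letterC w).map toP).prod

/-- The codes are those of permutations. -/
def baseOK : Bool :=
  valid Data.negC && ((List.range 8).all fun k => valid (Data.letterC.getD k 0)) &&
  ((List.range 4).all fun k => valid (Data.genC.getD k 0)) &&
  (List.range 63).all fun a => valid (Data.liftC.getD a 0)

theorem check_base : baseOK = true := by decide +kernel

theorem neg_valid : valid Data.negC = true := by
  have h := check_base
  simp only [baseOK, Bool.and_eq_true] at h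
  exact h.1.1.1

theorem letter_valid {k : ℕ} (hk : k < 8) : valid (Data.letterC.getD k 0) = true := by
  have h := check_base
  simp only [baseOK, Bool.and_eq_true, List.all_eq_true, List.mem_range] at h
  exact h.1.1.2 k hk

theorem tg_valid {k : ℕ} (hk : k < 4) : valid (Data.genC.getD k 0) = true := by
  have h := check_base
  simp only [baseOK, Bool.and_eq_true, List.all_eq_true, List.mem_range] at h
  exact h.1.2 k hk

theorem lift_valid {a : ℕ} (ha : a < 63) : valid (Data.liftC.getD a 0) = true := by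
  have h := check_base
  simp only [baseOK, Bool.and_eq_true, List.all_eq_true, List.mem_range] at h
  exact h.2 a ha

theorem letters_valid {w : ℕ} (hw : wordLT 8 w = true) : ∀ d ∈ letters Data.letterC w, valid d = true := by
  simp only [wordLT, List.all_eq_true, decide_eq_true_eq] at hw
  intro d hd
  obtain ⟨k, hk, rfl⟩ := List.mem_map.1 hd
  exact letter_valid (hw k hk)

theorem w276_apply {w : ℕ} (hw : wordLT 8 w = true) (i : Fin 276) :
    (w276 w i).val = app (letters Data.letterC w) i.val := prod_toP_apply (letters_valid hw) i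

/-- The involution, the commutation and the cube relations. -/
def relOK : Bool :=
  eqP [Data.negC, Data.negC] [] && fn Data.negC 0 != 0 &&
  ((List.range 4).all fun k =>
    eqP [Data.genC.getD k 0, Data.negC] [Data.negC, Data.genC.getD k 0] &&
      eqP [Data.genC.getD k 0, Data.genC.getD k 0, Data.genC.getD k 0] []) &&
  (List.range 63).all fun a => eqP [Data.liftC.getD a 0, Data.negC] [Data.negC, Data.liftC.getD a 0]

theorem check_rel : relOK = true := by decide +kernel

theorem z0_sq : z0 * z0 = 1 := by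
  have h := check_rel
  simp only [relOK, Bool.and_eq_true] at h
  simpa [z0] using prodP_eq (l := [Data.negC, Data.negC]) (r := []) (by simp [neg_valid]) (by simp) h.1.1.1

theorem z0_ne_one : z0 ≠ 1 := fun h => by
  have h' := check_rel
  simp only [relOK, Bool.and_eq_true, bne_iff_ne] at h'
  have := congrArg Fin.val (Equiv.Perm.ext_iff.1 h (0 : Fin 276))
  rw [z0, toP_apply neg_valid] at this
  exact h'.1.1.2 this

theorem tg_spec {k : ℕ} (hk : k < 4) : tg k * z0 = z0 * tg k ∧ tg k * tg k * tg k = 1 := by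
  have h := check_rel
  simp only [relOK, Bool.and_eq_true, List.all_eq_true, List.mem_range] at h
  obtain ⟨h1, h2⟩ := h.1.2 k hk
  have hv := tg_valid hk
  obtain ⟨d, hd⟩ : ∃ d, d = Data.genC.getD k 0 := ⟨_, rfl⟩
  rw [← hd] at hv h1 h2
  rw [tg, z0, ← hd]
  have a1 := prodP_eq (l := [d, Data.negC]) (r := [Data.negC, d]) (by simp [hv, neg_valid])
    (by simp [hv, neg_valid]) h1
  have a2 := prodP_eq (l := [d, d, d]) (r := []) (by simp [hv]) (by simp) h2
  exact ⟨by simpa using a1, by simpa [mul_assoc] using a2⟩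

theorem lift_comm {a : ℕ} (ha : a < 63) : lift a * z0 = z0 * lift a := by
  have h := check_rel
  simp only [relOK, Bool.and_eq_true, List.all_eq_true, List.mem_range] at h
  have hv := lift_valid ha
  have h1 := h.2 a ha
  obtain ⟨d, hd⟩ : ∃ d, d = Data.liftC.getD a 0 := ⟨_, rfl⟩
  rw [← hd] at hv h1
  rw [lift, z0, ← hd]
  simpa using prodP_eq (l := [d, Data.negC]) (r := [Data.negC, d]) (by simp [hv, neg_valid])
    (by simp [hv, neg_valid]) h1

/-- The generators permute the signed lifts as they permute the transvections, and are signed products of two. -/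
def conjOK : Bool :=
  (List.range 4).all fun k =>
    let d := Data.genC.getD k 0
    let f := Sp6Data.factors.getD k (0, 0, 0)
    let p := Data.liftC.getD f.1 0
    let q := Data.liftC.getD f.2.1 0
    decide (f.1 < 63) && decide (f.2.1 < 63) &&
      Sp6Data.gens.getD k 0 == Sp6.mulC (Sp6Data.transv.getD f.1 0) (Sp6Data.transv.getD f.2.1 0) &&
      (eqP [d] [p, q] || eqP [d] [Data.negC, p, q]) &&
      (List.range 63).all fun a => (List.range 63).any fun b =>
        Sp6.mulC (Sp6Data.gens.getD k 0) (Sp6Data.transv.getD a 0) ==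
            Sp6.mulC (Sp6Data.transv.getD b 0) (Sp6Data.gens.getD k 0) &&
          (eqP [d, Data.liftC.getD a 0] [Data.liftC.getD b 0, d] ||
            eqP [d, Data.liftC.getD a 0] [Data.negC, Data.liftC.getD b 0, d])

theorem check_conj : conjOK = true := by decide +kernel

/-- Lifts equal up to sign belong to one transvection. -/
def distinctOK : Bool :=
  (List.range 63).all fun a => (List.range a).all fun b =>
    Sp6Data.transv.getD a 0 != Sp6Data.transv.getD b 0 &&
      !eqP [Data.liftC.getD a 0] [Data.liftC.getD b 0] &&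
      !eqP [Data.liftC.getD a 0] [Data.negC, Data.liftC.getD b 0]

theorem check_distinct : distinctOK = true := by decide +kernel

/-- The compatibility of a pair. -/
def Compat (x : P276 × Sp6.G0) : Prop :=
  x.1 * z0 = z0 * x.1 ∧ ∀ a < 63, ∃ b < 63, x.2 * Sp6.tv a = Sp6.tv b * x.2 ∧
    (x.1 * lift a = lift b * x.1 ∨ x.1 * lift a = z0 * lift b * x.1)

theorem compat_gen {k : ℕ} (hk : k < 4) : Compat (tg k, Sp6.gg k) := by
  refine ⟨(tg_spec hk).1, fun a ha => ?_⟩
  have h := check_conj
  simp only [conjOK, List.all_eq_true, List.mem_range, List.any_eq_true, Bool.and_eq_true,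
    Bool.or_eq_true, beq_iff_eq] at h
  obtain ⟨b, hb, hg, hm⟩ := (h k hk).2 a ha
  refine ⟨b, hb, ?_, ?_⟩
  · show Sp6.gg k * Sp6.tv a = Sp6.tv b * Sp6.gg k
    rw [Sp6.gg, Sp6.tv, Sp6.tv, ← Sp6.el_mul (Sp6.lift_spec hk).2.1 (Sp6.spin_spec ha).2,
      ← Sp6.el_mul (Sp6.spin_spec hb).2 (Sp6.lift_spec hk).2.1, hg]
  · have hv := tg_valid hk
    have hva := lift_valid ha
    have hvb := lift_valid hb
    obtain ⟨d, hd⟩ : ∃ d, d = Data.genC.getD k 0 := ⟨_, rfl⟩
    obtain ⟨p, hp⟩ : ∃ p, p = Data.liftC.getD a 0 := ⟨_, rfl⟩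
    obtain ⟨q, hq⟩ : ∃ q, q = Data.liftC.getD b 0 := ⟨_, rfl⟩
    show tg k * lift a = lift b * tg k ∨ tg k * lift a = z0 * lift b * tg k
    rw [tg, lift, lift, z0, ← hd, ← hp, ← hq]
    rw [← hd, ← hp, ← hq] at hm
    rw [← hd] at hv
    rw [← hp] at hva
    rw [← hq] at hvb
    rcases hm with hm | hm
    · exact Or.inl (by simpa using prodP_eq (l := [d, p]) (r := [q, d]) (by simp [hv, hva]) (by simp [hv, hvb]) hm)
    · have := prodP_eq (l := [d, p]) (r := [Data.negC, q, d]) (by simp [hv, hva])
        (by simp [hv, hvb, neg_valid]) hm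
      exact Or.inr (by simpa [mul_assoc] using this)

theorem Compat.mul {x y : P276 × Sp6.G0} (hx : Compat x) (hy : Compat y) : Compat (x * y) := by
  refine ⟨?_, fun a ha => ?_⟩
  · rw [Prod.fst_mul, mul_assoc, hy.1, ← mul_assoc, hx.1, mul_assoc]
  obtain ⟨b, hb, hg, hm⟩ := hy.2 a ha
  obtain ⟨c, hc, hg', hm'⟩ := hx.2 b hb
  refine ⟨c, hc, ?_, ?_⟩
  · rw [Prod.snd_mul, mul_assoc, hg, ← mul_assoc, hg', mul_assoc]
  · simp only [Prod.fst_mul]
    have hN : ∀ w, z0 * (z0 * w) = w := fun w => by rw [← mul_assoc, z0_sq, one_mul]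
    rcases hm with hm | hm <;> rcases hm' with hm' | hm'
    · left; rw [mul_assoc, hm, ← mul_assoc, hm', mul_assoc]
    · right; rw [mul_assoc, hm, ← mul_assoc, hm']; simp only [mul_assoc]
    · right
      rw [mul_assoc, hm, ← mul_assoc, ← mul_assoc, hx.1, mul_assoc z0, hm']; simp only [mul_assoc]
    · left
      rw [mul_assoc, hm, ← mul_assoc, ← mul_assoc, hx.1, mul_assoc z0, hm']; simp only [mul_assoc, hN]

/-- The paired group. -/
noncomputable def pairs : Subgroup (P276 × Sp6.G0) :=
  Subgroup.closure {x | ∃ k < 4, (tg k, Sp6.gg k) = x}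

theorem compat_of_mem {x : P276 × Sp6.G0} (hx : x ∈ pairs) : Compat x := by
  rw [pairs, ← Subgroup.mem_toSubmonoid, Subgroup.closure_toSubmonoid_of_finite] at hx
  induction hx using Submonoid.closure_induction_right with
  | one => exact ⟨by simp, fun a ha => ⟨a, ha, by simp, Or.inl (by simp)⟩⟩
  | mul_right y _ w hw ih =>
    obtain ⟨k, hk, rfl⟩ := hw
    exact ih.mul (compat_gen hk)

theorem gg_eq {k : ℕ} (hk : k < 4) :
    ∃ a < 63, ∃ b < 63, Sp6.gg k = Sp6.tv a * Sp6.tv b ∧
      (tg k = lift a * lift b ∨ tg k = z0 * (lift a * lift b)) := by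
  have h := check_conj
  simp only [conjOK, List.all_eq_true, List.mem_range, Bool.and_eq_true, Bool.or_eq_true, beq_iff_eq,
    decide_eq_true_eq] at h
  obtain ⟨⟨⟨⟨ha, hb⟩, hg⟩, hm⟩, -⟩ := h k hk
  refine ⟨_, ha, _, hb, ?_, ?_⟩
  · rw [Sp6.gg, Sp6.tv, Sp6.tv, ← Sp6.el_mul (Sp6.spin_spec ha).2 (Sp6.spin_spec hb).2, hg]
  · have hv := tg_valid hk
    have hva := lift_valid ha
    have hvb := lift_valid hb
    obtain ⟨d, hd⟩ : ∃ d, d = Data.genC.getD k 0 := ⟨_, rfl⟩
    obtain ⟨p, hp⟩ : ∃ p, p = Data.liftC.getD (Sp6Data.factors.getD k (0, 0, 0)).1 0 := ⟨_, rfl⟩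
    obtain ⟨q, hq⟩ : ∃ q, q = Data.liftC.getD (Sp6Data.factors.getD k (0, 0, 0)).2.1 0 := ⟨_, rfl⟩
    rw [tg, lift, lift, z0, ← hd, ← hp, ← hq]
    rw [← hd, ← hp, ← hq] at hm
    rw [← hd] at hv
    rw [← hp] at hva
    rw [← hq] at hvb
    rcases hm with hm | hm
    · exact Or.inl (by simpa using prodP_eq (l := [d]) (r := [p, q]) (by simp [hv]) (by simp [hva, hvb]) hm)
    · have := prodP_eq (l := [d]) (r := [Data.negC, p, q]) (by simp [hv]) (by simp [hva, hvb, neg_valid]) hm
      exact Or.inr (by simpa using this)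

theorem center_sp6 : Subgroup.center Sp6.G0 = ⊥ := by
  have hc := GLOrder.card_center_Sp (F := ZMod 2) (m := 3) (by norm_num)
  rw [Nat.card_zmod] at hc
  exact Subgroup.card_eq_one.1 hc

theorem closure_gg : Subgroup.closure {x | ∃ k < 4, Sp6.gg k = x} = (⊤ : Subgroup Sp6.G0) := by
  refine top_le_iff.1 fun x _ => ?_
  obtain ⟨⟨y, hy⟩, rfl⟩ := Sp6.covMap_surjective x
  have : Sp6.cov.map (MonoidHom.snd (Equiv.Perm (Fin 240)) Sp6.G0) ≤
      Subgroup.closure {x | ∃ k < 4, Sp6.gg k = x} := by
    rw [Sp6.cov, MonoidHom.map_closure, Subgroup.closure_le]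
    rintro _ ⟨_, ⟨k, hk, rfl⟩, rfl⟩
    exact Subgroup.subset_closure ⟨k, hk, rfl⟩
  exact this ⟨y, hy, rfl⟩

/-- The tree reaches every point of an orbit from its root, parents first; the points reached are returned. -/
def reach : List (ℕ × ℕ × ℕ) → List ℕ → Option (List ℕ)
  | [], seen => some seen
  | (p, q, k) :: l, seen =>
    bif seen.contains q && decide (q < 276) && decide (k < 4) && fn (Data.genC.getD k 0) q == p
    then reach l (p :: seen) else none

/-- Trees cover all points and their roots are separated by the words fixing them. -/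
def rootsOK : Bool :=
  (Data.roots.all fun r => decide (r.1 < 276) && (reach r.2.1 [r.1]).isSome &&
    r.2.2.all (fun w => wordLT 4 w && app (letters Data.genC w) r.1 == r.1) &&
    (List.range 276).all fun i =>
      i == r.1 || i == fn Data.negC r.1 || r.2.2.any fun w => app (letters Data.genC w) i != i) &&
  ((List.range 276).all fun i => Data.roots.any fun r => ((reach r.2.1 [r.1]).getD []).contains i) &&
  decide (Data.roots.length = 2) && fn Data.negC (Data.roots.getD 1 (0, [], [])).1 == (Data.roots.getD 1 (0, [], [])).1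

theorem check_roots : rootsOK = true := by decide +kernel

theorem fixed_of_reach {m : P276} (hm : ∀ k < 4, m * tg k = tg k * m) :
    ∀ (l : List (ℕ × ℕ × ℕ)) (seen out : List ℕ), reach l seen = some out →
      (∀ i : Fin 276, i.val ∈ seen → m i = i) → ∀ i : Fin 276, i.val ∈ out → m i = i
  | [], seen, out, h, hfix => by
    simp only [reach, Option.some.injEq] at h
    exact h ▸ hfix
  | (p, q, k) :: l, seen, out, h, hfix => by
    simp only [reach] at h
    cases hc : (seen.contains q && decide (q < 276) && decide (k < 4) && fn (Data.genC.getD k 0) q == p)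
    · rw [hc] at h; simp at h
    rw [hc, cond_true] at h
    simp only [Bool.and_eq_true, List.contains_iff_mem, decide_eq_true_eq, beq_iff_eq] at hc
    obtain ⟨⟨⟨hq, hq2⟩, hk⟩, hpq⟩ := hc
    refine fixed_of_reach hm l _ out h fun i hi => ?_
    rcases List.mem_cons.1 hi with hi | hi
    · have hiq : i = tg k ⟨q, hq2⟩ := Fin.ext (by rw [hi, tg, toP_apply (tg_valid hk), hpq])
      rw [hiq, ← Equiv.Perm.mul_apply, hm k hk, Equiv.Perm.mul_apply, hfix ⟨q, hq2⟩ hq]
    · exact hfix i hi

/-- A permutation commuting with the generators is trivial or the sign. -/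
theorem eq_one_or_z0_of_comm {m : P276} (hm : ∀ k < 4, m * tg k = tg k * m) : m = 1 ∨ m = z0 := by
  have h := check_roots
  simp only [rootsOK, Bool.and_eq_true, List.all_eq_true, List.any_eq_true, List.mem_range, decide_eq_true_eq,
    Bool.or_eq_true, beq_iff_eq, bne_iff_ne, List.contains_iff_mem] at h
  obtain ⟨⟨⟨hall, hcov⟩, hlen⟩, hneg⟩ := h
  have hw : ∀ w, wordLT 4 w = true → ∀ (m : P276), (∀ k < 4, m * tg k = tg k * m) → ∀ i : Fin 276,
      app (letters Data.genC w) i.val = i.val → app (letters Data.genC w) (m i).val = (m i).val := by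
    intro w hwlt m hm i hi
    simp only [wordLT, List.all_eq_true, decide_eq_true_eq] at hwlt
    have hv : ∀ d ∈ letters Data.genC w, valid d = true := fun d hd => by
      obtain ⟨k, hk, rfl⟩ := List.mem_map.1 hd
      exact tg_valid (hwlt k hk)
    have hc : Commute m ((letters Data.genC w).map toP).prod := by
      refine Commute.list_prod_right _ _ fun x hx => ?_
      obtain ⟨d, hd, rfl⟩ := List.mem_map.1 hx
      obtain ⟨k, hk, rfl⟩ := List.mem_map.1 hd
      exact hm k (hwlt k hk)
    have hfix : ((letters Data.genC w).map toP).prod i = i := Fin.ext (by rw [prod_toP_apply hv]; exact hi)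
    rw [← prod_toP_apply hv, ← Equiv.Perm.mul_apply, ← hc.eq, Equiv.Perm.mul_apply, hfix]
  -- the image of a root
  have himg : ∀ (m : P276), (∀ k < 4, m * tg k = tg k * m) → ∀ r ∈ Data.roots, ∀ i : Fin 276, i.val = r.1 →
      m i = i ∨ m i = z0 i := by
    intro m hm r hr i hi
    obtain ⟨⟨_, hfix⟩, hsep⟩ := hall r hr
    rcases hsep (m i).val (m i).isLt with (h | h) | ⟨w, hwm, h⟩
    · exact Or.inl (Fin.ext (h.trans hi.symm))
    · exact Or.inr (Fin.ext (by rw [z0, toP_apply neg_valid, h, hi]))
    · exact absurd (hw w (hfix w hwm).1 m hm i (by rw [hi]; exact (hfix w hwm).2)) h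
  have key : ∀ m : P276, (∀ k < 4, m * tg k = tg k * m) →
      (∀ r ∈ Data.roots, ∀ i : Fin 276, i.val = r.1 → m i = i) → m = 1 := by
    intro m hm hr
    refine Equiv.ext fun i => ?_
    obtain ⟨r, hrm, hri⟩ := hcov i.val i.isLt
    obtain ⟨out, ho⟩ := Option.isSome_iff_exists.1 (hall r hrm).1.1.2
    rw [ho, Option.getD_some] at hri
    exact fixed_of_reach hm _ _ out ho (fun j hj => hr r hrm j (List.mem_singleton.1 hj)) i hri
  obtain ⟨r0, hr0⟩ : ∃ r, r = Data.roots.getD 0 (0, [], []) := ⟨_, rfl⟩
  obtain ⟨r1, hr1⟩ : ∃ r, r = Data.roots.getD 1 (0, [], []) := ⟨_, rfl⟩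
  rw [← hr1] at hneg
  have hr0m : r0 ∈ Data.roots := by
    rw [hr0, List.getD_eq_getElem _ _ (by omega)]; exact List.getElem_mem _
  have hmem : ∀ r ∈ Data.roots, r = r0 ∨ r = r1 := fun r hr => by
    obtain ⟨n, hn, rfl⟩ := List.getElem_of_mem hr
    have : n = 0 ∨ n = 1 := by omega
    rcases this with rfl | rfl
    · exact Or.inl (by rw [hr0, List.getD_eq_getElem _ _ hn])
    · exact Or.inr (by rw [hr1, List.getD_eq_getElem _ _ hn])
  have hone : ∀ (m : P276), (∀ k < 4, m * tg k = tg k * m) → r1 ∈ Data.roots → ∀ i : Fin 276, i.val = r1.1 →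
      m i = i := fun m hm hr i hi => by
    rcases himg m hm r1 hr i hi with h | h
    · exact h
    · rw [h]; exact Fin.ext (by rw [z0, toP_apply neg_valid, hi, hneg])
  have hp : r0.1 < 276 := (hall r0 hr0m).1.1.1
  rcases himg m hm r0 hr0m ⟨r0.1, hp⟩ rfl with h0 | h0
  · refine Or.inl (key m hm fun r hr i hi => ?_)
    rcases hmem r hr with rfl | rfl
    · rw [show i = ⟨r.1, hp⟩ from Fin.ext hi]; exact h0
    · exact hone m hm hr i hi
  · right
    have hm' : ∀ k < 4, (z0 * m) * tg k = tg k * (z0 * m) := fun k hk => by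
      rw [mul_assoc, hm k hk, ← mul_assoc, ← (tg_spec hk).1, mul_assoc]
    have h1 : z0 * m = 1 := key _ hm' fun r hr i hi => by
      rcases hmem r hr with rfl | rfl
      · rw [show i = ⟨r.1, hp⟩ from Fin.ext hi, Equiv.Perm.mul_apply, h0, ← Equiv.Perm.mul_apply, z0_sq,
          Equiv.Perm.one_apply]
      · exact hone _ hm' hr i hi
    calc m = z0 * z0 * m := by rw [z0_sq, one_mul]
      _ = z0 := by rw [mul_assoc, h1, mul_one]

theorem kernel_snd {x : P276 × Sp6.G0} (hx : x ∈ pairs) (h1 : x.2 = 1) : x.1 = 1 ∨ x.1 = z0 := by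
  obtain ⟨hN, hc⟩ := compat_of_mem hx
  have hd := check_distinct
  simp only [distinctOK, List.all_eq_true, List.mem_range, Bool.and_eq_true, bne_iff_ne] at hd
  have hL : ∀ a < 63, x.1 * lift a = lift a * x.1 ∨ x.1 * lift a = z0 * lift a * x.1 := by
    intro a ha
    obtain ⟨b, hb, hg, hm⟩ := hc a ha
    rw [h1, one_mul, mul_one, Sp6.tv, Sp6.tv, Sp6.el_injOn (Sp6.spin_spec ha).2 (Sp6.spin_spec hb).2] at hg
    have hab : a = b := by
      rcases Nat.lt_trichotomy a b with hlt | heq | hgt
      · exact absurd hg.symm (hd b hb a hlt).1.1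
      · exact heq
      · exact absurd hg (hd a ha b hgt).1.1
    exact hab ▸ hm
  refine eq_one_or_z0_of_comm fun k hk => ?_
  obtain ⟨a, ha, b, hb, -, he⟩ := gg_eq hk
  have hz : ∀ w, z0 * (z0 * w) = w := fun w => by rw [← mul_assoc, z0_sq, one_mul]
  have hla : ∀ a < 63, ∀ w, lift a * (z0 * w) = z0 * (lift a * w) := fun a ha w => by
    rw [← mul_assoc, lift_comm ha, mul_assoc]
  have hsign : x.1 * tg k = tg k * x.1 ∨ x.1 * tg k = z0 * (tg k * x.1) := by
    have hxz : ∀ w, x.1 * (z0 * w) = z0 * (x.1 * w) := fun w => by rw [← mul_assoc, hN, mul_assoc]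
    rcases hL a ha with p | p <;> rcases hL b hb with q | q
    all_goals
      have p' := fun w => congrArg (fun v => v * w) p
      have q' := fun w => congrArg (fun v => v * w) q
      simp only [mul_assoc] at p q p' q'
    · left; rcases he with e | e <;> rw [e] <;> simp only [mul_assoc, hxz, p', q]
    · right; rcases he with e | e <;> rw [e] <;> simp only [mul_assoc, hxz, p', q, hla a ha]
    · right; rcases he with e | e <;> rw [e] <;> simp only [mul_assoc, hxz, p', q]
    · left; rcases he with e | e <;> rw [e] <;> simp only [mul_assoc, hxz, p', q, hla a ha, hz]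
  refine hsign.resolve_right fun h => z0_ne_one ?_
  obtain ⟨hcz, h3⟩ := tg_spec hk
  obtain ⟨t, ht⟩ : ∃ t, t = tg k := ⟨_, rfl⟩
  rw [← ht] at h hcz h3
  have hr : ∀ w, x.1 * (t * w) = z0 * (t * (x.1 * w)) := fun w => by
    rw [← mul_assoc, h]; simp only [mul_assoc]
  have htz : ∀ w, t * (z0 * w) = z0 * (t * w) := fun w => by rw [← mul_assoc, hcz, mul_assoc]
  have h33 : t * (t * t) = 1 := by rw [← mul_assoc, h3]
  have : x.1 = z0 * x.1 := by
    calc x.1 = x.1 * (t * (t * (t * 1))) := by rw [mul_one, h33, mul_one]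
      _ = z0 * (t * (t * (t * x.1))) := by rw [hr, hr, hr, mul_one]; simp only [htz, hz]
      _ = z0 * x.1 := by rw [← mul_assoc t t, ← mul_assoc (t * t) t x.1, h3, one_mul]
  exact mul_eq_right.1 this.symm

theorem kernel_fst {x : P276 × Sp6.G0} (hx : x ∈ pairs) (h1 : x.1 = 1) : x.2 = 1 := by
  obtain ⟨-, hc⟩ := compat_of_mem hx
  have hd := check_distinct
  simp only [distinctOK, List.all_eq_true, List.mem_range, Bool.and_eq_true, Bool.not_eq_true'] at hd
  have hne : ∀ a < 63, ∀ b < 63, b < a → lift a ≠ lift b ∧ lift a ≠ z0 * lift b := by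
    intro a ha b hb hlt
    obtain ⟨⟨-, e1⟩, e2⟩ := hd a ha b hlt
    have hva := lift_valid ha
    have hvb := lift_valid hb
    constructor <;> intro h
    · apply Bool.eq_false_iff.1 e1
      simp only [eqP, List.all_eq_true, List.mem_range, beq_iff_eq]
      intro i hi
      have := congrArg (fun p : P276 => (p ⟨i, hi⟩).val) h
      simp only [lift, toP_apply hva, toP_apply hvb] at this
      simpa [app] using this
    · apply Bool.eq_false_iff.1 e2
      simp only [eqP, List.all_eq_true, List.mem_range, beq_iff_eq]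
      intro i hi
      have := congrArg (fun p : P276 => (p ⟨i, hi⟩).val) h
      simp only [lift, z0, Equiv.Perm.mul_apply, toP_apply hva, toP_apply hvb, toP_apply neg_valid] at this
      simpa [app] using this
  have hT : ∀ a < 63, x.2 * Sp6.tv a = Sp6.tv a * x.2 := by
    intro a ha
    obtain ⟨b, hb, hg, hm⟩ := hc a ha
    rw [h1, one_mul, mul_one, mul_one] at hm
    have hab : a = b := by
      rcases Nat.lt_trichotomy a b with hlt | heq | hgt
      · rcases hm with hm | hm
        · exact absurd hm.symm (hne b hb a ha hlt).1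
        · refine absurd ?_ (hne b hb a ha hlt).2
          rw [hm, ← mul_assoc, z0_sq, one_mul]
      · exact heq
      · rcases hm with hm | hm
        · exact absurd hm (hne a ha b hb hgt).1
        · exact absurd hm (hne a ha b hb hgt).2
    exact hab ▸ hg
  have hcen : x.2 ∈ Subgroup.center Sp6.G0 := by
    refine Subgroup.mem_center_iff.2 fun g => ?_
    have hg : g ∈ Subgroup.closure {y | ∃ k < 4, Sp6.gg k = y} := closure_gg ▸ Subgroup.mem_top g
    have hle : Subgroup.closure {y | ∃ k < 4, Sp6.gg k = y} ≤ Subgroup.centralizer {x.2} := by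
      rw [Subgroup.closure_le]
      rintro y ⟨k, hk, rfl⟩
      obtain ⟨a, ha, b, hb, e, -⟩ := gg_eq hk
      rw [SetLike.mem_coe, Subgroup.mem_centralizer_singleton_iff, e, mul_assoc, ← hT b hb, ← mul_assoc,
        ← hT a ha, mul_assoc]
    exact Subgroup.mem_centralizer_singleton_iff.1 (hle hg)
  rwa [center_sp6, Subgroup.mem_bot] at hcen

/-- The double cover of `Sp6(2)` on 276 points. -/
noncomputable def C0 : Subgroup P276 := Subgroup.closure {x | ∃ k < 4, tg k = x}

theorem C0_eq : C0 = pairs.map (MonoidHom.fst P276 Sp6.G0) := by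
  rw [pairs, MonoidHom.map_closure, C0]
  congr 1
  ext x
  exact ⟨fun ⟨k, hk, e⟩ => ⟨_, ⟨k, hk, rfl⟩, e⟩, fun ⟨_, ⟨k, hk, e'⟩, e⟩ => ⟨k, hk, by rw [← e, ← e']; rfl⟩⟩

theorem tg_mem {k : ℕ} (hk : k < 4) : tg k ∈ C0 := Subgroup.subset_closure ⟨k, hk, rfl⟩

/-- The seven lifts and the four generators are words in each other; the square of a lift is the sign. -/
def letterOK : Bool :=
  ((List.range 7).all fun k => wordLT 4 (Data.letterW.getD k 0) &&
    eqP [Data.letterC.getD k 0] (letters Data.genC (Data.letterW.getD k 0))) &&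
  ((List.range 4).all fun k => wordLT 7 (Data.genW.getD k 0) &&
    eqP [Data.genC.getD k 0] (letters Data.letterC (Data.genW.getD k 0))) &&
  eqP [Data.letterC.getD 0 0, Data.letterC.getD 0 0] [Data.negC]

theorem check_letter : letterOK = true := by decide +kernel

theorem letter_mem {k : ℕ} (hk : k < 7) : letter k ∈ C0 := by
  have h := check_letter
  simp only [letterOK, Bool.and_eq_true, List.all_eq_true, List.mem_range] at h
  obtain ⟨hw, he⟩ := h.1.1 k hk
  simp only [wordLT, List.all_eq_true, decide_eq_true_eq] at hw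
  obtain ⟨W, hW⟩ : ∃ W, W = Data.letterW.getD k 0 := ⟨_, rfl⟩
  rw [← hW] at hw he
  have hl := letter_valid (k := k) (by omega)
  obtain ⟨d, hd⟩ : ∃ d, d = Data.letterC.getD k 0 := ⟨_, rfl⟩
  rw [← hd] at hl he
  have := prodP_eq (l := [d]) (by simp [hl]) (fun x hx => by
    obtain ⟨j, hj, rfl⟩ := List.mem_map.1 hx
    exact tg_valid (hw j hj)) he
  rw [List.map_singleton, List.prod_singleton] at this
  rw [letter, ← hd, this]
  refine Subgroup.list_prod_mem _ fun x hx => ?_
  obtain ⟨d, hd, rfl⟩ := List.mem_map.1 hx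
  obtain ⟨j, hj, rfl⟩ := List.mem_map.1 hd
  exact tg_mem (hw j hj)

theorem w276_mem {w : ℕ} (hw : wordLT 7 w = true) : w276 w ∈ C0 := by
  simp only [wordLT, List.all_eq_true, decide_eq_true_eq] at hw
  refine Subgroup.list_prod_mem _ fun x hx => ?_
  obtain ⟨d, hd, rfl⟩ := List.mem_map.1 hx
  obtain ⟨j, hj, rfl⟩ := List.mem_map.1 hd
  exact letter_mem (hw j hj)

theorem C0_eq_closure_letters : C0 = Subgroup.closure {x | ∃ k < 7, letter k = x} := by
  refine le_antisymm ?_ ((Subgroup.closure_le _).2 fun x ⟨k, hk, e⟩ => e ▸ letter_mem hk)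
  rw [C0, Subgroup.closure_le]
  rintro _ ⟨k, hk, rfl⟩
  have h := check_letter
  simp only [letterOK, Bool.and_eq_true, List.all_eq_true, List.mem_range] at h
  obtain ⟨hw, he⟩ := h.1.2 k hk
  simp only [wordLT, List.all_eq_true, decide_eq_true_eq] at hw
  obtain ⟨W, hW⟩ : ∃ W, W = Data.genW.getD k 0 := ⟨_, rfl⟩
  rw [← hW] at hw he
  have hl := tg_valid hk
  obtain ⟨d, hd⟩ : ∃ d, d = Data.genC.getD k 0 := ⟨_, rfl⟩
  rw [← hd] at hl he
  have := prodP_eq (l := [d]) (by simp [hl]) (fun x hx => by
    obtain ⟨j, hj, rfl⟩ := List.mem_map.1 hx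
    exact letter_valid (by have := hw j hj; omega)) he
  rw [List.map_singleton, List.prod_singleton] at this
  rw [SetLike.mem_coe, tg, ← hd, this]
  refine Subgroup.list_prod_mem _ fun x hx => ?_
  obtain ⟨d, hd, rfl⟩ := List.mem_map.1 hx
  obtain ⟨j, hj, rfl⟩ := List.mem_map.1 hd
  exact Subgroup.subset_closure ⟨j, hw j hj, rfl⟩

theorem letter_sq : letter 0 * letter 0 = z0 := by
  have h := check_letter
  simp only [letterOK, Bool.and_eq_true] at h
  have hv := letter_valid (k := 0) (by norm_num)
  have h0 := h.2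
  obtain ⟨d, hd⟩ : ∃ d, d = Data.letterC.getD 0 0 := ⟨_, rfl⟩
  rw [← hd] at hv h0
  rw [letter, z0, ← hd]
  simpa using prodP_eq (l := [d, d]) (r := [Data.negC]) (by simp [hv]) (by simp [neg_valid]) h0

theorem z0_mem : z0 ∈ C0 := letter_sq ▸ mul_mem (letter_mem (by norm_num)) (letter_mem (by norm_num))

theorem z0_comm {x : P276} (hx : x ∈ C0) : x * z0 = z0 * x := by
  rw [C0_eq] at hx
  obtain ⟨y, hy, rfl⟩ := hx
  exact (compat_of_mem hy).1

/-- The paired group and its first projection are isomorphic. -/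
noncomputable def pairsEquiv : ↥pairs ≃* ↥C0 :=
  MulEquiv.ofBijective
    (((MonoidHom.fst P276 Sp6.G0).comp pairs.subtype).codRestrict C0 fun x => C0_eq ▸ ⟨x, x.2, rfl⟩) ⟨by
      rw [← MonoidHom.ker_eq_bot_iff, Subgroup.eq_bot_iff_forall]
      intro x hx
      have h1 : x.1.1 = 1 := congrArg Subtype.val (MonoidHom.mem_ker.1 hx)
      exact Subtype.ext (Prod.ext h1 (kernel_fst x.2 h1)), fun y => by
      obtain ⟨p, hp, e⟩ := (C0_eq ▸ y.2 : (y : P276) ∈ pairs.map (MonoidHom.fst P276 Sp6.G0))
      exact ⟨⟨p, hp⟩, Subtype.ext e⟩⟩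

/-- The map onto `Sp6(2)`. -/
noncomputable def sigma : ↥C0 →* Sp6.G0 :=
  ((MonoidHom.snd P276 Sp6.G0).comp pairs.subtype).comp pairsEquiv.symm.toMonoidHom

theorem sigma_surjective : Function.Surjective sigma := by
  refine Function.Surjective.comp (g := ⇑((MonoidHom.snd P276 Sp6.G0).comp pairs.subtype)) ?_
    pairsEquiv.symm.surjective
  rw [← MonoidHom.range_eq_top, MonoidHom.range_comp, Subgroup.range_subtype, pairs, MonoidHom.map_closure,
    ← closure_gg]
  congr 1
  ext x
  exact ⟨fun ⟨_, ⟨k, hk, e'⟩, e⟩ => ⟨k, hk, by rw [← e, ← e']; rfl⟩, fun ⟨k, hk, e⟩ => ⟨_, ⟨k, hk, rfl⟩, e⟩⟩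

theorem sigma_ker {x : ↥C0} : sigma x = 1 ↔ (x : P276) = 1 ∨ (x : P276) = z0 := by
  constructor
  · intro h
    obtain ⟨p, rfl⟩ := pairsEquiv.surjective x
    simp only [sigma, MonoidHom.comp_apply, MulEquiv.coe_toMonoidHom, MulEquiv.symm_apply_apply] at h
    exact kernel_snd p.2 h
  · rintro (h | h)
    · rw [show x = 1 from Subtype.ext h, map_one]
    · have hc : sigma x ∈ Subgroup.center Sp6.G0 := Subgroup.mem_center_iff.2 fun g => by
        obtain ⟨y, rfl⟩ := sigma_surjective g
        rw [← map_mul, ← map_mul]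
        exact congrArg sigma (Subtype.ext (by rw [Subgroup.coe_mul, Subgroup.coe_mul, h, z0_comm y.2]))
      rwa [center_sp6, Subgroup.mem_bot] at hc

theorem card_ker : Nat.card sigma.ker = 2 := by
  rw [Nat.card_eq_two_iff]
  refine ⟨1, ⟨⟨z0, z0_mem⟩, MonoidHom.mem_ker.2 (sigma_ker.2 (Or.inr rfl))⟩, fun h => z0_ne_one ?_,
    Set.eq_univ_of_forall fun x => ?_⟩
  · exact (congrArg (fun y : sigma.ker => (y.1 : P276)) h).symm
  · rcases sigma_ker.1 (MonoidHom.mem_ker.1 x.2) with h | h
    · exact Or.inl (Subtype.ext (Subtype.ext h))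
    · exact Or.inr (Subtype.ext (Subtype.ext h))

/-- `C0` is a non-split double cover of `Sp6(2)`. -/
theorem isCover_C0 : Cfsg.IsNonsplitDoubleCover ↥C0 (Matrix.symplecticGroup (Fin 3) (ZMod 2)) :=
  Leech.McLInvol.isNonsplitDoubleCover_of_hom sigma sigma_surjective center_sp6 card_ker
    (fun x hx => Subgroup.mem_center_iff.2 fun y => Subtype.ext (by
      rcases sigma_ker.1 (MonoidHom.mem_ker.1 hx) with h | h
      · rw [Subgroup.coe_mul, Subgroup.coe_mul, h, mul_one, one_mul]
      · rw [Subgroup.coe_mul, Subgroup.coe_mul, h, z0_comm y.2]))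
    (x := ⟨letter 0, letter_mem (by norm_num)⟩)
    (MonoidHom.mem_ker.2 (sigma_ker.2 (Or.inr letter_sq)))
    (fun h => z0_ne_one (letter_sq ▸ congrArg Subtype.val h))

theorem natCard_C0 : Nat.card ↥C0 = 2903040 := by
  rw [Subgroup.card_eq_card_quotient_mul_card_subgroup sigma.ker, card_ker,
    Nat.card_congr (QuotientGroup.quotientKerEquivOfSurjective sigma sigma_surjective).toEquiv, Sp6.natCard_sp6]

/-- Witnesses of a chain of stabilisers: each level moves its point to distinct points, fixing earlier ones. -/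
def chainOK : List (ℕ × List ℕ) → List ℕ → Bool
  | [], _ => true
  | (b, ws) :: l, fixed =>
    decide (b < 276) && ws.all (fun w => wordLT 7 w &&
      fixed.all fun p => app (letters Data.letterC w) p == p) &&
    decide ((ws.map fun w => app (letters Data.letterC w) b).Nodup) && chainOK l (b :: fixed)

/-- The base points. -/
def basePts : List ℕ := Data.levels.map Prod.fst

theorem check_chain : (chainOK Data.levels [] &&
    decide ((Data.levels.map fun r => r.2.length).prod = 2903040)) = true := by decide +kernel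

/-- The elements of `C0` fixing the listed points. -/
noncomputable def fixing (l : List ℕ) : Subgroup P276 :=
  C0 ⊓ ⨅ i : Fin 276, ⨅ _ : i.val ∈ l, MulAction.stabilizer P276 i

theorem mem_fixing {l : List ℕ} {x : P276} :
    x ∈ fixing l ↔ x ∈ C0 ∧ ∀ i : Fin 276, i.val ∈ l → x i = i := by
  simp only [fixing, Subgroup.mem_inf, Subgroup.mem_iInf, MulAction.mem_stabilizer_iff, Equiv.Perm.smul_def]

theorem card_fixing : ∀ (l : List (ℕ × List ℕ)) (fixed : List ℕ), chainOK l fixed = true →
    (l.map fun r => r.2.length).prod * Nat.card ↥(fixing ((l.map Prod.fst).reverse ++ fixed)) ≤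
      Nat.card ↥(fixing fixed)
  | [], fixed, _ => by simp
  | (b, ws) :: l, fixed, h => by
    simp only [chainOK, Bool.and_eq_true, List.all_eq_true, decide_eq_true_eq, beq_iff_eq] at h
    obtain ⟨⟨⟨hb, hws⟩, hnd⟩, hl⟩ := h
    have ih := card_fixing l (b :: fixed) hl
    have hv : ∀ w ∈ ws, wordLT 8 w = true := fun w hw => by
      have := (hws w hw).1
      simp only [wordLT, List.all_eq_true, decide_eq_true_eq] at this ⊢
      exact fun k hk => (this k hk).trans (by norm_num)
    have hmem : ∀ w ∈ ws, w276 w ∈ fixing fixed := fun w hw => mem_fixing.2 ⟨w276_mem (hws w hw).1,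
      fun i hi => Fin.ext (by rw [w276_apply (hv w hw)]; exact (hws w hw).2 i.val hi)⟩
    have hsub : fixing (b :: fixed) ≤ fixing fixed := fun x hx =>
      mem_fixing.2 ⟨(mem_fixing.1 hx).1, fun i hi => (mem_fixing.1 hx).2 i (List.mem_cons_of_mem _ hi)⟩
    let f : Fin ws.length × ↥(fixing (b :: fixed)) → ↥(fixing fixed) := fun p =>
      ⟨w276 ws[p.1.val] * p.2.1, mul_mem (hmem _ (List.getElem_mem _)) (hsub p.2.2)⟩
    have hf : Function.Injective f := by
      rintro ⟨i, x⟩ ⟨j, y⟩ e
      have e' : w276 ws[i.val] * x.1 = w276 ws[j.val] * y.1 := congrArg Subtype.val e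
      have hp := congrArg (fun q : P276 => (q ⟨b, hb⟩).val) e'
      simp only [Equiv.Perm.mul_apply, (mem_fixing.1 x.2).2 ⟨b, hb⟩ List.mem_cons_self,
        (mem_fixing.1 y.2).2 ⟨b, hb⟩ List.mem_cons_self, w276_apply (hv _ (List.getElem_mem _))] at hp
      have hij : i = j := Fin.ext ((hnd.getElem_inj_iff (hi := by simp) (hj := by simp)).1 (by
        simpa using hp))
      subst hij
      exact Prod.ext rfl (Subtype.ext (mul_left_cancel e'))
    have hc := Nat.card_le_card_of_injective f hf
    rw [Nat.card_prod, Nat.card_fin] at hc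
    rw [List.map_cons, List.map_cons, List.prod_cons, List.reverse_cons, List.append_assoc,
      List.singleton_append, mul_assoc]
    exact (Nat.mul_le_mul_left _ ih).trans hc

/-- Two elements of `C0` agreeing on the base points are equal. -/
theorem eq_of_base {x y : P276} (hx : x ∈ C0) (hy : y ∈ C0)
    (h : ∀ i : Fin 276, i.val ∈ basePts → x i = y i) : x = y := by
  have hk := check_chain
  rw [Bool.and_eq_true, decide_eq_true_eq] at hk
  have hc := card_fixing Data.levels [] hk.1
  have hall : fixing [] = C0 := le_antisymm (fun z hz => (mem_fixing.1 hz).1)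
    fun z hz => mem_fixing.2 ⟨hz, fun i hi => by simp at hi⟩
  rw [hk.2, hall, natCard_C0, List.append_nil] at hc
  obtain ⟨L, hL⟩ : ∃ L, L = fixing (Data.levels.map Prod.fst).reverse := ⟨_, rfl⟩
  rw [← hL] at hc
  have hone : L = ⊥ := Subgroup.eq_bot_of_card_le L (by omega)
  have hmem : y⁻¹ * x ∈ L := by
    rw [hL]
    refine mem_fixing.2 ⟨mul_mem (inv_mem hy) hx, fun i hi => ?_⟩
    rw [Equiv.Perm.mul_apply, h i (List.mem_reverse.1 hi), Equiv.Perm.inv_eq_iff_eq]
  rw [hone, Subgroup.mem_bot] at hmem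
  exact (inv_mul_eq_one.1 hmem).symm

/-- Equality of two products on the base points. -/
def eqB (l r : List ℕ) : Bool := basePts.all fun i => app l i == app r i

/-- Two words in the seven lifts agreeing on the base points give one element. -/
theorem prod_eq_of_eqB {l r : List ℕ} (hl : ∀ d ∈ l, valid d = true) (hr : ∀ d ∈ r, valid d = true)
    (hlm : (l.map toP).prod ∈ C0) (hrm : (r.map toP).prod ∈ C0) (h : eqB l r = true) :
    (l.map toP).prod = (r.map toP).prod := by
  simp only [eqB, List.all_eq_true, beq_iff_eq] at h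
  exact eq_of_base hlm hrm fun i hi => Fin.ext (by rw [prod_toP_apply hl, prod_toP_apply hr, h _ hi])

end Cfsg.Agent.CoThreeType
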