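/-
Fast evaluation of words on the four base points (owner: helper27).

A word is read from its last digit; the images of the four base points are packed into one number.

Main definitions (namespace `Cfsg.Agent.CoThreeType`): `digs`, `wordOK`, `el`, `mulOK`, `eqWs`.
Main results: `el_prod_eq`, `el_mul_of_check`.
-/
import Cfsg.Agent.Lib.CoThreeType.Model

set_option autoImplicit false
set_option maxRecDepth 20000

namespace Cfsg.Agent.CoThreeType

attribute [local irreducible] Data.negC Data.letterC Data.levels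

/-- The code of a digit of a packed word. -/
def digC (a : ℕ) : ℕ := Data.letterC.getD (Nat.sub a 1) 0

/-- The codes of the digits of a word, read with a bound on their number. -/
def digs : ℕ → ℕ → List ℕ
  | 0, _ => []
  | f + 1, w => bif Nat.beq w 0 then [] else digs f (Nat.shiftRight w 4) ++ [digC (Nat.land w 15)]

/-- The codes of the digits of a word. -/
def codes (w : ℕ) : List ℕ := digs 64 w

/-- All digits are among one to seven and the word is short. -/
def wordOK (w : ℕ) : Bool :=
  Nat.rec (motive := fun _ => ℕ → Bool) (fun w => Nat.beq w 0)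
    (fun _ r w => bif Nat.beq w 0 then true else
      Nat.ble 1 (Nat.land w 15) && Nat.ble (Nat.land w 15) 7 && r (Nat.shiftRight w 4)) 64 w

/-- The image of a point, written with kernel operations only. -/
def fnK (d i : ℕ) : ℕ := Nat.land (Nat.shiftRight d (Nat.mul 9 i)) 511

theorem fnK_eq (d i : ℕ) : fnK d i = fn d i := rfl

/-- One digit acting on four packed points. -/
def four (d p : ℕ) : ℕ :=
  Nat.add (fnK d (Nat.land p 511)) (Nat.add (Nat.shiftLeft (fnK d (Nat.land (Nat.shiftRight p 9) 511)) 9)
    (Nat.add (Nat.shiftLeft (fnK d (Nat.land (Nat.shiftRight p 18) 511)) 18)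
      (Nat.shiftLeft (fnK d (Nat.shiftRight p 27)) 27)))

/-- A word acting on four packed points. -/
def appK (w p : ℕ) : ℕ :=
  Nat.rec (motive := fun _ => ℕ → ℕ → ℕ) (fun _ i => i)
    (fun _ r w i => bif Nat.beq w 0 then i else r (Nat.shiftRight w 4) (four (digC (Nat.land w 15)) i)) 64 w p

/-- A product of words acting on four packed points. -/
def appKs : List ℕ → ℕ → ℕ
  | [], p => p
  | w :: ws, p => appK w (appKs ws p)

/-- Four points in one number. -/
def pack (a b c e : ℕ) : ℕ := a + 2 ^ 9 * b + 2 ^ 18 * c + 2 ^ 27 * e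

/-- The packed base points. -/
def base0 : ℕ := pack (basePts.getD 0 0) (basePts.getD 1 0) (basePts.getD 2 0) (basePts.getD 3 0)

theorem fn_lt (d i : ℕ) : fn d i < 512 := Nat.lt_succ_of_le Nat.and_le_right

theorem four_pack {a b c : ℕ} (ha : a < 512) (hb : b < 512) (hc : c < 512) (d e : ℕ) :
    four d (pack a b c e) = pack (fn d a) (fn d b) (fn d c) (fn d e) := by
  have h : ∀ x : ℕ, x &&& 511 = x % 512 := fun x => Nat.and_two_pow_sub_one_eq_mod x 9
  have e1 : pack a b c e &&& 511 = a := by rw [h, pack]; omega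
  have e2 : (pack a b c e >>> 9) &&& 511 = b := by rw [h, Nat.shiftRight_eq_div_pow, pack]; omega
  have e3 : (pack a b c e >>> 18) &&& 511 = c := by rw [h, Nat.shiftRight_eq_div_pow, pack]; omega
  have e4 : pack a b c e >>> 27 = e := by rw [Nat.shiftRight_eq_div_pow, pack]; omega
  show fn d (pack a b c e &&& 511) + ((fn d ((pack a b c e >>> 9) &&& 511)) <<< 9 +
    ((fn d ((pack a b c e >>> 18) &&& 511)) <<< 18 + (fn d (pack a b c e >>> 27)) <<< 27)) = _
  rw [e1, e2, e3, e4]
  simp only [Nat.shiftLeft_eq, pack]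
  omega

theorem app_append : ∀ (l r : List ℕ) (i : ℕ), app (l ++ r) i = app l (app r i)
  | [], _, _ => rfl
  | d :: l, r, i => by rw [List.cons_append, app, app, app_append l r i]

theorem appK_eq : ∀ (f w a b c e : ℕ), a < 512 → b < 512 → c < 512 →
    (Nat.rec (motive := fun _ => ℕ → ℕ → ℕ) (fun _ i => i)
      (fun _ r w i => bif Nat.beq w 0 then i else r (Nat.shiftRight w 4) (four (digC (Nat.land w 15)) i)) f w
        (pack a b c e)) =
      pack (app (digs f w) a) (app (digs f w) b) (app (digs f w) c) (app (digs f w) e)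
  | 0, _, _, _, _, _, _, _, _ => rfl
  | f + 1, w, a, b, c, e, ha, hb, hc => by
    simp only [digs]
    cases hw : Nat.beq w 0
    · simp only [cond_false, app_append, four_pack ha hb hc]
      exact appK_eq f _ _ _ _ _ (fn_lt _ _) (fn_lt _ _) (fn_lt _ _)
    · simp only [cond_true]
      rfl

theorem wordOK_spec : ∀ f w, (Nat.rec (motive := fun _ => ℕ → Bool) (fun w => Nat.beq w 0)
    (fun _ r w => bif Nat.beq w 0 then true else
      Nat.ble 1 (Nat.land w 15) && Nat.ble (Nat.land w 15) 7 && r (Nat.shiftRight w 4)) f w) = true →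
    ∀ d ∈ digs f w, ∃ k < 7, Data.letterC.getD k 0 = d
  | 0, _, _ => by simp [digs]
  | f + 1, w, h => by
    simp only [digs]
    cases hw : Nat.beq w 0
    · simp only [hw, cond_false, Bool.and_eq_true, Nat.ble_eq] at h ⊢
      intro d hd
      rcases List.mem_append.1 hd with hd | hd
      · exact wordOK_spec f _ h.2 d hd
      · rw [List.mem_singleton] at hd
        exact ⟨Nat.land w 15 - 1, by omega, hd.symm⟩
    · simp

theorem codes_spec {w : ℕ} (h : wordOK w = true) : ∀ d ∈ codes w, ∃ k < 7, Data.letterC.getD k 0 = d :=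
  wordOK_spec 64 w h

theorem codes_valid {w : ℕ} (h : wordOK w = true) : ∀ d ∈ codes w, valid d = true := fun d hd => by
  obtain ⟨k, hk, rfl⟩ := codes_spec h d hd
  exact letter_valid (by omega)

/-- The permutation of a word. -/
noncomputable def wV (w : ℕ) : P276 := ((codes w).map toP).prod

theorem wV_mem {w : ℕ} (h : wordOK w = true) : wV w ∈ C0 := by
  refine Subgroup.list_prod_mem _ fun x hx => ?_
  obtain ⟨d, hd, rfl⟩ := List.mem_map.1 hx
  obtain ⟨k, hk, rfl⟩ := codes_spec h d hd
  exact letter_mem hk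

theorem wV_apply {w : ℕ} (h : wordOK w = true) (i : Fin 276) : (wV w i).val = app (codes w) i.val :=
  prod_toP_apply (codes_valid h) i

/-- The element of a word in the seven lifts. -/
noncomputable def el (w : ℕ) : ↥C0 := if h : wordOK w = true then ⟨wV w, wV_mem h⟩ else 1

theorem coe_el {w : ℕ} (h : wordOK w = true) : (el w : P276) = wV w := by rw [el, dif_pos h]

theorem el_zero : el 0 = 1 := Subtype.ext (by rw [coe_el (by decide)]; rfl)

/-- Two products of words agree. -/
def eqWs (l r : List ℕ) : Bool :=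
  (l.all wordOK) && (r.all wordOK) && Nat.beq (appKs l base0) (appKs r base0)

/-- A word is the product of the listed words. -/
def mulOK (w : ℕ) (ws : List ℕ) : Bool := eqWs [w] ws

theorem check_base0 : (decide (basePts.length = 4) && basePts.all fun i => decide (i < 276)) = true := by
  decide +kernel

theorem appKs_pack : ∀ {l : List ℕ}, (∀ w ∈ l, wordOK w = true) → ∀ a b c e : Fin 276,
    appKs l (pack a b c e) = pack ((l.map wV).prod a).val ((l.map wV).prod b).val ((l.map wV).prod c).val
      ((l.map wV).prod e).val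
  | [], _, _, _, _, _ => rfl
  | w :: l, h, a, b, c, e => by
    have hw := h w List.mem_cons_self
    have hlt : ∀ i : Fin 276, i.val < 512 := fun i => i.isLt.trans (by norm_num)
    rw [appKs, appKs_pack fun v hv => h v (List.mem_cons_of_mem _ hv)]
    rw [List.map_cons, List.prod_cons]
    simp only [Equiv.Perm.mul_apply, wV_apply hw]
    exact appK_eq 64 w _ _ _ _ (hlt _) (hlt _) (hlt _)

theorem el_prod_eq {l r : List ℕ} (h : eqWs l r = true) : (l.map el).prod = (r.map el).prod := by
  simp only [eqWs, Bool.and_eq_true, List.all_eq_true] at h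
  obtain ⟨⟨hl, hr⟩, he⟩ := h
  have he : appKs l base0 = appKs r base0 := Nat.eq_of_beq_eq_true he
  have hp : ∀ {t : List ℕ}, (∀ w ∈ t, wordOK w = true) → ((t.map el).prod : P276) = (t.map wV).prod := by
    intro t ht
    rw [SubmonoidClass.coe_list_prod, List.map_map]
    exact congrArg List.prod (List.map_congr_left fun v hv => coe_el (ht v hv))
  refine Subtype.ext (eq_of_base (SetLike.coe_mem _) (SetLike.coe_mem _) fun i hi => ?_)
  rw [hp hl, hp hr]
  have hk := check_base0
  simp only [Bool.and_eq_true, decide_eq_true_eq, List.all_eq_true] at hk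
  obtain ⟨hlen, hlt⟩ := hk
  obtain ⟨q, hq⟩ : ∃ q : List ℕ, q = basePts := ⟨_, rfl⟩
  rw [← hq] at hlen hlt hi
  have hlt' : ∀ n : Fin 4, q.getD n 0 < 276 := fun n => by
    rw [List.getD_eq_getElem _ _ (by omega)]; exact hlt _ (List.getElem_mem _)
  rw [base0, ← hq] at he
  obtain ⟨pa, hpa⟩ : ∃ x : Fin 276, x.val = q.getD 0 0 := ⟨⟨_, hlt' 0⟩, rfl⟩
  obtain ⟨pb, hpb⟩ : ∃ x : Fin 276, x.val = q.getD 1 0 := ⟨⟨_, hlt' 1⟩, rfl⟩
  obtain ⟨pc, hpc⟩ : ∃ x : Fin 276, x.val = q.getD 2 0 := ⟨⟨_, hlt' 2⟩, rfl⟩
  obtain ⟨pe, hpe⟩ : ∃ x : Fin 276, x.val = q.getD 3 0 := ⟨⟨_, hlt' 3⟩, rfl⟩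
  rw [← hpa, ← hpb, ← hpc, ← hpe, appKs_pack hl, appKs_pack hr] at he
  obtain ⟨n, hn, hni⟩ := List.getElem_of_mem hi
  have hi' : i.val = q.getD n 0 := by rw [List.getD_eq_getElem _ _ hn, hni]
  simp only [pack] at he
  have B := fun (p : P276) (x : Fin 276) => (p x).isLt
  have := B (l.map wV).prod pa; have := B (r.map wV).prod pa
  have := B (l.map wV).prod pb; have := B (r.map wV).prod pb
  have := B (l.map wV).prod pc; have := B (r.map wV).prod pc
  refine Fin.ext ?_
  have hn4 : n < 4 := by omega
  interval_cases n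
  · rw [show i = pa from Fin.ext (hi'.trans hpa.symm)]; omega
  · rw [show i = pb from Fin.ext (hi'.trans hpb.symm)]; omega
  · rw [show i = pc from Fin.ext (hi'.trans hpc.symm)]; omega
  · rw [show i = pe from Fin.ext (hi'.trans hpe.symm)]; omega

theorem el_mul_of_check {w : ℕ} {ws : List ℕ} (h : mulOK w ws = true) : el w = (ws.map el).prod := by
  rw [← el_prod_eq h, List.map_singleton, List.prod_singleton]

end Cfsg.Agent.CoThreeType
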