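/-
The checks of the certificate on double cosets (owner: helper27).

Main definitions (namespace `Cfsg.Agent.CoThreeType`): `outerOK`, `kPartOK`, `stepOK`, `coverOK`, `repsOK`.
-/
import Cfsg.Agent.Lib.CoThreeType.Keys
import Cfsg.Agent.Lib.CoThreeType.ClosureData

set_option autoImplicit false
set_option maxRecDepth 20000

namespace Cfsg.Agent.CoThreeType

/-- The element `g0` squares to the identity; the generators and moves hold in the model. -/
def outerOK : Bool :=
  eqP [Data.letterC.getD 7 0, Data.letterC.getD 7 0] [] &&
  (ClosureData.kGens.all fun p => wordOK p.1 && wordOK p.2 &&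
    eqP (codes p.1 ++ [Data.letterC.getD 7 0]) (Data.letterC.getD 7 0 :: codes p.2)) &&
  ClosureData.moves.all fun m => wordOK m.2.1 && wordOK m.2.2.1 && wordOK m.2.2.2.1 &&
    eqP (Data.letterC.getD 7 0 :: (codes m.2.1 ++ [Data.letterC.getD 7 0]))
      (codes m.2.2.1 ++ Data.letterC.getD 7 0 :: codes m.2.2.2.1)

/-- An element of the centralizer of the pair. -/
def kWord (n : ℕ) : ℕ := (ClosureData.kTab.get n).1

/-- Its image. -/
def kImage (n : ℕ) : ℕ := (ClosureData.kTab.get n).2.1

/-- The number of entries. -/
def kSize : ℕ := 3583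

/-- The entries are products of the generators, as are the images. -/
def kPartOK (c : ℕ) : Bool :=
  (List.range 500).all fun r =>
    let n := 500 * c + r
    decide (kSize ≤ n) ||
      bif n == 0 then mulOK (kWord 0) [] && mulOK (kImage 0) [] else
        let q := ClosureData.kTab.get n
        let gen := ClosureData.kGens.getD q.2.2.2 (0, 0)
        decide (q.2.2.1 < n) && decide (q.2.2.2 < ClosureData.kGens.length) &&
          mulOK (kWord n) [kWord q.2.2.1, gen.1] && mulOK (kImage n) [kImage q.2.2.1, gen.2]

/-- A representative of a coset. -/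
def cw (e : ℕ) : ℕ := ClosureData.crep.get e

/-- An entry of the list of edges. -/
def factAt (n : ℕ) : ℕ × ℕ × ℕ × ℕ × ℕ × ℕ × ℕ × ℕ × ℕ × ℕ :=
  ClosureData.facts.get n

/-- The path of representatives to a double coset. -/
def path : ℕ → ℕ → List ℕ
  | 0, _ => []
  | fuel + 1, j => bif decide (j < 2) then [] else
      path fuel (ClosureData.parents.getD (j - 2) (0, 0)).1 ++ [(ClosureData.parents.getD (j - 2) (0, 0)).2]

/-- The path to a double coset. -/
def pathTo (j : ℕ) : List ℕ := path 7 j

/-- One edge follows from earlier ones. -/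
def stepOK (n : ℕ) : Bool :=
  let f := factAt n
  let i := f.2.1
  let e := f.2.2.1
  let j := f.2.2.2.1
  let b := f.2.2.2.2.1
  let s := f.2.2.2.2.2.1
  let s' := f.2.2.2.2.2.2.1
  let mi := f.2.2.2.2.2.2.2.1
  let ka := f.2.2.2.2.2.2.2.2.1
  let kb := f.2.2.2.2.2.2.2.2.2
  decide (e < 630) && decide (i < 7) && decide (j < 7) &&
  bif f.1 == 0 then decide (1 ≤ i) && decide (1 ≤ j) && pathTo j == pathTo i ++ [e] && mulOK b []
  else bif f.1 == 1 then i == 0 && j == 1 && mulOK b []
  else bif f.1 == 2 then
    let p := factAt s
    decide (s < n) && decide (ka < kSize) && p.2.2.2.1 == i && p.2.1 == j &&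
      mulOK (cw e) [p.2.2.2.2.1, kWord ka] && mulOK b [cw p.2.2.1, kImage ka]
  else
    let p := factAt s
    let q := factAt s'
    let m := ClosureData.moves.getD mi (0, 0, 0, 0, 0)
    decide (s < n) && decide (s' < n) && decide (mi < ClosureData.moves.length) && decide (ka < kSize) &&
      decide (kb < kSize) && decide (m.1 < kSize) && p.2.1 == i && q.2.1 == p.2.2.2.1 && q.2.2.2.1 == j &&
      mulOK 0 [m.2.2.2.1, m.2.2.2.2] &&
      eqWs [cw q.2.2.1, kWord ka] [p.2.2.2.2.1, kWord m.1, m.2.1] &&
      mulOK (cw e) [cw p.2.2.1, kImage m.1, m.2.2.1, kWord kb] &&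
      mulOK b [q.2.2.2.2.1, kImage ka, m.2.2.2.2, kImage kb]

/-- One part of the list of edges. -/
def factsPartOK (c : ℕ) : Bool := (List.range 500).all fun r => decide (4410 ≤ 500 * c + r) || stepOK (500 * c + r)

/-- The letters permute the representatives, which cover the cosets, and every edge is listed. -/
def coverOK : Bool :=
  decide (ClosureData.one.1 < 630) && decide (ClosureData.one.2 < kSize) &&
  mulOK 0 [cw ClosureData.one.1, kWord ClosureData.one.2] &&
  ((List.range 630).all fun e => (List.range 7).all fun l =>
    let q := (ClosureData.cosets.get (7 * e + l))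
    decide (q.1 < 630) && decide (q.2 < kSize) && eqWs [l + 1, cw e] [cw q.1, kWord q.2]) &&
  (List.range 7).all fun i => (List.range 630).all fun e =>
    let n := ClosureData.index_.get (630 * i + e)
    decide (n < 4410) && (factAt n).2.1 == i && (factAt n).2.2.1 == e

/-- Points moved by the further representatives and by the sign in different orders. -/
def repsOK : Bool :=
  (List.range 7).all fun j => j == 0 ||
    (let l := Data.letterC.getD 7 0 :: ((pathTo j).map fun e =>
      codes (cw e) ++ [Data.letterC.getD 7 0]).flatten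
    ((pathTo j).all fun e => wordOK (cw e)) && !eqP (l ++ [Data.negC]) (Data.negC :: l))

end Cfsg.Agent.CoThreeType
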