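/-
Kernel checks: the derivations of the edges, first half (owner: helper27).
-/
import Cfsg.Agent.Lib.CoThreeType.ClosureDefs

set_option autoImplicit false
set_option maxRecDepth 20000

namespace Cfsg.Agent.CoThreeType

theorem check_f0 : factsPartOK 0 = true := by decide +kernel
theorem check_f1 : factsPartOK 1 = true := by decide +kernel
theorem check_f2 : factsPartOK 2 = true := by decide +kernel
theorem check_f3 : factsPartOK 3 = true := by decide +kernel
theorem check_f4 : factsPartOK 4 = true := by decide +kernel

end Cfsg.Agent.CoThreeType
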