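/-
Kernel checks: the table of the centralizer of the pair, the outer relations and the cover (owner: helper27).
-/
import Cfsg.Agent.Lib.CoThreeType.ClosureDefs

set_option autoImplicit false
set_option maxRecDepth 20000

namespace Cfsg.Agent.CoThreeType

theorem check_kSize : kSize ≤ 500 * 8 := by decide +kernel
theorem check_k0 : kPartOK 0 = true := by decide +kernel
theorem check_k1 : kPartOK 1 = true := by decide +kernel
theorem check_k2 : kPartOK 2 = true := by decide +kernel
theorem check_k3 : kPartOK 3 = true := by decide +kernel
theorem check_k4 : kPartOK 4 = true := by decide +kernel
theorem check_k5 : kPartOK 5 = true := by decide +kernel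
theorem check_k6 : kPartOK 6 = true := by decide +kernel
theorem check_k7 : kPartOK 7 = true := by decide +kernel
theorem check_cover : coverOK = true := by decide +kernel
theorem check_outer : outerOK = true := by decide +kernel
theorem check_reps : repsOK = true := by decide +kernel

end Cfsg.Agent.CoThreeType
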