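/-
The double cosets of `C0` in the group generated by its copy and one involution (owner: helper27).

Main definitions (namespace `Cfsg.Agent.CoThreeType`): `el`, `T0`, `Amalgam`.
Main results:
* `el_mul_of_check`
* `Amalgam.exists_hom` : the amalgam relations give an injective image of `T0`
* `centralizer_z0` : `C0` is the centralizer of `z0` in `T0`
-/
import Cfsg.Agent.Lib.CoThreeType.ClosureCheckK
import Cfsg.Agent.Lib.CoThreeType.ClosureCheckF
import Cfsg.Agent.Lib.CoThreeType.ClosureCheckG
import Cfsg.Agent.Lib.CoThreeType.DoubleCosets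
import Mathlib.Algebra.Group.Subgroup.Map

set_option autoImplicit false
set_option maxRecDepth 20000

namespace Cfsg.Agent.CoThreeType

open DoubleCosets

attribute [local irreducible] Data.negC Data.letterC Data.levels ClosureData.uW ClosureData.kGens
  ClosureData.kTab ClosureData.moves ClosureData.crep ClosureData.one ClosureData.cosets ClosureData.parents
  ClosureData.facts ClosureData.index_

/-- The group generated by `C0` and the outer involution. -/
noncomputable def T0 : Subgroup P276 := C0 ⊔ Subgroup.zpowers g0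

theorem C0_le_T0 : C0 ≤ T0 := le_sup_left

theorem g0_mem_T0 : g0 ∈ T0 := Subgroup.mem_sup_right (Subgroup.mem_zpowers g0)

theorem g0_sq : g0 * g0 = 1 := by
  have h := check_outer
  simp only [outerOK, Bool.and_eq_true] at h
  have hv := letter_valid (k := 7) (by norm_num)
  have h0 := h.1.1
  obtain ⟨d, hd⟩ : ∃ d, d = Data.letterC.getD 7 0 := ⟨_, rfl⟩
  rw [← hd] at hv h0
  rw [g0, letter, ← hd]
  simpa using prodP_eq (l := [d, d]) (r := []) (by simp [hv]) (by simp) h0

theorem kGens_model {p : ℕ × ℕ} (hp : p ∈ ClosureData.kGens) :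
    (el p.1 : P276) * g0 = g0 * (el p.2 : P276) := by
  have h := check_outer
  simp only [outerOK, Bool.and_eq_true, List.all_eq_true] at h
  obtain ⟨⟨h1, h2⟩, he⟩ := h.1.2 p hp
  have hv := letter_valid (k := 7) (by norm_num)
  have v1 := codes_valid h1
  have v2 := codes_valid h2
  obtain ⟨d, hd⟩ : ∃ d, d = Data.letterC.getD 7 0 := ⟨_, rfl⟩
  rw [← hd] at hv he
  rw [coe_el h1, coe_el h2, g0, letter, ← hd, wV, wV]
  simpa [List.map_append] using prodP_eq (by
      intro x hx
      rcases List.mem_append.1 hx with hx | hx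
      · exact v1 x hx
      · exact (List.mem_singleton.1 hx) ▸ hv)
    (by
      intro x hx
      rcases List.mem_cons.1 hx with hx | hx
      · exact hx ▸ hv
      · exact v2 x hx) he

theorem moves_model {m : ℕ × ℕ × ℕ × ℕ × ℕ} (hm : m ∈ ClosureData.moves) :
    g0 * (el m.2.1 : P276) * g0 = (el m.2.2.1 : P276) * g0 * (el m.2.2.2.1 : P276) := by
  have h := check_outer
  simp only [outerOK, Bool.and_eq_true, List.all_eq_true] at h
  obtain ⟨⟨⟨h1, h2⟩, h3⟩, he⟩ := h.2 m hm
  have hv := letter_valid (k := 7) (by norm_num)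
  have v1 := codes_valid h1
  have v2 := codes_valid h2
  have v3 := codes_valid h3
  obtain ⟨d, hd⟩ : ∃ d, d = Data.letterC.getD 7 0 := ⟨_, rfl⟩
  rw [← hd] at hv he
  rw [coe_el h1, coe_el h2, coe_el h3, g0, letter, ← hd, wV, wV, wV]
  simpa [List.map_append, mul_assoc] using prodP_eq (by
      intro x hx
      rcases List.mem_cons.1 hx with hx | hx
      · exact hx ▸ hv
      rcases List.mem_append.1 hx with hx | hx
      · exact v1 x hx
      · exact (List.mem_singleton.1 hx) ▸ hv)
    (by
      intro x hx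
      rcases List.mem_append.1 hx with hx | hx
      · exact v2 x hx
      rcases List.mem_cons.1 hx with hx | hx
      · exact hx ▸ hv
      · exact v3 x hx) he

theorem check_k {n : ℕ} (hn : n < kSize) : (500 * (n / 500) + n % 500 = n) ∧ kPartOK (n / 500) = true := by
  refine ⟨Nat.div_add_mod n 500, ?_⟩
  have h : n / 500 < 8 := by have := check_kSize; omega
  generalize n / 500 = c at h ⊢
  interval_cases c
  exacts [check_k0, check_k1, check_k2, check_k3, check_k4, check_k5, check_k6, check_k7]

theorem check_step {n : ℕ} (hn : n < 4410) : stepOK n = true := by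
  have h : factsPartOK (n / 500) = true := by
    have h : n / 500 < 9 := by omega
    generalize n / 500 = c at h ⊢
    interval_cases c
    exacts [check_f0, check_f1, check_f2, check_f3, check_f4, check_f5, check_f6, check_f7, check_f8]
  simp only [factsPartOK, List.all_eq_true, List.mem_range, Bool.or_eq_true, decide_eq_true_eq] at h
  have h' := h (n % 500) (Nat.mod_lt _ (by norm_num))
  rw [Nat.div_add_mod] at h'
  exact h'.resolve_left (by omega)

section

variable {G : Type*} [Group G]

/-- The amalgam relations for a homomorphism of `C0` and an involution. -/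
structure Amalgam (θ : ↥C0 →* G) (g : G) : Prop where
  sq : g * g = 1
  kgen : ∀ p ∈ ClosureData.kGens, θ (el p.1) * g = g * θ (el p.2)
  move : ∀ m ∈ ClosureData.moves, g * θ (el m.2.1) * g = θ (el m.2.2.1) * g * θ (el m.2.2.2.1)

variable (θ : ↥C0 →* G) (g : G)

/-- The pair of an element of `C0`. -/
noncomputable def pairHom : ↥C0 →* G × P276 := θ.prod C0.subtype

/-- The pair of a word. -/
noncomputable def ct (w : ℕ) : G × P276 := pairHom θ (el w)

/-- The pairs of the representatives of the double cosets. -/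
noncomputable def rep (j : Fin 7) : G × P276 :=
  bif j.val == 0 then 1 else (g, g0) * ((pathTo j.val).map fun e => ct θ (cw e) * (g, g0)).prod

variable {θ g}

theorem ct_mul {w : ℕ} {ws : List ℕ} (h : mulOK w ws = true) : ct θ w = (ws.map (ct θ)).prod := by
  rw [ct, el_mul_of_check h, map_list_prod, List.map_map]
  rfl

theorem ct_mem (w : ℕ) : ct θ w ∈ (pairHom θ).range := ⟨el w, rfl⟩

theorem pair_sq (A : Amalgam θ g) : ((g, g0) : G × P276) * (g, g0) = 1 := Prod.ext A.sq g0_sq

theorem k_shift (A : Amalgam θ g) : ∀ n < kSize,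
    ct θ (kWord n) * (g, g0) = (g, g0) * ct θ (kImage n) := by
  intro n
  induction n using Nat.strong_induction_on with
  | _ n ih =>
    intro hn
    obtain ⟨he, hk⟩ := check_k hn
    simp only [kPartOK, List.all_eq_true, List.mem_range, Bool.or_eq_true, decide_eq_true_eq] at hk
    have h := (hk (n % 500) (Nat.mod_lt _ (by norm_num))).resolve_left (by omega)
    rw [he] at h
    rcases Nat.eq_zero_or_pos n with h0 | h0
    · subst h0
      simp only [beq_self_eq_true, cond_true, Bool.and_eq_true] at h
      rw [ct_mul h.1, ct_mul h.2]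
      simp
    · rw [show (n == 0) = false by simpa using h0.ne', cond_false] at h
      simp only [Bool.and_eq_true, decide_eq_true_eq] at h
      obtain ⟨⟨⟨hp, hg⟩, hw⟩, hi⟩ := h
      obtain ⟨q, hq⟩ : ∃ q, q = ClosureData.kTab.get n := ⟨_, rfl⟩
      rw [← hq] at hp hg hw hi
      obtain ⟨gen, hgen⟩ : ∃ p, p = ClosureData.kGens.getD q.2.2.2 (0, 0) := ⟨_, rfl⟩
      rw [← hgen] at hw hi
      have hgm : gen ∈ ClosureData.kGens := by
        rw [hgen, List.getD_eq_getElem _ _ hg]; exact List.getElem_mem _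
      have hgs : ct θ gen.1 * (g, g0) = (g, g0) * ct θ gen.2 :=
        Prod.ext (A.kgen gen hgm) (kGens_model hgm)
      rw [ct_mul hw, ct_mul hi]
      simp only [List.map_cons, List.map_nil, List.prod_cons, List.prod_nil, mul_one]
      rw [mul_assoc, hgs, ← mul_assoc, ih _ hp (by omega), mul_assoc]

theorem fact_holds (A : Amalgam θ g) : ∀ n < 4410, ∀ i j : Fin 7, i.val = (factAt n).2.1 →
    j.val = (factAt n).2.2.2.1 →
    Fct (pairHom θ).range (rep θ g) (g, g0) i (ct θ (cw (factAt n).2.2.1)) j (ct θ (factAt n).2.2.2.2.1) := by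
  intro n
  induction n using Nat.strong_induction_on with
  | _ n ih =>
    intro hn i j hi hj
    have h := check_step hn
    simp only [stepOK] at h
    obtain ⟨f, hf⟩ : ∃ f, f = factAt n := ⟨_, rfl⟩
    rw [← hf] at h hi hj ⊢
    obtain ⟨kind, fi, e, fj, b, s, s', mi, ka, kb⟩ := f
    simp only [Bool.and_eq_true, decide_eq_true_eq] at h
    obtain ⟨-, h⟩ := h
    simp only at hi hj ⊢
    cases h0 : kind == 0
    · rw [h0, cond_false] at h
      cases h1 : kind == 1
      · rw [h1, cond_false] at h
        cases h2 : kind == 2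
        · rw [h2, cond_false] at h
          simp only [Bool.and_eq_true, decide_eq_true_eq, beq_iff_eq] at h
          obtain ⟨⟨⟨⟨⟨⟨⟨⟨⟨⟨⟨⟨hs, hs'⟩, hmi⟩, hka⟩, hkb⟩, hk0⟩, hpi⟩, hqj⟩, hql⟩, hinv⟩, heq⟩, hc⟩, hb⟩ := h
          obtain ⟨p, hp⟩ : ∃ p, p = factAt s := ⟨_, rfl⟩
          obtain ⟨q, hq⟩ : ∃ q, q = factAt s' := ⟨_, rfl⟩
          obtain ⟨m, hm⟩ : ∃ m, m = ClosureData.moves.getD mi (0, 0, 0, 0, 0) := ⟨_, rfl⟩
          rw [← hp] at hpi hqj heq hc
          rw [← hq] at hqj hql heq hb
          rw [← hm] at hk0 hinv heq hc hb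
          have hsn : s < 4410 := by omega
          have hs'n : s' < 4410 := by omega
          have hpj : p.2.2.2.1 < 7 := by
            have := check_step hsn
            simp only [stepOK, ← hp, Bool.and_eq_true, decide_eq_true_eq] at this
            exact this.1.2
          have F1 := ih s hs hsn i ⟨p.2.2.2.1, hpj⟩ (by rw [← hp]; omega) (by rw [← hp])
          have F2 := ih s' hs' hs'n ⟨p.2.2.2.1, hpj⟩ j (by rw [← hq]; exact hqj.symm) (by rw [← hq]; omega)
          rw [← hp] at F1
          rw [← hq] at F2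
          have hmm : m ∈ ClosureData.moves := by
            rw [hm, List.getD_eq_getElem _ _ hmi]; exact List.getElem_mem _
          have hmove : (g, g0) * ct θ m.2.1 * (g, g0) = ct θ m.2.2.1 * (g, g0) * ct θ m.2.2.2.1 :=
            Prod.ext (A.move m hmm) (moves_model hmm)
          have hk := k_shift A m.1 hk0
          -- the move behind a central part
          have hmove' : (g, g0) * (ct θ (kWord m.1) * ct θ m.2.1) * (g, g0) =
              ct θ (kImage m.1) * ct θ m.2.2.1 * (g, g0) * ct θ m.2.2.2.1 := by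
            have hk' : (g, g0) * ct θ (kWord m.1) = ct θ (kImage m.1) * (g, g0) := by
              calc (g, g0) * ct θ (kWord m.1) = (g, g0) * (ct θ (kWord m.1) * (g, g0)) * (g, g0) := by
                    rw [mul_assoc, mul_assoc (ct θ (kWord m.1)), pair_sq A, mul_one]
                _ = ct θ (kImage m.1) * (g, g0) := by rw [hk, ← mul_assoc, pair_sq A, one_mul]
            rw [← mul_assoc, hk', mul_assoc (ct θ (kImage m.1)), mul_assoc (ct θ (kImage m.1)), hmove]
            simp only [mul_assoc]
          have F2' := F2.shift (k_shift A ka hka)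
          have hel : el (cw q.2.2.1) * el (kWord ka) = el p.2.2.2.2.1 * (el (kWord m.1) * el m.2.1) := by
            simpa [mul_assoc] using el_prod_eq heq
          have hel' : ct θ (cw q.2.2.1) * ct θ (kWord ka) =
              ct θ p.2.2.2.2.1 * (ct θ (kWord m.1) * ct θ m.2.1) := by
            simp only [ct, ← map_mul, hel]
          rw [hel'] at F2'
          have F := (F1.tri F2' hmove').shift (k_shift A kb hkb)
          have hinv' : (ct θ m.2.2.2.1)⁻¹ = ct θ m.2.2.2.2 := by
            have := ct_mul (θ := θ) hinv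
            simp only [List.map_cons, List.map_nil, List.prod_cons, List.prod_nil, mul_one] at this
            refine inv_eq_of_mul_eq_one_right (this.symm.trans ?_)
            rw [ct, el_zero, map_one]
          rw [hinv'] at F
          rw [ct_mul hc, ct_mul hb]
          simpa only [List.map_cons, List.map_nil, List.prod_cons, List.prod_nil, mul_one, mul_assoc] using F
        · rw [h2, cond_true] at h
          simp only [Bool.and_eq_true, decide_eq_true_eq, beq_iff_eq] at h
          obtain ⟨⟨⟨⟨⟨hs, hka⟩, hpi⟩, hpj⟩, hc⟩, hb⟩ := h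
          obtain ⟨p, hp⟩ : ∃ p, p = factAt s := ⟨_, rfl⟩
          rw [← hp] at hpi hpj hc hb
          have F1 := ih s hs (by omega) j i (by rw [← hp]; omega) (by rw [← hp]; omega)
          rw [← hp] at F1
          have F := (F1.rev (pair_sq A)).shift (k_shift A ka hka)
          rw [ct_mul hc, ct_mul hb]
          simpa only [List.map_cons, List.map_nil, List.prod_cons, List.prod_nil, mul_one] using F
      · rw [h1, cond_true] at h
        simp only [Bool.and_eq_true, beq_iff_eq] at h
        obtain ⟨⟨hi0, hj1⟩, hb⟩ := h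
        rw [ct_mul hb, List.map_nil, List.prod_nil]
        refine Fct.root (ct_mem _) ?_ ?_
        · simp [rep, hi, hi0]
        · have : pathTo 1 = [] := by decide +kernel
          simp [rep, hj, hj1, this]
    · rw [h0, cond_true] at h
      simp only [Bool.and_eq_true, decide_eq_true_eq, beq_iff_eq] at h
      obtain ⟨⟨⟨hi1, hj1⟩, hp⟩, hb⟩ := h
      rw [ct_mul hb, List.map_nil, List.prod_nil]
      refine Fct.tree ?_
      rw [rep, rep, show (j.val == 0) = false by simp; omega, show (i.val == 0) = false by simp; omega,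
        cond_false, cond_false, hj, hp, ← hi]
      simp [mul_assoc]

/-- The representatives, times the centralizer of the pair, cover `C0`. -/
theorem exists_coset (x : ↥C0) : ∃ e < 630, ∃ l : List ℕ, (∀ n ∈ l, n < kSize) ∧
    x = el (cw e) * (l.map fun n => el (kWord n)).prod := by
  have hc := check_cover
  simp only [coverOK, Bool.and_eq_true, List.all_eq_true, List.mem_range, decide_eq_true_eq] at hc
  obtain ⟨⟨⟨⟨he0, hk0⟩, hone⟩, hlet⟩, -⟩ := hc
  have hx : (x : P276) ∈ Subgroup.closure {y | ∃ k < 7, letter k = y} := C0_eq_closure_letters ▸ x.2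
  rw [← Subgroup.mem_toSubmonoid, Subgroup.closure_toSubmonoid_of_finite] at hx
  obtain ⟨y, hy⟩ : ∃ y : P276, y = x := ⟨_, rfl⟩
  rw [← hy] at hx
  induction hx using Submonoid.closure_induction_left generalizing x with
  | one =>
    refine ⟨_, he0, [ClosureData.one.2], by simpa using hk0, ?_⟩
    have := el_mul_of_check hone
    rw [el_zero] at this
    simp only [List.map_cons, List.map_nil, List.prod_cons, List.prod_nil, mul_one] at this ⊢
    rw [← this]
    exact Subtype.ext hy.symm
  | mul_left a ha w _ ih =>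
    obtain ⟨l, hl, rfl⟩ := ha
    have hw : w ∈ C0 := by
      have h' := mul_mem (inv_mem (letter_mem hl)) x.2
      rwa [← hy, inv_mul_cancel_left] at h'
    obtain ⟨e, he, ks, hks, hex⟩ := ih ⟨w, hw⟩ rfl
    obtain ⟨⟨hq, hqk⟩, heq⟩ := hlet e he l hl
    obtain ⟨q, hqd⟩ : ∃ q, q = ClosureData.cosets.get (7 * e + l) := ⟨_, rfl⟩
    rw [← hqd] at hq hqk heq
    have hl1 : el (l + 1) = ⟨letter l, letter_mem hl⟩ := by
      have hok : wordOK (l + 1) = true := by interval_cases l <;> decide
      refine Subtype.ext ?_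
      rw [coe_el hok]
      show ((codes (l + 1)).map toP).prod = letter l
      rw [show codes (l + 1) = [Data.letterC.getD l 0] by interval_cases l <;> rfl, List.map_singleton,
        List.prod_singleton, letter]
    have hstep : (⟨letter l, letter_mem hl⟩ : ↥C0) * el (cw e) = el (cw q.1) * el (kWord q.2) := by
      simpa [hl1] using el_prod_eq heq
    refine ⟨q.1, hq, q.2 :: ks, fun n hn => (List.mem_cons.1 hn).elim (fun h => h ▸ hqk) (hks n), ?_⟩
    calc x = ⟨letter l, letter_mem hl⟩ * ⟨w, hw⟩ := Subtype.ext hy.symm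
      _ = _ := by
        rw [hex, ← mul_assoc, hstep, List.map_cons, List.prod_cons, mul_assoc]

theorem edge_closed (A : Amalgam θ g) : ∀ (i : Fin 7), ∀ c ∈ (pairHom θ).range,
    ∃ j, ∃ b ∈ (pairHom θ).range, Fct (pairHom θ).range (rep θ g) (g, g0) i c j b := by
  rintro i _ ⟨x, rfl⟩
  obtain ⟨e, he, ks, hks, rfl⟩ := exists_coset x
  have hc := check_cover
  simp only [coverOK, Bool.and_eq_true, List.all_eq_true, List.mem_range, decide_eq_true_eq, beq_iff_eq] at hc
  obtain ⟨⟨hn, hni⟩, hne⟩ := hc.2 i.val i.isLt e he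
  obtain ⟨n, hnd⟩ : ∃ n, n = ClosureData.index_.get (630 * i.val + e) := ⟨_, rfl⟩
  rw [← hnd] at hn hni hne
  have hj : (factAt n).2.2.2.1 < 7 := by
    have := check_step hn
    simp only [stepOK, Bool.and_eq_true, decide_eq_true_eq] at this
    exact this.1.2
  have F := fact_holds A n hn i ⟨_, hj⟩ hni.symm rfl
  rw [hne] at F
  refine ⟨⟨_, hj⟩, ct θ (factAt n).2.2.2.2.1 * pairHom θ (ks.map fun n => el (kImage n)).prod, ?_, ?_⟩
  swap
  · rw [map_mul]
    show Fct _ _ _ i (ct θ (cw e) * _) _ (ct θ (factAt n).2.2.2.2.1 * pairHom θ (ks.map fun n => el (kImage n)).prod)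
    refine F.shift ?_
    clear F
    induction ks with
    | nil => simp
    | cons k ks ih =>
      rw [List.map_cons, List.map_cons, List.prod_cons, List.prod_cons, map_mul, map_mul, mul_assoc,
        ih fun n hn => hks n (List.mem_cons_of_mem _ hn)]
      have := k_shift A k (hks k List.mem_cons_self)
      simp only [ct] at this
      rw [← mul_assoc, this, mul_assoc]
  · exact mul_mem (ct_mem _) ⟨_, rfl⟩

theorem rep_snd_not_comm (j : Fin 7) (hj : j ≠ 0) : (rep θ g j).2 * z0 ≠ z0 * (rep θ g j).2 := by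
  have h := check_reps
  simp only [repsOK, List.all_eq_true, List.mem_range, Bool.or_eq_true, Bool.and_eq_true, beq_iff_eq,
    Bool.not_eq_true'] at h
  have hj0 : j.val ≠ 0 := fun h => hj (Fin.ext h)
  obtain ⟨hw, hne⟩ := (h j.val j.isLt).resolve_left hj0
  obtain ⟨d, hd⟩ : ∃ d, d = Data.letterC.getD 7 0 := ⟨_, rfl⟩
  rw [← hd] at hne
  obtain ⟨P, hP⟩ : ∃ P, P = pathTo j.val := ⟨_, rfl⟩
  rw [← hP] at hw hne
  have hv : valid d = true := hd ▸ letter_valid (by norm_num)
  let l := d :: (P.map fun e => codes (cw e) ++ [d]).flatten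
  have hl : ∀ x ∈ l, valid x = true := by
    intro x hx
    rcases List.mem_cons.1 hx with hx | hx
    · exact hx ▸ hv
    obtain ⟨m, hm, hxm⟩ := List.mem_flatten.1 hx
    obtain ⟨e, he, rfl⟩ := List.mem_map.1 hm
    rcases List.mem_append.1 hxm with hxm | hxm
    · exact codes_valid (hw e he) x hxm
    · exact (List.mem_singleton.1 hxm) ▸ hv
  have hsnd : (rep θ g j).2 = (l.map toP).prod := by
    have hg : g0 = toP d := by rw [g0, letter, hd]
    rw [rep, show (j.val == 0) = false by simpa using hj0, cond_false, ← hP, Prod.snd_mul, List.map_cons,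
      List.prod_cons, ← hg]
    refine congrArg (g0 * ·) ?_
    clear hne hl l hP
    induction P with
    | nil => rfl
    | cons e P ih =>
      simp only [List.map_cons, List.prod_cons, List.flatten_cons, List.map_append, List.prod_append,
        Prod.snd_mul, List.map_nil, List.prod_nil, mul_one]
      rw [ih fun x hx => hw x (List.mem_cons_of_mem _ hx), ← hg]
      show (el (cw e) : P276) * g0 * _ = _
      rw [coe_el (hw e List.mem_cons_self)]
      rfl
  intro e
  rw [hsnd] at e
  refine Bool.eq_false_iff.1 hne ?_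
  simp only [eqP, List.all_eq_true, List.mem_range, beq_iff_eq]
  intro i hi
  have hv1 : ∀ x ∈ l ++ [Data.negC], valid x = true := fun x hx =>
    (List.mem_append.1 hx).elim (hl x) fun h => (List.mem_singleton.1 h) ▸ neg_valid
  have hv2 : ∀ x ∈ Data.negC :: l, valid x = true := fun x hx =>
    (List.mem_cons.1 hx).elim (fun h => h ▸ neg_valid) (hl x)
  show app (l ++ [Data.negC]) i = app (Data.negC :: l) i
  rw [← prod_toP_apply hv1 ⟨i, hi⟩, ← prod_toP_apply hv2 ⟨i, hi⟩]
  simp only [List.map_append, List.prod_append, List.map_cons, List.map_nil, List.prod_cons, List.prod_nil,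
    mul_one]
  rw [show (toP Data.negC : P276) = z0 from rfl, e]

/-- The amalgam relations give an injective image of `T0`. -/
theorem Amalgam.exists_hom (A : Amalgam θ g) :
    ∃ f : ↥T0 →* G, (∀ x : ↥C0, f ⟨x, C0_le_T0 x.2⟩ = θ x) ∧ f ⟨g0, g0_mem_T0⟩ = g := by
  let Γ : Subgroup (G × P276) := (pairHom θ).range ⊔ Subgroup.zpowers (g, g0)
  have hinj : ∀ x ∈ Γ, x.2 = 1 → x = 1 := fun x hx h1 => by
    refine DoubleCosets.eq_one_of_closed (MonoidHom.snd G P276) (R := rep θ g) (i₀ := 0) rfl (edge_closed A)
      (pair_sq A) ?_ ?_ hx h1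
    · rintro _ ⟨c, rfl⟩ hc
      rw [show c = 1 from Subtype.ext hc, map_one]
    · rintro j hj ⟨_, ⟨c, rfl⟩, hc⟩
      refine rep_snd_not_comm (θ := θ) (g := g) j hj ?_
      have hc' : (rep θ g j).2 = (c : P276) := hc.symm
      rw [hc', z0_comm c.2]
  have himg : Γ.map (MonoidHom.snd G P276) = T0 := by
    rw [Subgroup.map_sup, MonoidHom.map_zpowers, T0]
    congr 1
    rw [← MonoidHom.range_comp]
    exact Subgroup.range_subtype C0
  let φ : ↥Γ →* ↥T0 := ((MonoidHom.snd G P276).comp Γ.subtype).codRestrict T0 fun x => himg ▸ ⟨x, x.2, rfl⟩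
  have hφ : Function.Bijective φ := by
    refine ⟨?_, fun y => ?_⟩
    · rw [← MonoidHom.ker_eq_bot_iff, Subgroup.eq_bot_iff_forall]
      intro x hx
      exact Subtype.ext (hinj x x.2 (congrArg Subtype.val (MonoidHom.mem_ker.1 hx)))
    · obtain ⟨x, hx, e⟩ : (y : P276) ∈ Γ.map (MonoidHom.snd G P276) := by rw [himg]; exact y.2
      exact ⟨⟨x, hx⟩, Subtype.ext e⟩
  refine ⟨((MonoidHom.fst G P276).comp Γ.subtype).comp (MulEquiv.ofBijective φ hφ).symm.toMonoidHom,
    fun x => ?_, ?_⟩
  · have hm : pairHom θ x ∈ Γ := le_sup_left (a := (pairHom θ).range) ⟨x, rfl⟩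
    have : (MulEquiv.ofBijective φ hφ).symm ⟨x, C0_le_T0 x.2⟩ = ⟨pairHom θ x, hm⟩ :=
      (MulEquiv.ofBijective φ hφ).symm_apply_eq.2 (Subtype.ext rfl)
    simp only [MonoidHom.comp_apply, MulEquiv.coe_toMonoidHom, this]
    rfl
  · have hm : ((g, g0) : G × P276) ∈ Γ := le_sup_right (b := Subgroup.zpowers (g, g0)) (Subgroup.mem_zpowers _)
    have : (MulEquiv.ofBijective φ hφ).symm ⟨g0, g0_mem_T0⟩ = ⟨(g, g0), hm⟩ :=
      (MulEquiv.ofBijective φ hφ).symm_apply_eq.2 (Subtype.ext rfl)
    simp only [MonoidHom.comp_apply, MulEquiv.coe_toMonoidHom, this]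
    rfl

end

theorem amalgam_model : Amalgam C0.subtype g0 :=
  ⟨g0_sq, fun _ hp => kGens_model hp, fun _ hm => moves_model hm⟩

/-- In `T0` only the elements of `C0` commute with `z0`. -/
theorem centralizer_z0 {x : P276} (hx : x ∈ T0) (hxz : x * z0 = z0 * x) : x ∈ C0 := by
  have hd : ((pairHom C0.subtype).range ⊔ Subgroup.zpowers ((g0, g0) : P276 × P276)).map
      (MonoidHom.snd P276 P276) = T0 := by
    rw [Subgroup.map_sup, MonoidHom.map_zpowers, T0]
    congr 1
    rw [← MonoidHom.range_comp]
    exact Subgroup.range_subtype C0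
  obtain ⟨y, hy, rfl⟩ : x ∈ Subgroup.map _ _ := hd.symm ▸ hx
  have hdiag : y.1 = y.2 := by
    have hle : ((pairHom C0.subtype).range ⊔ Subgroup.zpowers ((g0, g0) : P276 × P276)) ≤
        (MonoidHom.fst P276 P276).eqLocus (MonoidHom.snd P276 P276) :=
      sup_le (by rintro _ ⟨c, rfl⟩; rfl) (Subgroup.zpowers_le.2 rfl)
    exact hle hy
  have h := DoubleCosets.mem_of_commute (R := rep C0.subtype g0) (i₀ := 0) (z := ((z0, z0) : P276 × P276)) rfl
    (edge_closed amalgam_model) (pair_sq amalgam_model) ?_ ?_ hy ?_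
  · obtain ⟨c, rfl⟩ := h
    exact c.2
  · rintro _ ⟨c, rfl⟩
    exact Prod.ext (z0_comm c.2) (z0_comm c.2)
  · exact fun j hj e => rep_snd_not_comm j hj (congrArg Prod.snd e)
  · exact Prod.ext (by rw [Prod.fst_mul, Prod.fst_mul, hdiag]; exact hxz) hxz

end Cfsg.Agent.CoThreeType
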