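/-
The group `T0` is the third Conway group (owner: helper27).

`co3Group` acts on the 276 pairs of short vectors; its image is generated by four coded permutations, and two
straight-line programs show that these generate `T0`.

Main results (namespace `Cfsg.Agent.CoThreeType`): `nonempty_co3Equiv_T0`.
-/
import Cfsg.Agent.Lib.CoThreeType.Closure
import Cfsg.Agent.Lib.CoThreeType.BridgeData
import Cfsg.Agent.Lib.OutCert.Transport
import Cfsg.Agent.Lib.OutCert.Gen

set_option autoImplicit false
set_option maxRecDepth 20000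

namespace Cfsg.Agent.CoThreeType.Bridge

open Leech OutCert MulAction BridgeData

attribute [local irreducible] Data.negC Data.letterC Data.levels BridgeData.tbl BridgeData.span BridgeData.genC
  BridgeData.fwdP BridgeData.fwdOps BridgeData.fwdTgt BridgeData.bwdP BridgeData.bwdOps BridgeData.bwdTgt

/-- The list of a vector of the table. -/
def tb (i : ℕ) : List ℤ :=
  (List.range 24).map fun j => Int.ofNat ((tbl.getD i 0 >>> (4 * j)) &&& 15) - 8

/-- The partner list. -/
def fl (x : List ℤ) : List ℤ := List.zipWith (· - ·) (vec4 5 1 1 1) x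

/-- The action of a generator on lists. -/
def act4 (k : ℕ) (x : List ℤ) : List ℤ :=
  bif k == 0 then actP dX x else bif k == 1 then actP dY x else bif k == 2 then actP dZ x else actM t3Rows x

/-- A number for a list of small integers. -/
def lkey (x : List ℤ) : ℕ := x.foldl (fun s a => 16 * s + (a + 8).toNat) 0

/-- The vectors are reached from the first one. -/
def spanOK : Bool :=
  tb 0 == vec4 4 4 0 0 && span.length == 276 && (List.range 276).all fun i =>
    let q := span.getD i (0, 0, 0)
    decide (i = 0) || (decide (q.1 < i) && decide (q.2.1 < 4) &&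
      tb i == bif q.2.2 == 0 then act4 q.2.1 (tb q.1) else fl (act4 q.2.1 (tb q.1)))

/-- The keys of the 552 lists are distinct. -/
def keysOK : Bool :=
  let l := (List.range 276).map (fun i => lkey (tb i)) ++ (List.range 276).map fun i => lkey (fl (tb i))
  (List.range 552).all fun i => (List.range i).all fun j => !Nat.beq (l.getD i 0) (l.getD j 0)

/-- The generators permute the table as coded. -/
def genOK : Bool :=
  (List.range 4).all fun k => (List.range 276).all fun i =>
    let j := fn (genC.getD k 0) i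
    decide (j < 276) && (act4 k (tb i) == tb j || act4 k (tb i) == fl (tb j))

/-- A straight-line program: the first `r` entries are given, the others products or inverses. -/
def slpOK (r : ℕ) (roots : List ℕ) (P : Tr ℕ) (ops : List (ℕ × ℕ × ℕ)) : Bool :=
  ((List.range r).all fun n => Nat.beq (P.get n) (roots.getD n 0)) &&
  (List.range ops.length).all fun m =>
    let q := ops.getD m (0, 0, 0)
    decide (q.2.1 < r + m) && decide (q.2.2 < r + m) &&
      bif q.1 == 0 then
        (List.range 276).all fun i => Nat.beq (fn (P.get (r + m)) i) (fn (P.get q.2.1) (fn (P.get q.2.2) i))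
      else (List.range 276).all fun i => Nat.beq (fn (P.get (r + m)) (fn (P.get q.2.1) i)) i

/-- The targets stand at the listed places. -/
def tgtOK (r : ℕ) (P : Tr ℕ) (ops : List (ℕ × ℕ × ℕ)) (tgt : List ℕ) (want : List ℕ) : Bool :=
  (List.range want.length).all fun n =>
    decide (tgt.getD n 0 < r + ops.length) && Nat.beq (P.get (tgt.getD n 0)) (want.getD n 0)

theorem check_span : spanOK = true := by decide +kernel
theorem check_keys : keysOK = true := by decide +kernel
theorem check_gen : genOK = true := by decide +kernel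
theorem check_fwd : (slpOK 8 Data.letterC fwdP fwdOps && tgtOK 8 fwdP fwdOps fwdTgt genC &&
    Nat.beq Data.letterC.length 8 && Nat.beq genC.length 4) = true := by decide +kernel
theorem check_bwd : (slpOK 4 genC bwdP bwdOps && tgtOK 4 bwdP bwdOps bwdTgt Data.letterC) = true := by
  decide +kernel
theorem check_moved : fn (genC.getD 0 0) 1 ≠ 1 := by decide +kernel

/-- An element with the action of a code. -/
def Codes (p : P276) (d : ℕ) : Prop := ∀ i : Fin 276, (p i).val = fn d i.val

theorem Codes.eq {p q : P276} {d : ℕ} (hp : Codes p d) (hq : Codes q d) : p = q :=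
  Equiv.ext fun i => Fin.ext ((hp i).trans (hq i).symm)

theorem slp_mem {S : Subgroup P276} {r : ℕ} {roots : List ℕ} {P : Tr ℕ} {ops : List (ℕ × ℕ × ℕ)}
    (hS : ∀ n < r, ∃ p ∈ S, Codes p (roots.getD n 0)) (h : slpOK r roots P ops = true) :
    ∀ n < r + ops.length, ∃ p ∈ S, Codes p (P.get n) := by
  simp only [slpOK, Bool.and_eq_true, List.all_eq_true, List.mem_range, decide_eq_true_eq] at h
  obtain ⟨hr, hops⟩ := h
  intro n
  induction n using Nat.strong_induction_on with
  | _ n ih =>
    intro hn
    by_cases hnr : n < r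
    · rw [Nat.eq_of_beq_eq_true (hr n hnr)]
      exact hS n hnr
    · obtain ⟨m, rfl⟩ : ∃ m, n = r + m := ⟨n - r, by omega⟩
      obtain ⟨⟨ha, hb⟩, hq⟩ := hops m (by omega)
      obtain ⟨p, hp, hpc⟩ := ih _ ha (by omega)
      obtain ⟨q, hqm, hqc⟩ := ih _ hb (by omega)
      cases h0 : ((ops.getD m (0, 0, 0)).1 == 0)
      · rw [h0, cond_false] at hq
        simp only [List.all_eq_true, List.mem_range, Nat.beq_eq] at hq
        refine ⟨p⁻¹, inv_mem hp, fun i => ?_⟩
        have e := hq (p⁻¹ i).val (p⁻¹ i).isLt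
        rw [← hpc, ← Equiv.Perm.mul_apply, mul_inv_cancel, Equiv.Perm.one_apply] at e
        exact e.symm
      · rw [h0, cond_true] at hq
        simp only [List.all_eq_true, List.mem_range, Nat.beq_eq] at hq
        refine ⟨p * q, mul_mem hp hqm, fun i => ?_⟩
        rw [Equiv.Perm.mul_apply, hpc, hqc]
        exact (hq i.val i.isLt).symm

theorem Rep_sub {v : leechLattice} {x : List ℤ} (h : Rep v x) : Rep (baseF - v) (fl x) := by
  have hF : (vec4 5 1 1 1).length = 24 := by simp [vec4]
  refine ⟨by simp [fl, hF, h.1], funext fun p => ?_⟩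
  have hp : Golay.idx p < 24 := Golay.idx_lt p
  rw [AddSubgroup.coe_sub, Pi.sub_apply, h.2, rep_F.2]
  show (vec4 5 1 1 1).getD (Golay.idx p) 0 - x.getD (Golay.idx p) 0 = (fl x).getD (Golay.idx p) 0
  rw [List.getD_eq_getElem _ _ (by rw [hF]; exact hp), List.getD_eq_getElem _ _ (by rw [h.1]; exact hp),
    List.getD_eq_getElem _ _ (by simp [fl, hF, h.1, hp])]
  simp [fl]

/-- The four generators. -/
noncomputable def gen4 (k : ℕ) : Co0 :=
  bif k == 0 then pX else bif k == 1 then pY else bif k == 2 then pZ else invA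

theorem gen4_mem (k : ℕ) : gen4 k ∈ co3Group := by
  rw [gen4]
  rcases (show k = 0 ∨ k = 1 ∨ k = 2 ∨ 3 ≤ k by omega) with rfl | rfl | rfl | h
  · exact xyz_le_co3 pX_mem
  · exact xyz_le_co3 pY_mem
  · exact xyz_le_co3 pZ_mem
  · rw [show (k == 0) = false by simp; omega, show (k == 1) = false by simp; omega,
      show (k == 2) = false by simp; omega]
    exact invA_mem_co3

theorem Rep_act {v : leechLattice} {x : List ℤ} (h : Rep v x) {k : ℕ} (hk : k < 4) :
    Rep (gen4 k • v) (act4 k x) := by
  interval_cases k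
  exacts [h.pX, h.pY, h.pZ, h.invA]

theorem exists_pt : ∀ i < 276, ∃ v ∈ pts552, Rep v (tb i) := by
  have h := check_span
  simp only [spanOK, Bool.and_eq_true, List.all_eq_true, List.mem_range, Bool.or_eq_true, decide_eq_true_eq,
    beq_iff_eq] at h
  intro i
  induction i using Nat.strong_induction_on with
  | _ i ih =>
    intro hi
    rcases h.2 i hi with h0 | ⟨⟨hj, hk⟩, he⟩
    · subst h0
      exact ⟨baseU, baseU_mem552, h.1.1 ▸ rep_U⟩
    · obtain ⟨v, hv, hr⟩ := ih _ hj (by omega)
      have hr' := Rep_act hr hk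
      have hv' := smul_mem_pts552 (gen4_mem (span.getD i (0, 0, 0)).2.1) hv
      cases hf : ((span.getD i (0, 0, 0)).2.2 == 0)
      · rw [hf, cond_false] at he
        exact ⟨_, flip_mem552 hv', he ▸ Rep_sub hr'⟩
      · rw [hf, cond_true] at he
        exact ⟨_, hv', he ▸ hr'⟩

/-- A vector of each pair. -/
noncomputable def pt (i : Fin 276) : leechLattice := (exists_pt i i.2).choose

theorem pt_mem (i : Fin 276) : pt i ∈ pts552 := (exists_pt i i.2).choose_spec.1

theorem pt_rep (i : Fin 276) : Rep (pt i) (tb i) := (exists_pt i i.2).choose_spec.2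

/-- Both vectors of each pair. -/
noncomputable def both : Fin 276 × Bool → leechLattice
  | (i, false) => pt i
  | (i, true) => baseF - pt i

theorem both_mem : ∀ p, both p ∈ pts552
  | (i, false) => pt_mem i
  | (i, true) => flip_mem552 (pt_mem i)

theorem both_flip (p : Fin 276 × Bool) : baseF - both p = both (p.1, !p.2) := by
  obtain ⟨i, b⟩ := p
  cases b
  · rfl
  · exact sub_sub_cancel _ _

theorem both_injective : Function.Injective both := by
  obtain ⟨L, hL⟩ : ∃ L, L = (List.range 276).map (fun i => lkey (tb i)) ++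
      (List.range 276).map fun i => lkey (fl (tb i)) := ⟨_, rfl⟩
  have hk := check_keys
  simp only [keysOK, ← hL, List.all_eq_true, List.mem_range, Bool.not_eq_true'] at hk
  let place : Fin 276 × Bool → ℕ := fun p => cond p.2 (276 + p.1.val) p.1.val
  have hplace : ∀ p, place p < 552 := fun p => by rcases p with ⟨i, b⟩; cases b <;> simp [place] <;> omega
  have hkey : ∀ p : Fin 276 × Bool, ∃ x, Rep (both p) x ∧ L.getD (place p) 0 = lkey x := by
    rintro ⟨i, b⟩
    cases b
    · refine ⟨_, pt_rep i, ?_⟩
      rw [hL, List.getD_append _ _ _ _ (by simp [place]),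
        List.getD_eq_getElem _ _ (by simp [place])]
      simp [place]
    · refine ⟨_, Rep_sub (pt_rep i), ?_⟩
      rw [hL, List.getD_append_right _ _ _ _ (by simp [place]), List.getD_eq_getElem _ _ (by simp [place])]
      simp [place]
  intro p q e
  by_contra hne
  have hne' : place p ≠ place q := by
    intro h
    apply hne
    rcases p with ⟨i, b⟩
    rcases q with ⟨j, c⟩
    cases b <;> cases c <;> simp only [place, cond_true, cond_false] at h
    · rw [Fin.ext h]
    · omega
    · omega
    · rw [Fin.ext (show i.val = j.val by omega)]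
  obtain ⟨x, hx, ex⟩ := hkey p
  obtain ⟨y, hy, ey⟩ := hkey q
  have hxy : x = y := by
    by_contra hxy
    exact hx.ne hy hxy e
  subst hxy
  have key : ∀ a b, b < a → a < 552 → L.getD a 0 ≠ L.getD b 0 := fun a b hab ha h => by
    have := hk a ha b hab
    rw [h] at this
    simp at this
  rcases Nat.lt_or_gt_of_ne hne' with h | h
  · exact key _ _ h (hplace q) (ey.trans ex.symm)
  · exact key _ _ h (hplace p) (ex.trans ey.symm)

theorem both_surj {x : leechLattice} (hx : x ∈ pts552) : ∃ p, both p = x := by
  have h : Set.range both = pts552 :=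
    Set.eq_of_subset_of_ncard_le (fun y ⟨p, hp⟩ => hp ▸ both_mem p) (by
      rw [ncard_pts552, Set.ncard_range_of_injective both_injective]
      simp) finite_pts552
  rw [← h] at hx
  exact hx

/-- The pair of the image of a representative. -/
noncomputable def img (g : co3Group) (i : Fin 276) : Fin 276 :=
  (both_surj (smul_mem_pts552 g.2 (pt_mem i))).choose.1

theorem img_spec (g : co3Group) (i : Fin 276) : ∃ b, (g : Co0) • pt i = both (img g i, b) :=
  ⟨_, (both_surj (smul_mem_pts552 g.2 (pt_mem i))).choose_spec.symm⟩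

theorem img_eq {g : co3Group} {i j : Fin 276} {b : Bool} (h : (g : Co0) • pt i = both (j, b)) : img g i = j := by
  obtain ⟨c, hc⟩ := img_spec g i
  exact congrArg Prod.fst (both_injective (hc.symm.trans h))

theorem img_both (g : co3Group) : ∀ p : Fin 276 × Bool, ∃ b, (g : Co0) • both p = both (img g p.1, b)
  | (i, false) => img_spec g i
  | (i, true) => by
    obtain ⟨b, hb⟩ := img_spec g i
    exact ⟨!b, by rw [both, smul_flip g.2, hb, both_flip]⟩

theorem img_one (i : Fin 276) : img 1 i = i := img_eq (b := false) (one_smul _ _)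

theorem img_mul (g h : co3Group) (i : Fin 276) : img (g * h) i = img g (img h i) := by
  obtain ⟨b, hb⟩ := img_spec h i
  obtain ⟨c, hc⟩ := img_both g (img h i, b)
  refine img_eq (b := c) ?_
  rw [Subgroup.coe_mul, mul_smul, hb, hc]

/-- The action on the pairs. -/
noncomputable def psi : ↥co3Group →* P276 where
  toFun g :=
    { toFun := img g
      invFun := img g⁻¹
      left_inv := fun i => by rw [← img_mul, inv_mul_cancel, img_one]
      right_inv := fun i => by rw [← img_mul, mul_inv_cancel, img_one] }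
  map_one' := Equiv.ext img_one
  map_mul' g h := Equiv.ext (img_mul g h)

theorem psi_gen {k : ℕ} (hk : k < 4) : Codes (psi ⟨gen4 k, gen4_mem k⟩) (genC.getD k 0) := by
  intro i
  have h := check_gen
  simp only [genOK, List.all_eq_true, List.mem_range, Bool.and_eq_true, decide_eq_true_eq, Bool.or_eq_true,
    beq_iff_eq] at h
  obtain ⟨hj, hc⟩ := h k hk i.val i.2
  have hr := Rep_act (pt_rep i) hk
  rcases hc with hc | hc
  · exact congrArg Fin.val (img_eq (g := ⟨gen4 k, gen4_mem k⟩) (b := false) (j := ⟨_, hj⟩)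
      ((hc ▸ hr).eq (pt_rep ⟨_, hj⟩)))
  · exact congrArg Fin.val (img_eq (g := ⟨gen4 k, gen4_mem k⟩) (b := true) (j := ⟨_, hj⟩)
      ((hc ▸ hr).eq (Rep_sub (pt_rep ⟨_, hj⟩))))

theorem closure_gen4 : Subgroup.closure {x : co3Group | ∃ k < 4, (⟨gen4 k, gen4_mem k⟩ : co3Group) = x} = ⊤ := by
  refine Subgroup.map_injective co3Group.subtype_injective ?_
  rw [MonoidHom.map_closure, ← MonoidHom.range_eq_map, Subgroup.range_subtype]
  refine le_antisymm ((Subgroup.closure_le _).2 ?_) ?_
  · rintro _ ⟨_, ⟨k, -, rfl⟩, rfl⟩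
    exact gen4_mem k
  · refine co3_gen.symm.le.trans (Subgroup.closure_mono ?_)
    intro x hx
    simp only [Set.mem_insert_iff, Set.mem_singleton_iff] at hx
    rcases hx with rfl | rfl | rfl | rfl
    exacts [⟨_, ⟨0, by norm_num, rfl⟩, rfl⟩, ⟨_, ⟨1, by norm_num, rfl⟩, rfl⟩, ⟨_, ⟨2, by norm_num, rfl⟩, rfl⟩,
      ⟨_, ⟨3, by norm_num, rfl⟩, rfl⟩]

theorem codes_letter {k : ℕ} (hk : k < 8) : Codes (letter k) (Data.letterC.getD k 0) :=
  fun i => toP_apply (letter_valid hk) i

theorem letter_mem_T0 {k : ℕ} (hk : k < 8) : letter k ∈ T0 := by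
  rcases Nat.lt_succ_iff_lt_or_eq.1 hk with h | h
  · exact C0_le_T0 (letter_mem h)
  · subst h
    exact g0_mem_T0

theorem range_psi : psi.range = T0 := by
  have hfwd := check_fwd
  have hbwd := check_bwd
  simp only [Bool.and_eq_true, tgtOK, List.all_eq_true, List.mem_range, decide_eq_true_eq, Nat.beq_eq] at hfwd hbwd
  obtain ⟨⟨⟨hf, hft⟩, hl8⟩, hl4⟩ := hfwd
  obtain ⟨hb, hbt⟩ := hbwd
  apply le_antisymm
  · rw [MonoidHom.range_eq_map, ← closure_gen4, MonoidHom.map_closure, Subgroup.closure_le]
    rintro _ ⟨_, ⟨k, hk, rfl⟩, rfl⟩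
    obtain ⟨hlt, he⟩ := hft k (by omega)
    obtain ⟨p, hp, hc⟩ := slp_mem (fun n hn => ⟨letter n, letter_mem_T0 hn, codes_letter hn⟩) hf _ hlt
    rw [he] at hc
    rw [SetLike.mem_coe, Codes.eq (psi_gen hk) hc]
    exact hp
  · have hmem : ∀ k < 8, letter k ∈ psi.range := by
      intro k hk
      obtain ⟨hlt, he⟩ := hbt k (by omega)
      obtain ⟨p, hp, hc⟩ := slp_mem (S := psi.range)
        (fun n hn => ⟨psi ⟨gen4 n, gen4_mem n⟩, ⟨_, rfl⟩, psi_gen hn⟩) hb _ hlt
      rw [he] at hc
      rw [(codes_letter hk).eq hc]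
      exact hp
    refine sup_le ?_ (Subgroup.zpowers_le.2 (hmem 7 (by norm_num)))
    rw [C0_eq_closure_letters, Subgroup.closure_le]
    rintro _ ⟨k, hk, rfl⟩
    exact hmem k (by omega)

theorem psi_injective : Function.Injective psi := by
  have := isSimpleGroup_co3Group
  rcases (psi.normal_ker).eq_bot_or_eq_top with h | h
  · exact (MonoidHom.ker_eq_bot_iff psi).1 h
  · refine absurd ?_ check_moved
    have h0 : psi ⟨gen4 0, gen4_mem 0⟩ = 1 := MonoidHom.mem_ker.1 (h ▸ Subgroup.mem_top _)
    have := psi_gen (k := 0) (by norm_num) (1 : Fin 276)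
    rw [h0] at this
    exact this.symm

/-- `co3Group` is isomorphic to `T0`. -/
theorem nonempty_equiv : Nonempty (↥co3Group ≃* ↥T0) :=
  ⟨(MonoidHom.ofInjective psi_injective).trans (MulEquiv.subgroupCongr range_psi)⟩

end Cfsg.Agent.CoThreeType.Bridge

namespace Cfsg.Agent.CoThreeType

/-- The group generated by `C0` and the outer involution is the third Conway group. -/
theorem nonempty_co3Equiv_T0 : Nonempty (Spor.Co3 ≃* ↥T0) := by
  obtain ⟨e⟩ := OutCert.nonempty_co3Equiv
  obtain ⟨f⟩ := Bridge.nonempty_equiv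
  exact ⟨e.trans f⟩

/-- The group generated by `C0` and the outer involution is simple. -/
theorem isSimpleGroup_T0 : IsSimpleGroup ↥T0 := by
  obtain ⟨f⟩ := Bridge.nonempty_equiv
  exact @MulEquiv.isSimpleGroup _ _ _ _ Leech.isSimpleGroup_co3Group f.symm

end Cfsg.Agent.CoThreeType
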