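import Mathlib.Tactic.IntervalCases
import Cfsg.Agent.Lib.CoThreeType.Perms
import Cfsg.Agent.Lib.CoThreeType.Data
import Cfsg.Agent.Lib.CoThreeType.ClassData
import Cfsg.Agent.Lib.CoThreeType.ClassOrbit

/-!
# Checks on the classes in the coded double cover of Sp6(2) (owner: helper72)

Elements are words in the first seven letters, compared on the base points.

* `check_basic`, `check_sylow`, `check_sylow_info`, `check_cent`, `check_cent_info`, `check_orbit`
-/

set_option autoImplicit false
set_option maxRecDepth 100000
set_option Elab.async false

namespace Cfsg.Agent.CoThreeType.Classes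

open ClassData

/-- The base points. -/
def pts : List ℕ := [0, 1, 3, 2]

/-- The letters of a word. -/
noncomputable def idx (w : ℕ) : List ℕ :=
  Nat.rec (motive := fun _ => ℕ → List ℕ → List ℕ) (fun _ acc => acc)
    (fun _ ih w acc => Bool.rec (ih (Nat.shiftRight w 4) (Nat.sub (Nat.land w 15) 1 :: acc)) acc (Nat.beq w 0))
    64 w []

/-- The letters are among the first `b`. -/
noncomputable def ltW (b w : ℕ) : Bool := (idx w).all fun k => Nat.blt k b

/-- The code of a letter. -/
noncomputable def code (k : ℕ) : ℕ := Data.letterC.getD k 0

/-- The codes of a word. -/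
noncomputable def cds (w : ℕ) : List ℕ := (idx w).map code

/-- The codes of the inverse of a word: the letters have order four. -/
noncomputable def cinv (w : ℕ) : List ℕ :=
  ((idx w).reverse.flatMap fun k => [k, k, k]).map code

/-- The image of a point. -/
noncomputable def ap (l : List ℕ) (i : ℕ) : ℕ :=
  List.rec (motive := fun _ => ℕ) i (fun d _ ih => Nat.land (Nat.shiftRight d (Nat.mul 9 ih)) 511) l

theorem ap_eq (l : List ℕ) (i : ℕ) : ap l i = app l i := by
  induction l with
  | nil => rfl
  | cons d l ih =>
    show Nat.land (Nat.shiftRight d (Nat.mul 9 (ap l i))) 511 = fn d (app l i)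
    rw [ih]; rfl

/-- The images of the base, packed. -/
noncomputable def img (l : List ℕ) : ℕ :=
  Nat.add (Nat.mul (Nat.add (Nat.mul (Nat.add (Nat.mul (ap l 0) 512) (ap l 1)) 512) (ap l 3)) 512) (ap l 2)

/-- Equality on the base. -/
noncomputable def eqB (l r : List ℕ) : Bool := pts.all fun p => Nat.beq (ap l p) (ap r p)

/-- The words commute. -/
noncomputable def commB (l r : List ℕ) : Bool := eqB (l ++ r) (r ++ l)

/-- `c` conjugates the first word to the second. -/
noncomputable def conjB (c : ℕ) (x y : List ℕ) : Bool := ltW 7 c && eqB (cds c ++ x) (y ++ cds c)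

/-- The word denotes an involution. -/
noncomputable def isInvB (x : List ℕ) : Bool := eqB (x ++ x) [] && !(eqB x [])

/-- A strictly increasing list. -/
def incrB : List ℕ → Bool
  | [] => true
  | [_] => true
  | a :: b :: l => Nat.blt a b && incrB (b :: l)

/-- Kinds 1, 2, 3: the central involution, a conjugate of `aW`, a conjugate of `bW`. -/
noncomputable def kindOK (x : List ℕ) (i : ℕ × ℕ) : Bool :=
  match i.1 with
  | 1 => eqB x (cds zW)
  | 2 => conjB i.2 x (cds aW)
  | 3 => conjB i.2 x (cds bW)
  | _ => false

/-- The elements with negative marks. -/
noncomputable def negList : List (List ℕ) :=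
  let z := cds zW
  let b := cds bW
  let y := cds yW
  let t := cds tauW
  [b, y, y ++ b, b ++ y, z ++ b, z ++ y, z ++ (b ++ y), t, t ++ b, t ++ y, t ++ (b ++ y)]

/-- The relations of the named words. -/
noncomputable def basicOK : Bool :=
  let z := cds zW
  let a := cds aW
  let b := cds bW
  let y := cds yW
  let c := cds cW
  let t := cds tauW
  let r := cds rootW
  [zW, aW, bW, yW, cW, tauW, rootW].all (ltW 7) && ltW 8 fiveW &&
    (pts.all fun p => ap z p == fn Data.negC p) &&
    ((List.range 7).all fun k => commB z [Data.letterC.getD k 0]) &&
    [z, a, b, y, c, t].all isInvB && commB a z && !(eqB a z) && commB b y && !(eqB b y) &&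
    (pts.all fun p => ap ([Data.letterC.getD 7 0] ++ z) p == ap (a ++ [Data.letterC.getD 7 0]) p) &&
    commB c b && commB c y && commB t b && commB t y && commB r b && commB r y && eqB (r ++ r) z &&
    ([[], b, y, b ++ y].all fun v => !(eqB c (z ++ v)) && !(eqB t v)) &&
    (negList.length == negW.length) && ((negList.zip negW).all fun q => conjB q.2 q.1 b) &&
    kindOK c (markW.getD 0 (0, 0)) && kindOK (z ++ c) (markW.getD 1 (0, 0))

/-- The images under the generators. -/
noncomputable def nextOK (gens elts keys : List ℕ) (next : List (List ℕ)) : Bool :=
    ((elts.zip next).all fun q => Nat.beq q.2.length gens.length && ((gens.zip q.2).all fun g =>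
      Nat.blt g.2 keys.length && Nat.beq (img (cds q.1 ++ cds g.1)) (keys.getD g.2 0)))

/-- A list of words closed under right multiplication by the generators, sorted by image. -/
noncomputable def closedOK (gens elts keys : List ℕ) (next : List (List ℕ)) : Bool :=
  (gens.all (ltW 7)) && (elts.all (ltW 7)) &&
    (elts.map fun w => img (cds w)) == keys && incrB keys &&
    (next.length == elts.length) && keys.contains (img [])


/-- Every element is reached from the identity along the generators. -/
noncomputable def pathOK (keys : List ℕ) (next : List (List ℕ)) (id : ℕ) (paths : List (List ℕ)) : Bool :=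
  Nat.blt id next.length && Nat.beq (keys.getD id 0) (img []) && Nat.beq paths.length next.length &&
    paths.zipIdx.all fun q => Nat.beq (q.1.foldl (fun i g => (next.getD i []).getD g next.length) id) q.2

/-- The Sylow subgroup: its involutions and its centre. -/
noncomputable def sylowInfoOK : Bool :=
  (tInfo.length == tElts.length) && ((tElts.zip tInfo).all fun q =>
    !(isInvB (cds q.1)) ||
      (kindOK (cds q.1) q.2 && (!(tGens.all fun g => commB (cds q.1) (cds g)) || q.2.1 == 1 || q.2.1 == 3))) &&
  (tElts.countP (fun w => commB (cds w) (cds aW)) == 512)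

/-- The centraliser of `bW` and a Sylow subgroup of it. -/
noncomputable def centOK : Bool :=
  (dElts.all (ltW 7)) && (dElts.map fun w => img (cds w)) == dKeys && incrB dKeys && (dElts.length == 384) &&
    (dElts.all fun w => commB (cds w) (cds bW) && !(eqB (cds w ++ cds w) (cds bW))) &&
    (tbElts.length == 128) && (tbElts.all fun i => decide (i < 384))

/-- The node classification and the four-group cosets. -/
noncomputable def centInfoOK : Bool :=
  let z := cds zW
  let a := cds aW
  let b := cds bW
  let y := cds yW
  let c := cds cW
  let t := cds tauW
  (dInfo.length == 384) && (vInfo.length == 384) &&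
  ((dElts.zip dInfo).all fun q =>
    let x := cds q.1
    !(isInvB x) || (match q.2.1 with
      | 1 => eqB x b
      | 2 => eqB x z
      | 3 => conjB q.2.2 x a
      | 4 => eqB (x ++ b) z
      | 5 => conjB q.2.2 (x ++ b) a
      | 6 => conjB q.2.2 x y && commB (cds q.2.2) b
      | 7 => conjB q.2.2 x (y ++ b) && commB (cds q.2.2) b
      | _ => false)) &&
  (dElts.countP (fun w => commB (cds w) y) == 32) &&
  ((dElts.zip vInfo).all fun q =>
    let x := cds q.1
    !(commB x y) || ((eqB (x ++ x) [] || eqB (x ++ x) z) &&
      (!(eqB (x ++ x) []) || (decide (0 < q.2) && decide (q.2 ≤ 24) &&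
        eqB x (([[], z, c, z ++ c, t, z ++ t].getD ((q.2 - 1) / 4) []) ++
          ([[], b, y, b ++ y].getD ((q.2 - 1) % 4) []))))))

/-- The centre of the Sylow subgroup of the centraliser of `bW`. -/
noncomputable def tbOK : Bool :=
  let es := tbElts.map fun i => dElts.getD i 0
  nextOK tbGens es (tbElts.map fun i => dKeys.getD i 0) tbNext && closedOK tbGens es (tbElts.map fun i => dKeys.getD i 0) tbNext && (tbInfo.length == 128) &&
    ((es.zip tbInfo).all fun q =>
      !(isInvB (cds q.1)) || !(tbGens.all fun g => commB (cds q.1) (cds g)) ||
        ((q.2.1 == 1 || q.2.1 == 3) && kindOK (cds q.1) q.2))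

/-- One part of the class of `bW`: keys and conjugators. -/
noncomputable def orbitOK (l : List (ℕ × ℕ)) : Bool :=
  l.all fun q => ltW 7 q.2 && img (cds q.2 ++ (cds bW ++ cinv q.2)) == q.1

theorem check_basic : basicOK = true := by decide +kernel

theorem check_sylow : closedOK tGens tElts tKeys tNext = true := by decide +kernel

/-- A part of the closure check of the Sylow subgroup. -/
noncomputable def sylPartOK (n : ℕ) : Bool :=
  nextOK tGens ((tElts.drop (128 * n)).take 128) tKeys ((tNext.drop (128 * n)).take 128)

theorem check_path : pathOK tKeys tNext tId tPath = true := by decide +kernel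

theorem check_tb_path : pathOK (tbElts.map fun i => dKeys.getD i 0) tbNext tbId tbPath = true := by decide +kernel

/-- The letters have order four. -/
noncomputable def fourOK : Bool := (List.range 7).all fun k => eqB [code k, code k, code k, code k] []

theorem check_four : fourOK = true := by decide +kernel

theorem check_next0 : sylPartOK 0 = true := by decide +kernel

theorem check_next1 : sylPartOK 1 = true := by decide +kernel

theorem check_next2 : sylPartOK 2 = true := by decide +kernel

theorem check_next3 : sylPartOK 3 = true := by decide +kernel

theorem check_next4 : sylPartOK 4 = true := by decide +kernel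

theorem check_next5 : sylPartOK 5 = true := by decide +kernel

theorem check_next6 : sylPartOK 6 = true := by decide +kernel

theorem check_next7 : sylPartOK 7 = true := by decide +kernel

theorem check_next : ∀ n < 8, sylPartOK n = true := by
  intro n hn
  interval_cases n
  exacts [check_next0, check_next1, check_next2, check_next3, check_next4, check_next5, check_next6, check_next7]

theorem check_sylow_info : sylowInfoOK = true := by decide +kernel

theorem check_cent : centOK = true := by decide +kernel

theorem check_cent_info : centInfoOK = true := by decide +kernel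

theorem check_tb : tbOK = true := by decide +kernel

theorem check_orbit0 : orbitOK orbit0 = true := by decide +kernel

theorem check_orbit1 : orbitOK orbit1 = true := by decide +kernel

theorem check_orbit2 : orbitOK orbit2 = true := by decide +kernel

theorem check_orbit3 : orbitOK orbit3 = true := by decide +kernel

theorem check_orbit4 : orbitOK orbit4 = true := by decide +kernel

theorem check_orbit5 : orbitOK orbit5 = true := by decide +kernel

theorem check_orbit6 : orbitOK orbit6 = true := by decide +kernel

theorem check_orbit7 : orbitOK orbit7 = true := by decide +kernel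

theorem check_orbit_incr : incrB (orbit.flatten.map Prod.fst) = true := by decide +kernel

theorem orbit_length : orbit.flatten.length = 7560 := by decide +kernel

theorem check_orbit : ∀ q ∈ orbit.flatten, ltW 7 q.2 = true ∧ img (cds q.2 ++ (cds bW ++ cinv q.2)) = q.1 := by
  intro q hq
  obtain ⟨l, hl, hql⟩ := List.mem_flatten.1 hq
  have key : ∀ l' : List (ℕ × ℕ), orbitOK l' = true → q ∈ l' →
      ltW 7 q.2 = true ∧ img (cds q.2 ++ (cds bW ++ cinv q.2)) = q.1 := by
    intro l' h hm
    simp only [orbitOK, List.all_eq_true, Bool.and_eq_true, beq_iff_eq] at h
    exact h q hm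
  simp only [orbit, List.mem_cons, List.not_mem_nil, or_false] at hl
  rcases hl with rfl | rfl | rfl | rfl | rfl | rfl | rfl | rfl
  exacts [key _ check_orbit0 hql, key _ check_orbit1 hql, key _ check_orbit2 hql, key _ check_orbit3 hql,
    key _ check_orbit4 hql, key _ check_orbit5 hql, key _ check_orbit6 hql, key _ check_orbit7 hql]

end Cfsg.Agent.CoThreeType.Classes
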