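import Cfsg.Agent.Lib.CoThreeType.Model
import Cfsg.Agent.Lib.CoThreeType.ClassCheck

/-!
# Words and subgroups in the coded double cover (owner: helper72)

* `el`, `Good`, `eq_of_eqB`, `eq_of_img`, `eqB_of_eq`
* `exists_subgroup_of_table` : a closed table with paths from the identity is a subgroup
-/

set_option autoImplicit false

namespace Cfsg.Agent.CoThreeType.Classes

open ClassData

/-- The permutation of a list of codes. -/
noncomputable def el (l : List ℕ) : P276 := (l.map toP).prod

/-- The codes are valid and their product lies in `C0`. -/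
structure Good (l : List ℕ) : Prop where
  valid : ∀ d ∈ l, CoThreeType.valid d = true
  mem : el l ∈ C0

theorem el_nil : el [] = 1 := rfl

theorem el_append (l r : List ℕ) : el (l ++ r) = el l * el r := by simp [el]

theorem Good.nil : Good [] := ⟨by simp, one_mem _⟩

theorem Good.append {l r : List ℕ} (hl : Good l) (hr : Good r) : Good (l ++ r) := by
  refine ⟨fun d hd => ?_, el_append l r ▸ mul_mem hl.mem hr.mem⟩
  rcases List.mem_append.1 hd with h | h
  exacts [hl.valid d h, hr.valid d h]

theorem good_codes {l : List ℕ} (h : ∀ k ∈ l, k < 7) : Good (l.map code) := by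
  refine ⟨fun d hd => ?_, Subgroup.list_prod_mem _ fun x hx => ?_⟩
  · obtain ⟨k, hk, rfl⟩ := List.mem_map.1 hd
    exact letter_valid (by have := h k hk; omega)
  · obtain ⟨d, hd, rfl⟩ := List.mem_map.1 hx
    obtain ⟨k, hk, rfl⟩ := List.mem_map.1 hd
    exact letter_mem (h k hk)

theorem ltW_iff {b w : ℕ} : ltW b w = true ↔ ∀ k ∈ idx w, k < b := by
  simp [ltW, List.all_eq_true]

theorem good_cds {w : ℕ} (h : ltW 7 w = true) : Good (cds w) := good_codes (ltW_iff.1 h)

theorem valid_cds {w : ℕ} (h : ltW 8 w = true) : ∀ d ∈ cds w, CoThreeType.valid d = true := by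
  intro d hd
  obtain ⟨k, hk, rfl⟩ := List.mem_map.1 hd
  exact letter_valid (ltW_iff.1 h k hk)

theorem good_cinv {w : ℕ} (h : ltW 7 w = true) : Good (cinv w) :=
  good_codes fun k hk => by
    obtain ⟨j, hj, hjk⟩ := List.mem_flatMap.1 hk
    have hkj : k = j := by simpa using hjk
    exact hkj ▸ ltW_iff.1 h j (List.mem_reverse.1 hj)

theorem basePts_eq : CoThreeType.basePts = pts := by decide +kernel

theorem el_apply {l : List ℕ} (hv : ∀ d ∈ l, CoThreeType.valid d = true) {p : ℕ} (hp : p < 276) :
    (el l ⟨p, hp⟩).val = ap l p := by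
  rw [ap_eq]; exact prod_toP_apply hv ⟨p, hp⟩

theorem pts_lt {p : ℕ} (hp : p ∈ pts) : p < 276 := by
  simp only [pts, List.mem_cons, List.not_mem_nil, or_false] at hp
  omega

theorem eq_of_eqB {l r : List ℕ} (hl : Good l) (hr : Good r) (h : eqB l r = true) : el l = el r := by
  simp only [eqB, List.all_eq_true] at h
  refine eq_of_base hl.mem hr.mem fun i hi => Fin.ext ?_
  have := Nat.eq_of_beq_eq_true (h i.val (basePts_eq ▸ hi))
  rw [ap_eq, ap_eq] at this
  exact (prod_toP_apply hl.valid i).trans (this.trans (prod_toP_apply hr.valid i).symm)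

theorem eqB_of_eq {l r : List ℕ} (hl : ∀ d ∈ l, CoThreeType.valid d = true)
    (hr : ∀ d ∈ r, CoThreeType.valid d = true) (h : el l = el r) : eqB l r = true := by
  simp only [eqB, List.all_eq_true]
  intro p hp
  have hp' := pts_lt hp
  rw [← el_apply hl hp', ← el_apply hr hp', h]
  exact Nat.beq_refl _

theorem ne_of_eqB {l r : List ℕ} (hl : Good l) (hr : Good r) (h : eqB l r = false) : el l ≠ el r :=
  fun e => by rw [eqB_of_eq hl.valid hr.valid e] at h; exact absurd h (by simp)

theorem ap_lt {l : List ℕ} (hv : ∀ d ∈ l, CoThreeType.valid d = true) {p : ℕ} (hp : p < 276) : ap l p < 276 :=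
  el_apply hv hp ▸ Fin.isLt _

theorem img_def (l : List ℕ) : img l = ((ap l 0 * 512 + ap l 1) * 512 + ap l 3) * 512 + ap l 2 := rfl

theorem eq_of_img {l r : List ℕ} (hl : Good l) (hr : Good r) (h : img l = img r) : el l = el r := by
  refine eq_of_eqB hl hr ?_
  rw [img_def, img_def] at h
  have := ap_lt hl.valid (show (0 : ℕ) < 276 by norm_num)
  have := ap_lt hl.valid (show (1 : ℕ) < 276 by norm_num)
  have := ap_lt hl.valid (show (3 : ℕ) < 276 by norm_num)
  have := ap_lt hl.valid (show (2 : ℕ) < 276 by norm_num)
  have := ap_lt hr.valid (show (0 : ℕ) < 276 by norm_num)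
  have := ap_lt hr.valid (show (1 : ℕ) < 276 by norm_num)
  have := ap_lt hr.valid (show (3 : ℕ) < 276 by norm_num)
  have := ap_lt hr.valid (show (2 : ℕ) < 276 by norm_num)
  simp only [eqB, List.all_eq_true, pts, List.mem_cons, List.not_mem_nil, or_false]
  intro p hp
  have e : ap l p = ap r p := by rcases hp with rfl | rfl | rfl | rfl <;> omega
  rw [e]
  exact Nat.beq_refl _

theorem img_of_eq {l r : List ℕ} (hl : Good l) (hr : Good r) (h : el l = el r) : img l = img r := by
  have key : ∀ p < 276, ap l p = ap r p := fun p hp => by rw [← el_apply hl.valid hp, ← el_apply hr.valid hp, h]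
  rw [img_def, img_def, key 0 (by norm_num), key 1 (by norm_num), key 3 (by norm_num), key 2 (by norm_num)]

theorem incrB_nodup : ∀ {l : List ℕ}, incrB l = true → l.Nodup := by
  intro l h
  suffices hp : l.Pairwise (· < ·) from hp.imp fun h => Nat.ne_of_lt h
  induction l with
  | nil => exact List.Pairwise.nil
  | cons a l ih =>
    match l, ih, h with
    | [], _, _ => exact List.pairwise_singleton _ a
    | b :: l, ih, h =>
      rw [incrB, Bool.and_eq_true] at h
      have hp := ih h.2
      refine List.pairwise_cons.2 ⟨fun c hc => ?_, hp⟩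
      have hab : a < b := Nat.ble_eq.mp h.1
      rcases List.mem_cons.1 hc with rfl | hc
      · exact hab
      · exact lt_trans hab ((List.pairwise_cons.1 hp).1 c hc)

/-- A word table closed under right multiplication by the generators, reached from the identity, is a subgroup. -/
theorem exists_subgroup_of_table {gens elts keys : List ℕ} {next : List (List ℕ)} {id : ℕ}
    {paths : List (List ℕ)} (hc : closedOK gens elts keys next = true) (hn : nextOK gens elts keys next = true)
    (hp : pathOK keys next id paths = true) :
    ∃ S : Subgroup P276, S ≤ C0 ∧ Nat.card S = elts.length ∧ (∀ x, x ∈ S ↔ ∃ w ∈ elts, el (cds w) = x) ∧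
      ∀ g ∈ gens, el (cds g) ∈ S := by
  classical
  simp only [closedOK, Bool.and_eq_true, List.all_eq_true, beq_iff_eq, List.contains_iff_mem] at hc
  obtain ⟨⟨⟨⟨⟨hg, he⟩, hk⟩, hincr⟩, hlen⟩, -⟩ := hc
  simp only [pathOK, Bool.and_eq_true, Nat.blt_eq, List.all_eq_true] at hp
  obtain ⟨⟨⟨hid, hidk⟩, hplen⟩, hpath⟩ := hp
  replace hidk := Nat.eq_of_beq_eq_true hidk
  replace hplen := Nat.eq_of_beq_eq_true hplen
  simp only [nextOK, Bool.and_eq_true, List.all_eq_true, Nat.blt_eq] at hn
  have hklen : keys.length = elts.length := by rw [← hk, List.length_map]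
  have hgood : ∀ i (hi : i < elts.length), Good (cds elts[i]) := fun i hi => good_cds (he _ (List.getElem_mem _))
  have hgg : ∀ i (hi : i < gens.length), Good (cds gens[i]) := fun i hi => good_cds (hg _ (List.getElem_mem _))
  have hkey : ∀ i (hi : i < elts.length), keys.getD i 0 = img (cds elts[i]) := fun i hi => by
    rw [List.getD_eq_getElem _ _ (by omega)]
    simp only [← hk, List.getElem_map]
  have hid0 : id < elts.length := by omega
  have hone : el (cds elts[id]) = 1 :=
    eq_of_img (hgood id hid0) Good.nil (by rw [← hkey id hid0, hidk])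
  -- the step along a generator
  have hstep : ∀ i (hi : i < elts.length) g (hgl : g < gens.length),
      ∃ hj : (next.getD i []).getD g next.length < elts.length,
        el (cds elts[i]) * el (cds gens[g]) = el (cds (elts[(next.getD i []).getD g next.length]'hj)) := by
    intro i hi g hgl
    have hi' : i < next.length := by omega
    have hiz : i < (elts.zip next).length := by rw [List.length_zip]; omega
    have hz := hn _ (List.getElem_mem hiz)
    rw [List.getElem_zip] at hz
    obtain ⟨hl, hall⟩ := hz
    replace hl := Nat.eq_of_beq_eq_true hl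
    simp only at hl hall
    have hgz : g < (gens.zip next[i]).length := by rw [List.length_zip]; omega
    have := hall _ (List.getElem_mem hgz)
    rw [List.getElem_zip] at this
    obtain ⟨hj, himg⟩ := this
    have e : (next.getD i []).getD g next.length = next[i][g]'(by omega) := by
      rw [List.getD_eq_getElem _ _ hi', List.getD_eq_getElem]
    have hj' : next[i][g]'(by omega) < elts.length := hklen ▸ hj
    refine ⟨e ▸ hj', ?_⟩
    rw [← el_append]
    refine eq_of_img ((hgood i hi).append (hgg g hgl)) (hgood _ _) ?_
    rw [Nat.eq_of_beq_eq_true himg, hkey _ hj']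
    simp only [e]
  -- the subgroup
  let gs : Set P276 := {x | ∃ g ∈ gens, el (cds g) = x}
  have hin : ∀ x ∈ Subgroup.closure gs, ∃ i, ∃ hi : i < elts.length, el (cds elts[i]) = x := by
    intro x hx
    rw [← Subgroup.mem_toSubmonoid, Subgroup.closure_toSubmonoid_of_finite] at hx
    induction hx using Submonoid.closure_induction_right with
    | one => exact ⟨id, hid0, hone⟩
    | mul_right u _ w hw ih =>
      obtain ⟨g, hg', rfl⟩ := hw
      obtain ⟨j, hj, rfl⟩ := List.getElem_of_mem hg'
      obtain ⟨i, hi, rfl⟩ := ih
      obtain ⟨hj', e⟩ := hstep i hi j hj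
      exact ⟨_, hj', e.symm⟩
  have hwalk : ∀ (p : List ℕ) i (hi : i < elts.length), el (cds elts[i]) ∈ Subgroup.closure gs →
      ∀ j (hj : j < elts.length), p.foldl (fun i g => (next.getD i []).getD g next.length) i = j →
        el (cds elts[j]) ∈ Subgroup.closure gs := by
    intro p
    induction p with
    | nil => intro i hi hmem j hj e; simp only [List.foldl_nil] at e; subst e; exact hmem
    | cons g p ih =>
      intro i hi hmem j hj e
      rw [List.foldl_cons] at e
      by_cases hgl : g < gens.length
      · obtain ⟨hj', e'⟩ := hstep i hi g hgl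
        refine ih _ hj' (e' ▸ mul_mem hmem (Subgroup.subset_closure ⟨_, List.getElem_mem hgl, rfl⟩)) j hj e
      · exfalso
        have hi' : i < next.length := by omega
        have hz := hn _ (List.getElem_mem (show i < (elts.zip next).length by rw [List.length_zip]; omega))
        rw [List.getElem_zip] at hz
        have hl := Nat.eq_of_beq_eq_true hz.1
        have hout : (next.getD i []).getD g next.length = next.length := by
          rw [List.getD_eq_getElem _ _ hi', List.getD_eq_default]
          simp only at hl; omega
        have hstay : ∀ q : List ℕ, q.foldl (fun i g => (next.getD i []).getD g next.length) next.length =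
            next.length := by
          intro q
          induction q with
          | nil => rfl
          | cons a q ihq =>
            rw [List.foldl_cons, List.getD_eq_default next [] (le_refl _), List.getD_nil]
            exact ihq
        rw [hout, hstay] at e
        omega
  have hall : ∀ i (hi : i < elts.length), el (cds elts[i]) ∈ Subgroup.closure gs := by
    intro i hi
    have hiz : i < paths.zipIdx.length := by rw [List.length_zipIdx]; omega
    have := Nat.eq_of_beq_eq_true (hpath _ (List.getElem_mem hiz))
    rw [List.getElem_zipIdx] at this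
    simp only [Nat.zero_add] at this
    exact hwalk _ id hid0 (hone ▸ one_mem _) i hi this
  have hmem : ∀ x, x ∈ Subgroup.closure gs ↔ ∃ w ∈ elts, el (cds w) = x := fun x =>
    ⟨fun hx => by obtain ⟨i, hi, e⟩ := hin x hx; exact ⟨_, List.getElem_mem hi, e⟩, fun ⟨w, hw, e⟩ => by
      obtain ⟨i, hi, rfl⟩ := List.getElem_of_mem hw; exact e ▸ hall i hi⟩
  refine ⟨Subgroup.closure gs, (Subgroup.closure_le _).2 ?_, ?_, hmem,
    fun g hg' => Subgroup.subset_closure ⟨g, hg', rfl⟩⟩
  · rintro _ ⟨g, hg', rfl⟩; exact (good_cds (hg g hg')).mem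
  · have hinj : ∀ u ∈ elts, ∀ v ∈ elts, el (cds u) = el (cds v) → u = v := by
      intro u hu v hv e
      obtain ⟨i, hi, rfl⟩ := List.getElem_of_mem hu
      obtain ⟨j, hj, rfl⟩ := List.getElem_of_mem hv
      have h2 := img_of_eq (hgood i hi) (hgood j hj) e
      rw [← hkey i hi, ← hkey j hj, List.getD_eq_getElem _ _ (by omega), List.getD_eq_getElem _ _ (by omega)] at h2
      have := (incrB_nodup hincr).getElem_inj_iff.1 h2
      subst this; rfl
    have hnd : (elts.map fun w => el (cds w)).Nodup := by
      refine List.Nodup.map_on hinj (List.Nodup.of_map (fun w => img (cds w)) ?_)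
      rw [hk]; exact incrB_nodup hincr
    rw [show Nat.card (Subgroup.closure gs) = ((Subgroup.closure gs : Subgroup P276) : Set P276).ncard from
      Nat.card_coe_set_eq _, show ((Subgroup.closure gs : Subgroup P276) : Set P276) =
        ↑((elts.map fun w => el (cds w)).toFinset) from Set.ext fun x => by
          rw [SetLike.mem_coe, hmem, List.coe_toFinset, Set.mem_ofPred_eq, List.mem_map],
      Set.ncard_coe_finset, List.toFinset_card_of_nodup hnd, List.length_map]

end Cfsg.Agent.CoThreeType.Classes
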