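import Cfsg.Agent.Lib.CoThreeType.ClassEl

/-!
# The classes of involutions of the coded double cover of Sp6(2) (owner: helper72)

`Z, A, B, Y, C, Tau, R` are the named elements of `C0`.

* `classify`, `exists_sylow`, `card_le_cent_A`
* `mem_cent_B`, `card_cent_B`, `sq_ne_B`, `exists_sylow_B`, `node`
* `conj_B_neg`, `conj_A_marks`, `card_cent_BY`, `cent_BY`
* `g0_z0`, `five_rel` : relations in the group on 276 points
-/

set_option autoImplicit false
set_option maxRecDepth 100000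

namespace Cfsg.Agent.CoThreeType.Classes

open ClassData

-- the certificate literals are only unfolded by the kernel
attribute [local irreducible] ClassData.tElts ClassData.tKeys ClassData.tNext ClassData.tInfo ClassData.tPath
  ClassData.dElts ClassData.dKeys ClassData.dInfo ClassData.vInfo ClassData.tbElts ClassData.tbNext
  ClassData.tbInfo ClassData.tbPath ClassData.orbit ClassData.tGens ClassData.tbGens ClassData.negW
  ClassData.markW Data.negC Data.letterC

/-- The element of a word in the seven letters. -/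
noncomputable def elC (w : ℕ) : ↥C0 :=
  if h : ltW 7 w = true then ⟨el (cds w), (good_cds h).mem⟩ else 1

theorem coe_elC {w : ℕ} (h : ltW 7 w = true) : (elC w : P276) = el (cds w) := by rw [elC, dif_pos h]

/-- The central involution. -/
noncomputable def Z : ↥C0 := ⟨z0, z0_mem⟩
/-- An involution of the first class. -/
noncomputable def A : ↥C0 := elC aW
/-- An involution of the second class. -/
noncomputable def B : ↥C0 := elC bW
/-- The partner of `B`. -/
noncomputable def Y : ↥C0 := elC yW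
/-- The marked involution. -/
noncomputable def C : ↥C0 := elC cW
/-- The involution outside the marked four. -/
noncomputable def Tau : ↥C0 := elC tauW
/-- A root of `Z`. -/
noncomputable def R : ↥C0 := elC rootW

theorem basic_raw :
    (∀ w ∈ [zW, aW, bW, yW, cW, tauW, rootW], ltW 7 w = true) ∧ ltW 8 fiveW = true ∧
    (∀ p ∈ pts, ap (cds zW) p = fn Data.negC p) ∧
    (∀ l ∈ [cds zW, cds aW, cds bW, cds yW, cds cW, cds tauW], isInvB l = true) ∧
    (eqB (cds aW) (cds zW) = false ∧ commB (cds bW) (cds yW) = true ∧ eqB (cds bW) (cds yW) = false) ∧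
    (commB (cds cW) (cds bW) = true ∧ commB (cds cW) (cds yW) = true ∧ commB (cds tauW) (cds bW) = true ∧
      commB (cds tauW) (cds yW) = true ∧ commB (cds rootW) (cds bW) = true ∧ commB (cds rootW) (cds yW) = true ∧
      eqB (cds rootW ++ cds rootW) (cds zW) = true) ∧
    (∀ v ∈ [[], cds bW, cds yW, cds bW ++ cds yW],
      eqB (cds cW) (cds zW ++ v) = false ∧ eqB (cds tauW) v = false) ∧
    negList.length = negW.length ∧ (∀ q ∈ negList.zip negW, conjB q.2 q.1 (cds bW) = true) ∧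
    kindOK (cds cW) (markW.getD 0 (0, 0)) = true ∧ kindOK (cds zW ++ cds cW) (markW.getD 1 (0, 0)) = true := by
  have h := check_basic
  simp only [basicOK, Bool.and_eq_true, and_assoc] at h
  obtain ⟨h1, h2, h3, -, h4, -, h5, h6, h7, -, c1, c2, c3, c4, c5, c6, c7, h8, h9, h10, h11, h12⟩ := h
  simp only [Bool.not_eq_true'] at h5 h7
  exact ⟨List.all_eq_true.1 h1, h2, fun p hp => Nat.eq_of_beq_eq_true (by
      simpa using List.all_eq_true.1 h3 p hp),
    List.all_eq_true.1 h4, ⟨h5, h6, h7⟩, ⟨c1, c2, c3, c4, c5, c6, c7⟩,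
    fun v hv => by simpa using List.all_eq_true.1 h8 v hv,
    by simpa using h9, List.all_eq_true.1 h10, h11, h12⟩

theorem lt_z : ltW 7 zW = true := basic_raw.1 _ (by simp)
theorem lt_a : ltW 7 aW = true := basic_raw.1 _ (by simp)
theorem lt_b : ltW 7 bW = true := basic_raw.1 _ (by simp)
theorem lt_y : ltW 7 yW = true := basic_raw.1 _ (by simp)
theorem lt_c : ltW 7 cW = true := basic_raw.1 _ (by simp)
theorem lt_tau : ltW 7 tauW = true := basic_raw.1 _ (by simp)
theorem lt_r : ltW 7 rootW = true := basic_raw.1 _ (by simp)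

/-- The element is given by a good list. -/
def Is (x : ↥C0) (l : List ℕ) : Prop := Good l ∧ (x : P276) = el l

theorem Is.one : Is 1 [] := ⟨Good.nil, rfl⟩

theorem Is.mul {x y : ↥C0} {l r : List ℕ} (hx : Is x l) (hy : Is y r) : Is (x * y) (l ++ r) :=
  ⟨hx.1.append hy.1, by rw [Subgroup.coe_mul, hx.2, hy.2, el_append]⟩

theorem Is.eq {x y : ↥C0} {l r : List ℕ} (hx : Is x l) (hy : Is y r) (h : eqB l r = true) : x = y :=
  Subtype.ext (hx.2.trans ((eq_of_eqB hx.1 hy.1 h).trans hy.2.symm))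

theorem Is.eqB_iff {x y : ↥C0} {l r : List ℕ} (hx : Is x l) (hy : Is y r) : eqB l r = true ↔ x = y :=
  ⟨hx.eq hy, fun e => eqB_of_eq hx.1.valid hy.1.valid (by rw [← hx.2, ← hy.2, e])⟩

theorem Is.ne {x y : ↥C0} {l r : List ℕ} (hx : Is x l) (hy : Is y r) (h : eqB l r = false) : x ≠ y :=
  fun e => by rw [(hx.eqB_iff hy).2 e] at h; exact absurd h (by simp)

theorem Is.commB_iff {x y : ↥C0} {l r : List ℕ} (hx : Is x l) (hy : Is y r) :
    commB l r = true ↔ x * y = y * x := (hx.mul hy).eqB_iff (hy.mul hx)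

theorem isEl {w : ℕ} (h : ltW 7 w = true) : Is (elC w) (cds w) := ⟨good_cds h, coe_elC h⟩

theorem isZ : Is Z (cds zW) := by
  refine ⟨good_cds lt_z, ?_⟩
  show z0 = el (cds zW)
  have hN : Good [Data.negC] := ⟨by simp [neg_valid], by simpa [el, z0] using z0_mem⟩
  have : el (cds zW) = el [Data.negC] := eq_of_eqB (good_cds lt_z) hN (by
    simp only [eqB, List.all_eq_true]
    intro p hp
    rw [basic_raw.2.2.1 p hp, ap_eq]
    exact Nat.beq_refl _)
  rw [this]
  simp [el, z0]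

theorem isA : Is A (cds aW) := isEl lt_a
theorem isB : Is B (cds bW) := isEl lt_b
theorem isY : Is Y (cds yW) := isEl lt_y
theorem isC : Is C (cds cW) := isEl lt_c
theorem isTau : Is Tau (cds tauW) := isEl lt_tau
theorem isR : Is R (cds rootW) := isEl lt_r

theorem comm_Z (x : ↥C0) : x * Z = Z * x := Subtype.ext (z0_comm x.2)

theorem inv_of_isInvB {x : ↥C0} {l : List ℕ} (hx : Is x l) (h : isInvB l = true) : x * x = 1 ∧ x ≠ 1 := by
  simp only [isInvB, Bool.and_eq_true, Bool.not_eq_true'] at h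
  exact ⟨(hx.mul hx).eq Is.one h.1, hx.ne Is.one h.2⟩

theorem isInvB_iff {x : ↥C0} {l : List ℕ} (hx : Is x l) : isInvB l = true ↔ x * x = 1 ∧ x ≠ 1 := by
  refine ⟨inv_of_isInvB hx, fun h => ?_⟩
  simp only [isInvB, Bool.and_eq_true, Bool.not_eq_true', (hx.mul hx).eqB_iff Is.one]
  exact ⟨h.1, Bool.eq_false_iff.2 fun e => h.2 (hx.eq Is.one e)⟩

theorem Z_inv : Z * Z = 1 ∧ Z ≠ 1 := inv_of_isInvB isZ (basic_raw.2.2.2.1 _ (by simp))
theorem A_inv : A * A = 1 ∧ A ≠ 1 := inv_of_isInvB isA (basic_raw.2.2.2.1 _ (by simp))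
theorem B_inv : B * B = 1 ∧ B ≠ 1 := inv_of_isInvB isB (basic_raw.2.2.2.1 _ (by simp))
theorem Y_inv : Y * Y = 1 ∧ Y ≠ 1 := inv_of_isInvB isY (basic_raw.2.2.2.1 _ (by simp))
theorem C_inv : C * C = 1 ∧ C ≠ 1 := inv_of_isInvB isC (basic_raw.2.2.2.1 _ (by simp))
theorem Tau_inv : Tau * Tau = 1 ∧ Tau ≠ 1 := inv_of_isInvB isTau (basic_raw.2.2.2.1 _ (by simp))

theorem A_ne_Z : A ≠ Z := isA.ne isZ basic_raw.2.2.2.2.1.1
theorem B_comm_Y : B * Y = Y * B := (isB.commB_iff isY).1 basic_raw.2.2.2.2.1.2.1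
theorem B_ne_Y : B ≠ Y := isB.ne isY basic_raw.2.2.2.2.1.2.2

theorem marks_comm : C * B = B * C ∧ C * Y = Y * C ∧ Tau * B = B * Tau ∧ Tau * Y = Y * Tau ∧
    R * B = B * R ∧ R * Y = Y * R ∧ R * R = Z := by
  obtain ⟨c1, c2, c3, c4, c5, c6, c7⟩ := basic_raw.2.2.2.2.2.1
  exact ⟨(isC.commB_iff isB).1 c1, (isC.commB_iff isY).1 c2, (isTau.commB_iff isB).1 c3,
    (isTau.commB_iff isY).1 c4, (isR.commB_iff isB).1 c5, (isR.commB_iff isY).1 c6, (isR.mul isR).eq isZ c7⟩

/-- The four-group of `B` and `Y`. -/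
def InV (v : ↥C0) : Prop := v = 1 ∨ v = B ∨ v = Y ∨ v = B * Y

theorem marks_ne {v : ↥C0} (hv : InV v) : C ≠ Z * v ∧ Tau ≠ v := by
  have key : ∀ (x : ↥C0) (l : List ℕ), Is x l → l ∈ [[], cds bW, cds yW, cds bW ++ cds yW] → C ≠ Z * x ∧ Tau ≠ x :=
    fun x l hx hl => by
      obtain ⟨h1, h2⟩ := basic_raw.2.2.2.2.2.2.1 l hl
      exact ⟨isC.ne (isZ.mul hx) h1, isTau.ne hx h2⟩
  rcases hv with rfl | rfl | rfl | rfl
  exacts [key _ _ Is.one (by simp), key _ _ isB (by simp), key _ _ isY (by simp), key _ _ (isB.mul isY) (by simp)]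

theorem exists_conj_of_conjB {c : ℕ} {x y : ↥C0} {l r : List ℕ} (hx : Is x l) (hy : Is y r)
    (h : conjB c l r = true) : ∃ d : ↥C0, d = elC c ∧ Is d (cds c) ∧ d * x * d⁻¹ = y := by
  simp only [conjB, Bool.and_eq_true] at h
  refine ⟨_, rfl, isEl h.1, ?_⟩
  rw [((isEl h.1).mul hx).eq (hy.mul (isEl h.1)) h.2, mul_inv_cancel_right]

/-- The involutions conjugate to `B`. -/
noncomputable def negElts : List ↥C0 := [B, Y, Y * B, B * Y, Z * B, Z * Y, Z * (B * Y), Tau, Tau * B, Tau * Y, Tau * (B * Y)]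

theorem conj_B_neg {x : ↥C0} (hx : x ∈ negElts) : ∃ d : ↥C0, d * x * d⁻¹ = B := by
  have key : ∀ l ∈ negList, Is x l → ∃ d : ↥C0, d * x * d⁻¹ = B := fun l hl hxl => by
    obtain ⟨i, hi, rfl⟩ := List.getElem_of_mem hl
    have hlen := basic_raw.2.2.2.2.2.2.2.1
    have hz : i < (negList.zip negW).length := by rw [List.length_zip]; omega
    have := basic_raw.2.2.2.2.2.2.2.2.1 _ (List.getElem_mem hz)
    rw [List.getElem_zip] at this
    obtain ⟨d, -, -, hd⟩ := exists_conj_of_conjB hxl isB this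
    exact ⟨d, hd⟩
  simp only [negElts, List.mem_cons, List.not_mem_nil, or_false] at hx
  have hm : ∀ l : List ℕ, l ∈ [cds bW, cds yW, cds yW ++ cds bW, cds bW ++ cds yW, cds zW ++ cds bW,
      cds zW ++ cds yW, cds zW ++ (cds bW ++ cds yW), cds tauW, cds tauW ++ cds bW, cds tauW ++ cds yW,
      cds tauW ++ (cds bW ++ cds yW)] → l ∈ negList := fun l hl => hl
  rcases hx with rfl | rfl | rfl | rfl | rfl | rfl | rfl | rfl | rfl | rfl | rfl
  exacts [key _ (hm _ (by simp)) isB, key _ (hm _ (by simp)) isY, key _ (hm _ (by simp)) (isY.mul isB),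
    key _ (hm _ (by simp)) (isB.mul isY), key _ (hm _ (by simp)) (isZ.mul isB),
    key _ (hm _ (by simp)) (isZ.mul isY), key _ (hm _ (by simp)) (isZ.mul (isB.mul isY)),
    key _ (hm _ (by simp)) isTau, key _ (hm _ (by simp)) (isTau.mul isB), key _ (hm _ (by simp)) (isTau.mul isY),
    key _ (hm _ (by simp)) (isTau.mul (isB.mul isY))]

/-- The classes named by a kind. -/
def Kind (x : ↥C0) : Prop := x = Z ∨ (∃ d : ↥C0, d * x * d⁻¹ = A) ∨ ∃ d : ↥C0, d * x * d⁻¹ = B

theorem kind_of_kindOK {x : ↥C0} {l : List ℕ} (hx : Is x l) {i : ℕ × ℕ} (h : kindOK l i = true) :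
    (x = Z ∧ i.1 = 1) ∨ ((∃ d : ↥C0, d * x * d⁻¹ = A) ∧ i.1 = 2) ∨ ((∃ d : ↥C0, d * x * d⁻¹ = B) ∧ i.1 = 3) := by
  obtain ⟨i, c⟩ := i
  unfold kindOK at h
  dsimp only at h
  split at h
  · exact Or.inl ⟨hx.eq isZ h, rfl⟩
  · obtain ⟨d, -, -, hd⟩ := exists_conj_of_conjB hx isA h
    exact Or.inr (Or.inl ⟨⟨d, hd⟩, rfl⟩)
  · obtain ⟨d, -, -, hd⟩ := exists_conj_of_conjB hx isB h
    exact Or.inr (Or.inr ⟨⟨d, hd⟩, rfl⟩)
  · simp at h

theorem check_marks : (markW.getD 0 (0, 0)).1 = 2 ∧ (markW.getD 1 (0, 0)).1 = 2 := by decide +kernel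

theorem conj_A_marks : (∃ d : ↥C0, d * C * d⁻¹ = A) ∧ ∃ d : ↥C0, d * (Z * C) * d⁻¹ = A := by
  obtain ⟨h1, h2⟩ := basic_raw.2.2.2.2.2.2.2.2.2
  obtain ⟨m1, m2⟩ := check_marks
  constructor
  · rcases kind_of_kindOK isC h1 with ⟨-, e⟩ | ⟨hd, -⟩ | ⟨-, e⟩
    exacts [absurd e (by omega), hd, absurd e (by omega)]
  · rcases kind_of_kindOK (isZ.mul isC) h2 with ⟨-, e⟩ | ⟨hd, -⟩ | ⟨-, e⟩
    exacts [absurd e (by omega), hd, absurd e (by omega)]

theorem el_cinv {w : ℕ} (h : ltW 7 w = true) : el (cinv w) = (el (cds w))⁻¹ := by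
  have h4 := check_four
  simp only [fourOK, List.all_eq_true, List.mem_range] at h4
  have key : ∀ l : List ℕ, (∀ k ∈ l, k < 7) →
      el ((l.reverse.flatMap fun k => [k, k, k]).map code) * el (l.map code) = 1 := by
    intro l
    induction l with
    | nil => intro _; simp [el_nil]
    | cons k l ih =>
      intro hl
      have hk : k < 7 := hl k List.mem_cons_self
      have hg : Good [code k, code k, code k, code k] := good_codes (l := [k, k, k, k]) (by simp [hk])
      have e4 : el [code k, code k, code k, code k] = 1 := eq_of_eqB hg Good.nil (h4 k hk)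
      rw [List.reverse_cons, List.flatMap_append, List.map_append, el_append, List.map_cons,
        show code k :: l.map code = [code k] ++ l.map code from rfl, el_append, mul_assoc,
        ← mul_assoc (el _) (el [code k]), ← el_append]
      rw [show ([k].flatMap fun k => [k, k, k]).map code ++ [code k] = [code k, code k, code k, code k] from rfl,
        e4, one_mul]
      exact ih fun j hj => hl j (List.mem_cons_of_mem _ hj)
  exact eq_inv_of_mul_eq_one_left (key (idx w) (ltW_iff.1 h))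

theorem injOn_keys {elts keys : List ℕ} (he : ∀ w ∈ elts, ltW 7 w = true)
    (hk : (elts.map fun w => img (cds w)) = keys) (hi : incrB keys = true) : (elts.map elC).Nodup := by
  refine List.Nodup.map_on (fun u hu v hv e => ?_) (List.Nodup.of_map (fun w => img (cds w)) ?_)
  · have h2 : img (cds u) = img (cds v) :=
      img_of_eq (good_cds (he u hu)) (good_cds (he v hv))
        ((coe_elC (he u hu)).symm.trans ((congrArg Subtype.val e).trans (coe_elC (he v hv))))
    exact List.inj_on_of_nodup_map (hk ▸ incrB_nodup hi) hu hv h2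
  · rw [hk]; exact incrB_nodup hi

theorem cent_list :
    (∀ w ∈ dElts, ltW 7 w = true ∧ elC w * B = B * elC w ∧ elC w * elC w ≠ B) ∧ (dElts.map elC).Nodup ∧
      dElts.length = 384 := by
  have h := check_cent
  simp only [centOK, Bool.and_eq_true, List.all_eq_true, beq_iff_eq, Bool.not_eq_true'] at h
  obtain ⟨⟨⟨⟨⟨⟨h1, h2⟩, h3⟩, h4⟩, h5⟩, -⟩, -⟩ := h
  refine ⟨fun w hw => ⟨h1 w hw, ((isEl (h1 w hw)).commB_iff isB).1 (h5 w hw).1,
    ((isEl (h1 w hw)).mul (isEl (h1 w hw))).ne isB (h5 w hw).2⟩, injOn_keys h1 h2 h3, h4⟩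

/-- The centraliser of `B` is the list. -/
theorem mem_cent_B {x : ↥C0} : x * B = B * x ↔ ∃ w ∈ dElts, elC w = x := by
  classical
  refine ⟨fun hx => ?_, fun ⟨w, hw, e⟩ => e ▸ (cent_list.1 w hw).2.1⟩
  obtain ⟨hl, hnd, hlen⟩ := cent_list
  obtain ⟨qs, hqs⟩ : ∃ qs, qs = orbit.flatten := ⟨_, rfl⟩
  have hlenq : qs.length = 7560 := hqs ▸ orbit_length
  have hq : ∀ q ∈ qs, ltW 7 q.2 = true ∧ img (cds q.2 ++ (cds bW ++ cinv q.2)) = q.1 :=
    fun q hq => check_orbit q (hqs ▸ hq)
  have hndq : (qs.map Prod.fst).Nodup := incrB_nodup (hqs ▸ check_orbit_incr)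
  let Cb : Set ↥C0 := {c | c * B = B * c}
  let f : Fin qs.length × Cb → ↥C0 := fun p => elC qs[p.1.val].2 * p.2.1
  have hf : Function.Injective f := by
    rintro ⟨i, c, hc⟩ ⟨j, d, hd⟩ e
    have e' : elC qs[i.val].2 * c = elC qs[j.val].2 * d := e
    have hi := hq _ (List.getElem_mem i.isLt)
    have hj := hq _ (List.getElem_mem j.isLt)
    have hcc : c * B * c⁻¹ = B := by rw [show c * B = B * c from hc, mul_inv_cancel_right]
    have hdd : d * B * d⁻¹ = B := by rw [show d * B = B * d from hd, mul_inv_cancel_right]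
    have hh : elC qs[i.val].2 * B * (elC qs[i.val].2)⁻¹ = elC qs[j.val].2 * B * (elC qs[j.val].2)⁻¹ := by
      calc _ = elC qs[i.val].2 * (c * B * c⁻¹) * (elC qs[i.val].2)⁻¹ := by rw [hcc]
        _ = (elC qs[i.val].2 * c) * B * (elC qs[i.val].2 * c)⁻¹ := by group
        _ = (elC qs[j.val].2 * d) * B * (elC qs[j.val].2 * d)⁻¹ := by rw [e']
        _ = elC qs[j.val].2 * (d * B * d⁻¹) * (elC qs[j.val].2)⁻¹ := by group
        _ = _ := by rw [hdd]
    have key : ∀ q : ℕ × ℕ, ltW 7 q.2 = true →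
        el (cds q.2 ++ (cds bW ++ cinv q.2)) = ((elC q.2 * B * (elC q.2)⁻¹ : ↥C0) : P276) := fun q hq => by
      rw [el_append, el_append, el_cinv hq, Subgroup.coe_mul, Subgroup.coe_mul, Subgroup.coe_inv, coe_elC hq,
        isB.2, mul_assoc]
    have hkey : qs[i.val].1 = qs[j.val].1 := by
      rw [← hi.2, ← hj.2]
      refine img_of_eq ((good_cds hi.1).append ((good_cds lt_b).append (good_cinv hi.1)))
        ((good_cds hj.1).append ((good_cds lt_b).append (good_cinv hj.1))) ?_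
      rw [key _ hi.1, key _ hj.1, hh]
    have hij : i = j := Fin.ext ((hndq.getElem_inj_iff (hi := by simp) (hj := by simp)).1 (by simpa using hkey))
    subst hij
    exact Prod.ext rfl (Subtype.ext (mul_left_cancel e'))
  have hc := Nat.card_le_card_of_injective f hf
  rw [Nat.card_prod, Nat.card_fin, hlenq, natCard_C0, Nat.card_coe_set_eq] at hc
  have hsub : (↑(dElts.map elC).toFinset : Set ↥C0) ⊆ Cb := fun c hc => by
    rw [List.coe_toFinset, Set.mem_ofPred_eq, List.mem_map] at hc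
    obtain ⟨w, hw, rfl⟩ := hc
    exact (hl w hw).2.1
  have heq : (↑(dElts.map elC).toFinset : Set ↥C0) = Cb := Set.eq_of_subset_of_ncard_le hsub (by
    rw [Set.ncard_coe_finset, List.toFinset_card_of_nodup hnd, List.length_map, hlen]
    omega) (Set.toFinite _)
  have : x ∈ (↑(dElts.map elC).toFinset : Set ↥C0) := heq ▸ hx
  rw [List.coe_toFinset, Set.mem_ofPred_eq, List.mem_map] at this
  exact this

theorem card_cent_B : {x : ↥C0 | x * B = B * x}.ncard = 384 := by
  classical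
  obtain ⟨-, hnd, hlen⟩ := cent_list
  rw [show {x : ↥C0 | x * B = B * x} = ↑(dElts.map elC).toFinset from Set.ext fun x => by
    rw [List.coe_toFinset, Set.mem_ofPred_eq, Set.mem_ofPred_eq, List.mem_map, mem_cent_B],
    Set.ncard_coe_finset, List.toFinset_card_of_nodup hnd, List.length_map, hlen]

theorem sq_ne_B {x : ↥C0} (hx : x * B = B * x) : x * x ≠ B := by
  obtain ⟨w, hw, rfl⟩ := mem_cent_B.1 hx
  exact (cent_list.1 w hw).2.2

theorem all_parts {α : Type*} {l : List α} {p : α → Bool} {n k : ℕ} (hlen : l.length = n * k)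
    (h : ∀ i < k, ((l.drop (n * i)).take n).all p = true) : ∀ x ∈ l, p x = true := by
  intro x hx
  obtain ⟨i, hi, rfl⟩ := List.getElem_of_mem hx
  have hn : 0 < n := Nat.pos_of_ne_zero fun e => by rw [hlen, e, Nat.zero_mul] at hi; omega
  have hik : i / n < k := Nat.div_lt_of_lt_mul (hlen ▸ hi)
  have hmod := Nat.mod_lt i hn
  have hdm := Nat.div_add_mod i n
  refine List.all_eq_true.1 (h _ hik) _ (List.mem_iff_getElem.2 ⟨i % n, ?_, ?_⟩)
  · rw [List.length_take, List.length_drop]; omega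
  · rw [List.getElem_take, List.getElem_drop]
    simp only [hdm]

theorem check_lengths : tElts.length = 1024 ∧ tNext.length = 1024 ∧
    tbElts.length = 128 ∧ (tElts.any fun w => eqB (cds w) (cds zW)) = true ∧
    ((tbElts.map fun i => dElts.getD i 0).any fun w => eqB (cds w) (cds zW)) = true := by
  decide +kernel

/-- A Sylow subgroup of `C0` and its central involutions. -/
theorem exists_sylow : ∃ S : Subgroup ↥C0, Nat.card S = 1024 ∧ Z ∈ S ∧
    (∀ x ∈ S, x * x = 1 → x ≠ 1 → Kind x) ∧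
    (∀ x ∈ S, (∀ s ∈ S, s * x = x * s) → x * x = 1 → x ≠ 1 → x = Z ∨ ∃ d : ↥C0, d * x * d⁻¹ = B) ∧
    512 ≤ {x : ↥C0 | x * A = A * x}.ncard := by
  classical
  obtain ⟨hlen, hlen', -, hz, -⟩ := check_lengths
  have hc := check_sylow
  have hn : nextOK tGens tElts tKeys tNext = true := by
    rw [nextOK, List.all_eq_true]
    refine all_parts (n := 128) (k := 8) (by rw [List.length_zip, hlen, hlen']; rfl) fun i hi => ?_
    have := check_next i hi
    simp only [sylPartOK, nextOK] at this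
    rw [List.zip_eq_zipWith, List.drop_zipWith, List.take_zipWith]
    exact this
  obtain ⟨S, hS0, hScard, hSmem, hSgen⟩ := exists_subgroup_of_table hc hn check_path
  simp only [closedOK, Bool.and_eq_true, List.all_eq_true, beq_iff_eq] at hc
  obtain ⟨⟨⟨⟨⟨hg, he⟩, hk⟩, hincr⟩, -⟩, -⟩ := hc
  have hmem : ∀ x : ↥C0, x ∈ S.subgroupOf C0 ↔ ∃ w ∈ tElts, elC w = x := fun x => by
    rw [Subgroup.mem_subgroupOf, hSmem]
    constructor
    · rintro ⟨w, hw, e⟩; exact ⟨w, hw, Subtype.ext ((coe_elC (he w hw)).trans e)⟩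
    · rintro ⟨w, hw, rfl⟩; exact ⟨w, hw, (coe_elC (he w hw)).symm⟩
  have hi := check_sylow_info
  simp only [sylowInfoOK, Bool.and_eq_true, List.all_eq_true, beq_iff_eq, Bool.or_eq_true,
    Bool.not_eq_true'] at hi
  obtain ⟨⟨hilen, hinfo⟩, hcount⟩ := hi
  have hkind : ∀ w ∈ tElts, elC w * elC w = 1 → elC w ≠ 1 → ∃ i : ℕ × ℕ, kindOK (cds w) i = true ∧
      ((∀ g ∈ tGens, commB (cds w) (cds g) = true) → i.1 = 1 ∨ i.1 = 3) := by
    intro w hw h1 h2
    obtain ⟨j, hj, rfl⟩ := List.getElem_of_mem hw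
    have hjz : j < (tElts.zip tInfo).length := by rw [List.length_zip]; omega
    have := hinfo _ (List.getElem_mem hjz)
    rw [List.getElem_zip] at this
    rcases this with e | ⟨e1, e2⟩
    · rw [(isInvB_iff (isEl (he _ hw))).2 ⟨h1, h2⟩] at e; exact absurd e (by simp)
    refine ⟨_, e1, fun hall => ?_⟩
    rcases e2 with (e2 | e2) | e2
    · rw [List.all_eq_true.2 hall] at e2; exact absurd e2 (by simp)
    · exact Or.inl e2
    · exact Or.inr e2
  refine ⟨S.subgroupOf C0, ?_, ?_, ?_, ?_, ?_⟩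
  · rw [Nat.card_congr (Subgroup.subgroupOfEquivOfLe hS0).toEquiv, hScard, hlen]
  · simp only [List.any_eq_true] at hz
    obtain ⟨w, hw, e⟩ := hz
    exact (hmem Z).2 ⟨w, hw, (isEl (he w hw)).eq isZ e⟩
  · intro x hx h1 h2
    obtain ⟨w, hw, rfl⟩ := (hmem x).1 hx
    obtain ⟨i, hi, -⟩ := hkind w hw h1 h2
    rcases kind_of_kindOK (isEl (he w hw)) hi with ⟨e, -⟩ | ⟨e, -⟩ | ⟨e, -⟩
    exacts [Or.inl e, Or.inr (Or.inl e), Or.inr (Or.inr e)]
  · intro x hx hxc h1 h2
    obtain ⟨w, hw, rfl⟩ := (hmem x).1 hx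
    obtain ⟨i, hi, hi'⟩ := hkind w hw h1 h2
    have hall : ∀ g ∈ tGens, commB (cds w) (cds g) = true := fun g hg' => by
      rw [(isEl (he w hw)).commB_iff (isEl (hg g hg'))]
      refine (hxc _ ?_).symm
      rw [Subgroup.mem_subgroupOf, coe_elC (hg g hg')]
      exact hSgen g hg'
    rcases kind_of_kindOK (isEl (he w hw)) hi with ⟨e, -⟩ | ⟨-, e⟩ | ⟨e, -⟩
    · exact Or.inl e
    · rcases hi' hall with e' | e' <;> omega
    · exact Or.inr e
  · have hnd : ((tElts.filter fun w => commB (cds w) (cds aW)).map elC).Nodup :=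
      (injOn_keys he hk hincr).sublist (List.filter_sublist.map elC)
    rw [← hcount, List.countP_eq_length_filter, ← List.length_map (f := elC), ← List.toFinset_card_of_nodup hnd,
      ← Set.ncard_coe_finset]
    refine Set.ncard_le_ncard (fun x hx => ?_) (Set.toFinite _)
    rw [List.coe_toFinset, Set.mem_ofPred_eq, List.mem_map] at hx
    obtain ⟨w, hw, rfl⟩ := hx
    rw [List.mem_filter] at hw
    exact ((isEl (he w hw.1)).commB_iff isA).1 hw.2

end Cfsg.Agent.CoThreeType.Classes
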