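import Cfsg.Agent.Lib.CoThreeType.ClassModel

/-!
# The centraliser of `B` in the coded double cover (owner: helper72)

* `exists_sylow_B`, `node`, `card_cent_BY`, `cent_BY`
* `g0_z0`, `five_rel` : relations in the group on 276 points
-/

set_option autoImplicit false
set_option maxRecDepth 100000

namespace Cfsg.Agent.CoThreeType.Classes

open ClassData

-- the certificate literals are only unfolded by the kernel
attribute [local irreducible] ClassData.tElts ClassData.tKeys ClassData.tNext ClassData.tInfo ClassData.tPath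
  ClassData.dElts ClassData.dKeys ClassData.dInfo ClassData.vInfo ClassData.tbElts ClassData.tbNext
  ClassData.tbInfo ClassData.tbPath ClassData.orbit ClassData.tGens ClassData.tbGens ClassData.negW
  ClassData.markW Data.negC Data.letterC

/-- A Sylow subgroup of the centraliser of `B` and its central involutions. -/
theorem exists_sylow_B : ∃ S : Subgroup ↥C0, Nat.card S = 128 ∧ Z ∈ S ∧ (∀ x ∈ S, x * B = B * x) ∧
    (∀ x ∈ S, (∀ s ∈ S, s * x = x * s) → x * x = 1 → x ≠ 1 → x = Z ∨ ∃ d : ↥C0, d * x * d⁻¹ = B) := by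
  classical
  obtain ⟨-, -, hlen, -, hz⟩ := check_lengths
  have h := check_tb
  simp only [tbOK, Bool.and_eq_true] at h
  obtain ⟨⟨⟨hn, hc⟩, hilen⟩, hinfo⟩ := h
  obtain ⟨S, hS0, hScard, hSmem, hSgen⟩ := exists_subgroup_of_table hc hn check_tb_path
  simp only [closedOK, Bool.and_eq_true, List.all_eq_true, beq_iff_eq] at hc
  obtain ⟨⟨⟨⟨⟨hg, he⟩, hk⟩, hincr⟩, -⟩, -⟩ := hc
  obtain ⟨es, hes⟩ : ∃ es, es = tbElts.map fun i => dElts.getD i 0 := ⟨_, rfl⟩
  rw [← hes] at hScard hSmem he hz hinfo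
  have hlene : es.length = 128 := by rw [hes, List.length_map, hlen]
  have hD : ∀ w ∈ es, w ∈ dElts := fun w hw => by
    rw [hes, List.mem_map] at hw
    obtain ⟨i, hi, rfl⟩ := hw
    have hc := check_cent
    simp only [centOK, Bool.and_eq_true, List.all_eq_true, beq_iff_eq, decide_eq_true_eq] at hc
    have := hc.2 i hi
    rw [List.getD_eq_getElem _ _ (by rw [cent_list.2.2]; exact this)]
    exact List.getElem_mem _
  have hmem : ∀ x : ↥C0, x ∈ S.subgroupOf C0 ↔ ∃ w ∈ es, elC w = x := fun x => by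
    rw [Subgroup.mem_subgroupOf, hSmem]
    constructor
    · rintro ⟨w, hw, e⟩; exact ⟨w, hw, Subtype.ext ((coe_elC (he w hw)).trans e)⟩
    · rintro ⟨w, hw, rfl⟩; exact ⟨w, hw, (coe_elC (he w hw)).symm⟩
  refine ⟨S.subgroupOf C0, ?_, ?_, ?_, ?_⟩
  · rw [Nat.card_congr (Subgroup.subgroupOfEquivOfLe hS0).toEquiv, hScard, hlene]
  · simp only [List.any_eq_true] at hz
    obtain ⟨w, hw, e⟩ := hz
    exact (hmem Z).2 ⟨w, hw, (isEl (he w hw)).eq isZ e⟩
  · intro x hx
    obtain ⟨w, hw, rfl⟩ := (hmem x).1 hx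
    exact (cent_list.1 w (hD w hw)).2.1
  · intro x hx hxc h1 h2
    obtain ⟨w, hw, rfl⟩ := (hmem x).1 hx
    obtain ⟨j, hj, rfl⟩ := List.getElem_of_mem hw
    simp only [List.all_eq_true, Bool.or_eq_true, Bool.not_eq_true', Bool.and_eq_true, beq_iff_eq] at hinfo
    simp only [beq_iff_eq] at hilen
    have hjz : j < (es.zip tbInfo).length := by rw [List.length_zip, hilen]; omega
    have := hinfo _ (List.getElem_mem hjz)
    rw [List.getElem_zip] at this
    have hall : (tbGens.all fun g => commB (cds es[j]) (cds g)) = true := List.all_eq_true.2 fun g hg' => by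
      rw [(isEl (he _ hw)).commB_iff (isEl (hg g hg'))]
      refine (hxc _ ?_).symm
      rw [Subgroup.mem_subgroupOf, coe_elC (hg g hg')]
      exact hSgen g hg'
    rcases this with (e | e) | ⟨e1, e2⟩
    · rw [(isInvB_iff (isEl (he _ hw))).2 ⟨h1, h2⟩] at e; exact absurd e (by simp)
    · rw [hall] at e; exact absurd e (by simp)
    · rcases kind_of_kindOK (isEl (he _ hw)) e2 with ⟨e, -⟩ | ⟨-, e⟩ | ⟨e, -⟩
      · exact Or.inl e
      · omega
      · exact Or.inr e

theorem cent_info_raw :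
    dInfo.length = 384 ∧ vInfo.length = 384 ∧ dElts.countP (fun w => commB (cds w) (cds yW)) = 32 := by
  have h := check_cent_info
  simp only [centInfoOK, Bool.and_eq_true, beq_iff_eq] at h
  obtain ⟨⟨⟨⟨h1, h2⟩, -⟩, h3⟩, -⟩ := h
  exact ⟨h1, h2, h3⟩

/-- An involution commuting with `B`. -/
theorem node {x : ↥C0} (hx : x * B = B * x) (h1 : x * x = 1) (h2 : x ≠ 1) :
    x = B ∨ x = Z ∨ (∃ d : ↥C0, d * x * d⁻¹ = A) ∨ x * B = Z ∨ (∃ d : ↥C0, d * (x * B) * d⁻¹ = A) ∨
      ∃ d : ↥C0, d * B = B * d ∧ (d * x * d⁻¹ = Y ∨ d * x * d⁻¹ = Y * B) := by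
  obtain ⟨w, hw, rfl⟩ := mem_cent_B.1 hx
  obtain ⟨i, hi, rfl⟩ := List.getElem_of_mem hw
  obtain ⟨hl, -, -⟩ := cent_info_raw
  have hlen := cent_list.2.2
  have h := check_cent_info
  simp only [centInfoOK, Bool.and_eq_true, List.all_eq_true] at h
  have hz : i < (dElts.zip dInfo).length := by rw [List.length_zip]; omega
  have hq := h.1.1.2 _ (List.getElem_mem hz)
  rw [List.getElem_zip] at hq
  have hI := isEl (cent_list.1 _ hw).1
  simp only [Bool.or_eq_true, Bool.not_eq_true', (isInvB_iff hI).2 ⟨h1, h2⟩, Bool.true_eq_false, false_or] at hq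
  obtain ⟨⟨k, c⟩, hkc⟩ : ∃ q, q = dInfo[i]'(by omega) := ⟨_, rfl⟩
  rw [← hkc] at hq
  dsimp only at hq
  split at hq
  · exact Or.inl (hI.eq isB hq)
  · exact Or.inr (Or.inl (hI.eq isZ hq))
  · obtain ⟨d, -, -, hd⟩ := exists_conj_of_conjB hI isA hq
    exact Or.inr (Or.inr (Or.inl ⟨d, hd⟩))
  · exact Or.inr (Or.inr (Or.inr (Or.inl ((hI.mul isB).eq isZ hq))))
  · obtain ⟨d, -, -, hd⟩ := exists_conj_of_conjB (hI.mul isB) isA hq
    exact Or.inr (Or.inr (Or.inr (Or.inr (Or.inl ⟨d, hd⟩))))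
  · simp only [Bool.and_eq_true] at hq
    obtain ⟨d, -, hdI, hd⟩ := exists_conj_of_conjB hI isY hq.1
    exact Or.inr (Or.inr (Or.inr (Or.inr (Or.inr ⟨d, (hdI.commB_iff isB).1 hq.2, Or.inl hd⟩))))
  · simp only [Bool.and_eq_true] at hq
    obtain ⟨d, -, hdI, hd⟩ := exists_conj_of_conjB hI (isY.mul isB) hq.1
    exact Or.inr (Or.inr (Or.inr (Or.inr (Or.inr ⟨d, (hdI.commB_iff isB).1 hq.2, Or.inr hd⟩))))
  · simp at hq

theorem card_cent_BY : {x : ↥C0 | x * B = B * x ∧ x * Y = Y * x}.ncard = 32 := by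
  classical
  obtain ⟨hl, hnd, -⟩ := cent_list
  have hnd' : ((dElts.filter fun w => commB (cds w) (cds yW)).map elC).Nodup :=
    hnd.sublist (List.filter_sublist.map elC)
  rw [← cent_info_raw.2.2, List.countP_eq_length_filter, ← List.length_map (f := elC),
    ← List.toFinset_card_of_nodup hnd', ← Set.ncard_coe_finset]
  congr 1
  ext x
  rw [List.coe_toFinset, Set.mem_ofPred_eq, Set.mem_ofPred_eq, List.mem_map]
  constructor
  · rintro ⟨hb, hy⟩
    obtain ⟨w, hw, rfl⟩ := mem_cent_B.1 hb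
    exact ⟨w, List.mem_filter.2 ⟨hw, ((isEl (hl w hw).1).commB_iff isY).2 hy⟩, rfl⟩
  · rintro ⟨w, hw, rfl⟩
    rw [List.mem_filter] at hw
    exact ⟨(hl w hw.1).2.1, ((isEl (hl w hw.1).1).commB_iff isY).1 hw.2⟩

/-- The centraliser of `B` and `Y`: squares, and the cosets of the four-group holding the involutions. -/
theorem cent_BY {x : ↥C0} (hb : x * B = B * x) (hy : x * Y = Y * x) :
    (x * x = 1 ∨ x * x = Z) ∧ (x * x = 1 → ∃ v : ↥C0, InV v ∧
      (x = v ∨ x = Z * v ∨ x = C * v ∨ x = Z * C * v ∨ x = Tau * v ∨ x = Z * Tau * v)) := by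
  obtain ⟨w, hw, rfl⟩ := mem_cent_B.1 hb
  obtain ⟨i, hi, rfl⟩ := List.getElem_of_mem hw
  obtain ⟨-, hl, -⟩ := cent_info_raw
  have hlen := cent_list.2.2
  have h := check_cent_info
  simp only [centInfoOK, Bool.and_eq_true, List.all_eq_true] at h
  have hz : i < (dElts.zip vInfo).length := by rw [List.length_zip]; omega
  have hq := h.2 _ (List.getElem_mem hz)
  rw [List.getElem_zip] at hq
  have hI := isEl (cent_list.1 _ hw).1
  simp only [Bool.or_eq_true, Bool.not_eq_true', (hI.commB_iff isY).2 hy, Bool.true_eq_false, false_or,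
    Bool.and_eq_true, decide_eq_true_eq] at hq
  obtain ⟨hsq, hcos⟩ := hq
  refine ⟨hsq.imp ((hI.mul hI).eq Is.one) ((hI.mul hI).eq isZ), fun h1 => ?_⟩
  rcases hcos with e | ⟨⟨e1, e2⟩, e3⟩
  · rw [((hI.mul hI).eqB_iff Is.one).2 h1] at e; exact absurd e (by simp)
  obtain ⟨n, hn⟩ : ∃ n, n = vInfo[i]'(by omega) := ⟨_, rfl⟩
  rw [← hn] at e1 e2 e3
  have hu : (n - 1) / 4 < 6 := by omega
  have hv : (n - 1) % 4 < 4 := Nat.mod_lt _ (by norm_num)
  -- the representative of the coset
  have hVl : ∃ (v : ↥C0) (l : List ℕ), InV v ∧ Is v l ∧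
      ([[], cds bW, cds yW, cds bW ++ cds yW].getD ((n - 1) % 4) []) = l := by
    obtain e | e | e | e : (n - 1) % 4 = 0 ∨ (n - 1) % 4 = 1 ∨ (n - 1) % 4 = 2 ∨ (n - 1) % 4 = 3 := by omega
    all_goals rw [e]
    · exact ⟨1, _, Or.inl rfl, Is.one, rfl⟩
    · exact ⟨B, _, Or.inr (Or.inl rfl), isB, rfl⟩
    · exact ⟨Y, _, Or.inr (Or.inr (Or.inl rfl)), isY, rfl⟩
    · exact ⟨B * Y, _, Or.inr (Or.inr (Or.inr rfl)), isB.mul isY, rfl⟩
  obtain ⟨v, l, hV, hIv, hl'⟩ := hVl
  rw [hl'] at e3
  refine ⟨v, hV, ?_⟩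
  obtain e | e | e | e | e | e : (n - 1) / 4 = 0 ∨ (n - 1) / 4 = 1 ∨ (n - 1) / 4 = 2 ∨ (n - 1) / 4 = 3 ∨
      (n - 1) / 4 = 4 ∨ (n - 1) / 4 = 5 := by omega
  all_goals rw [e] at e3
  · exact Or.inl (hI.eq hIv e3)
  · exact Or.inr (Or.inl (hI.eq (isZ.mul hIv) e3))
  · exact Or.inr (Or.inr (Or.inl (hI.eq (isC.mul hIv) e3)))
  · exact Or.inr (Or.inr (Or.inr (Or.inl (hI.eq ((isZ.mul isC).mul hIv) e3))))
  · exact Or.inr (Or.inr (Or.inr (Or.inr (Or.inl (hI.eq (isTau.mul hIv) e3)))))
  · exact Or.inr (Or.inr (Or.inr (Or.inr (Or.inr (hI.eq ((isZ.mul isTau).mul hIv) e3)))))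

/-- The relations on all points: the outer letter and the element of order five. -/
noncomputable def pointsOK : Bool :=
  let g := Data.letterC.getD 7 0
  let f := cds fiveW
  eqP [g, Data.negC] (cds aW ++ [g]) && !(eqP f []) && eqP (f ++ (f ++ (f ++ (f ++ f)))) [] &&
    eqP (f ++ cds bW) (cds bW ++ f) && eqP (f ++ cds yW) (cds yW ++ f)

theorem check_points : pointsOK = true := by decide +kernel

/-- The element of order five. -/
noncomputable def five : P276 := el (cds fiveW)

theorem g0_z0 : g0 * z0 = (A : P276) * g0 := by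
  have h := check_points
  simp only [pointsOK, Bool.and_eq_true] at h
  have hg : valid (Data.letterC.getD 7 0) = true := letter_valid (by norm_num)
  have := prodP_eq (fun d hd => by
    rcases List.mem_cons.1 hd with rfl | hd
    · exact hg
    · rw [List.mem_singleton] at hd; exact hd ▸ neg_valid) (fun d hd => by
    rcases List.mem_append.1 hd with hd | hd
    · exact (good_cds lt_a).valid d hd
    · rw [List.mem_singleton] at hd; exact hd ▸ hg) h.1.1.1.1
  rw [List.map_append, List.prod_append, List.map_singleton, List.prod_singleton, List.map_cons,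
    List.map_singleton, List.prod_cons, List.prod_singleton] at this
  rw [isA.2]
  exact this

theorem five_rel : orderOf five = 5 ∧ five * (B : P276) = B * five ∧ five * (Y : P276) = Y * five := by
  have h := check_points
  simp only [pointsOK, Bool.and_eq_true, Bool.not_eq_true'] at h
  obtain ⟨⟨⟨⟨-, h1⟩, h2⟩, h3⟩, h4⟩ := h
  have hf := valid_cds basic_raw.2.1
  have happ : ∀ {l r : List ℕ}, (∀ d ∈ l, valid d = true) → (∀ d ∈ r, valid d = true) →
      ∀ d ∈ l ++ r, valid d = true := fun hl hr d hd => by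
    rcases List.mem_append.1 hd with hd | hd
    exacts [hl d hd, hr d hd]
  have hpow : five ^ 5 = 1 := by
    have := prodP_eq (happ hf (happ hf (happ hf (happ hf hf)))) (by simp) h2
    rw [show five ^ 5 = five * (five * (five * (five * five))) by simp only [pow_succ, pow_zero, one_mul, mul_assoc]]
    simpa only [five, el, List.map_append, List.prod_append, List.map_nil, List.prod_nil] using this
  have hne : five ≠ 1 := fun e => by
    apply Bool.eq_false_iff.1 h1
    simp only [eqP, List.all_eq_true, List.mem_range, beq_iff_eq]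
    intro i hi
    have := el_apply hf hi
    rw [show el (cds fiveW) = 1 from e, ap_eq] at this
    exact this.symm
  refine ⟨orderOf_eq_prime (p := 5) (hp := ⟨by norm_num⟩) hpow hne, ?_, ?_⟩
  · rw [isB.2]
    have := prodP_eq (happ hf (good_cds lt_b).valid) (happ (good_cds lt_b).valid hf) h3
    simpa only [five, el, List.map_append, List.prod_append] using this
  · rw [isY.2]
    have := prodP_eq (happ hf (good_cds lt_y).valid) (happ (good_cds lt_y).valid hf) h4
    simpa only [five, el, List.map_append, List.prod_append] using this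

/-- The element of order five lies in the group generated by `C0` and the outer letter. -/
theorem five_mem {T : Subgroup P276} (hT : C0 ≤ T) (hg : g0 ∈ T) : five ∈ T := by
  refine Subgroup.list_prod_mem _ fun x hx => ?_
  obtain ⟨d, hd, rfl⟩ := List.mem_map.1 hx
  obtain ⟨k, hk, rfl⟩ := List.mem_map.1 hd
  have h8 := ltW_iff.1 basic_raw.2.1 k hk
  by_cases h7 : k < 7
  · exact hT (letter_mem h7)
  · rw [show k = 7 by omega]; exact hg

end Cfsg.Agent.CoThreeType.Classes
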