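import Cfsg.Agent.Lib.CoThreeType.ClassNode
import Cfsg.Agent.Lib.CoThreeClose.Main
import Cfsg.Agent.Lib.ZStar.Apply
import Cfsg.Agent.Lib.ZStar.Unique

/-!
# The classes of involutions in an involution centraliser of type 2.Sp6(2) (owner: helper72)

`θ : C0 ≃* C(t)` sends `Z` to `t`; `emb θ` is the map into `G`.

* `classify`, `not_conj_B`, `conj_A` : `t` is conjugate to `A` and not to `B`
* `facts` : the facts needed by the closing step
* `range_eq_top` : an embedding of the group generated by `C0` and the outer letter that extends `θ` is surjective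
-/

set_option autoImplicit false
set_option maxRecDepth 100000

namespace Cfsg.Agent.CoThreeType.Classes

open Subgroup

universe u

/-- A 2-subgroup above a subgroup of largest possible two-power order is equal to it. -/
theorem le_of_two_group {K : Type*} [Group K] [Finite K] {S R : Subgroup K} {k m : ℕ} (hS : Nat.card S = 2 ^ k)
    (hm : Odd m) (hR : IsPGroup 2 R) (hle : S ≤ R) (hdvd : Nat.card R ∣ 2 ^ k * m) : R ≤ S := by
  haveI : Fact (Nat.Prime 2) := ⟨Nat.prime_two⟩
  obtain ⟨j, hj⟩ := hR.exists_card_eq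
  rw [hj] at hdvd
  have h := Nat.Coprime.dvd_of_dvd_mul_right ((Nat.coprime_two_left.2 hm).pow_left j) hdvd
  exact (eq_of_le_of_card_ge hle (hS ▸ hj ▸ Nat.le_of_dvd (by positivity) h)).ge

/-- Every involution of `C0` is one of three kinds. -/
theorem classify {x : ↥C0} (h1 : x * x = 1) (h2 : x ≠ 1) : Kind x := by
  haveI : Fact (Nat.Prime 2) := ⟨Nat.prime_two⟩
  obtain ⟨S, hS, -, hkind, -, -⟩ := exists_sylow
  have hS2 : IsPGroup 2 S := IsPGroup.of_card (n := 10) (by rw [hS]; rfl)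
  obtain ⟨P, hP⟩ := hS2.exists_le_sylow
  have hPS : (P : Subgroup ↥C0) = S := le_antisymm (le_of_two_group (k := 10) (m := 2835) (by rw [hS]; rfl)
    (by decide) P.2 hP (by
      have h := (P : Subgroup ↥C0).card_subgroup_dvd_card
      rw [natCard_C0] at h
      simpa using h)) hP
  have hx : IsPGroup 2 (zpowers x) := IsPGroup.of_card (n := 1) (by
    rw [Nat.card_zpowers, orderOf_eq_prime (p := 2) (by rw [pow_two, h1]) h2, pow_one])
  obtain ⟨Q, hQ⟩ := hx.exists_le_sylow
  obtain ⟨g, hg⟩ := MulAction.exists_smul_eq ↥C0 Q P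
  have hmem : g * x * g⁻¹ ∈ S := by
    rw [← hPS, ← hg, Transfer.sylow_coe_smul]
    exact ⟨x, hQ (mem_zpowers x), rfl⟩
  have e1 : g * x * g⁻¹ * (g * x * g⁻¹) = 1 := by
    calc g * x * g⁻¹ * (g * x * g⁻¹) = g * (x * x) * g⁻¹ := by group
      _ = 1 := by rw [h1]; group
  have e2 : g * x * g⁻¹ ≠ 1 := fun e => h2 ((MulAut.conj g).injective (by simpa using e))
  rcases hkind _ hmem e1 e2 with e | ⟨d, e⟩ | ⟨d, e⟩
  · left
    calc x = g⁻¹ * (g * x * g⁻¹) * g := by group
      _ = Z := by rw [e, mul_assoc, ← comm_Z, inv_mul_cancel_left]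
  · exact Or.inr (Or.inl ⟨d * g, by rw [← e]; group⟩)
  · exact Or.inr (Or.inr ⟨d * g, by rw [← e]; group⟩)

section

variable {G : Type u} [Group G] {t : G} (θ : ↥C0 ≃* ↥(Subgroup.centralizer ({t} : Set G)))

/-- The map into `G`. -/
noncomputable def emb : ↥C0 →* G := (Subgroup.centralizer ({t} : Set G)).subtype.comp θ.toMonoidHom

theorem emb_injective : Function.Injective (emb θ) :=
  Subtype.val_injective.comp θ.injective

theorem emb_comm (x : ↥C0) : Commute (emb θ x) t := mem_centralizer_singleton_iff.1 (θ x).2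

theorem exists_emb {c : G} (hc : Commute c t) : ∃ x : ↥C0, emb θ x = c := by
  obtain ⟨x, hx⟩ := θ.surjective ⟨c, mem_centralizer_singleton_iff.2 hc.eq⟩
  exact ⟨x, congrArg Subtype.val hx⟩

theorem emb_commute {x y : ↥C0} : Commute (emb θ x) (emb θ y) ↔ x * y = y * x := by
  rw [commute_iff_eq, ← map_mul, ← map_mul]
  exact (emb_injective θ).eq_iff

theorem isConj_emb {x y : ↥C0} (h : ∃ d : ↥C0, d * x * d⁻¹ = y) : IsConj (emb θ x) (emb θ y) := by
  obtain ⟨d, rfl⟩ := h
  exact isConj_iff.2 ⟨emb θ d, by simp only [map_mul, map_inv]⟩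

variable (hθ : emb θ Z = t)
include hθ

theorem orderOf_emb {x : ↥C0} (h : x * x = 1 ∧ x ≠ 1) : orderOf (emb θ x) = 2 :=
  (orderOf_injective (emb θ) (emb_injective θ) x).trans (orderOf_eq_prime (p := 2) (by rw [pow_two, h.1]) h.2)

theorem cls {x : G} (hx : Commute x t) (h2 : orderOf x = 2) :
    x = t ∨ (∃ c, Commute c t ∧ c * x * c⁻¹ = emb θ A) ∨ ∃ c, Commute c t ∧ c * x * c⁻¹ = emb θ B := by
  obtain ⟨w, rfl⟩ := exists_emb θ hx
  rw [orderOf_injective (emb θ) (emb_injective θ)] at h2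
  have h1 : w * w = 1 := by rw [← pow_two, ← h2, pow_orderOf_eq_one]
  have hne : w ≠ 1 := fun e => by rw [e, orderOf_one] at h2; omega
  rcases classify h1 hne with e | ⟨d, e⟩ | ⟨d, e⟩
  · exact Or.inl (e ▸ hθ)
  · exact Or.inr (Or.inl ⟨emb θ d, emb_comm θ d, by rw [← e, map_mul, map_mul, map_inv]⟩)
  · exact Or.inr (Or.inr ⟨emb θ d, emb_comm θ d, by rw [← e, map_mul, map_mul, map_inv]⟩)

/-- `t` is not conjugate to `B`. -/
theorem not_conj_B [Finite G] : ¬ IsConj t (emb θ B) := by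
  intro h
  obtain ⟨g, hg⟩ := isConj_iff.1 h
  have ho : orderOf t = 2 := hθ ▸ orderOf_emb θ hθ Z_inv
  obtain ⟨x, hx⟩ : ∃ x, x = g⁻¹ * t * g := ⟨_, rfl⟩
  have hgx : g * x * g⁻¹ = t := by rw [hx]; group
  have hxt : Commute x t := by
    have := Commute.map (show Commute (emb θ B) t from emb_comm θ B).symm (MulAut.conj g⁻¹).toMonoidHom
    rw [hx]
    simpa [← hg, mul_assoc] using this
  have hxo : orderOf x = 2 := by
    rw [← ho, ← hgx]
    exact (orderOf_injective (MulAut.conj g).toMonoidHom (MulAut.conj g).injective x).symm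
  have hcen : ∀ u : G, Commute u t → Commute (g * u * g⁻¹) (emb θ B) := fun u hu =>
    hg ▸ Commute.map hu (MulAut.conj g).toMonoidHom
  rcases cls θ hθ hxt hxo with e | ⟨c, hc, e⟩ | ⟨c, hc, e⟩
  · have hBt : emb θ B = t := by rw [← hg]; rw [e] at hgx; exact hgx
    have hBZ : B = Z := emb_injective θ (hBt.trans hθ.symm)
    obtain ⟨-, hrb, -, -⟩ := marks_comm
    exact sq_ne_B marks_comm.2.2.2.2.1 (marks_comm.2.2.2.2.2.2.trans hBZ.symm)
  · -- 512 elements commute with `t` and `x`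
    have hinj : {w : ↥C0 | w * A = A * w}.ncard ≤ {w : ↥C0 | w * B = B * w}.ncard := by
      have him : ∀ w : ↥C0, w * A = A * w →
          ∃ v : ↥C0, v * B = B * v ∧ emb θ v = g * (c⁻¹ * emb θ w * c) * g⁻¹ := by
        intro w hw
        have h1 : Commute (c⁻¹ * emb θ w * c) t := (hc.inv_left.mul_left (emb_comm θ w)).mul_left hc
        have h2 : Commute (c⁻¹ * emb θ w * c) x := by
          have := Commute.map ((emb_commute θ).2 hw) (MulAut.conj c⁻¹).toMonoidHom
          rw [← e] at this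
          simpa [mul_assoc] using this
        have h3 : Commute (g * (c⁻¹ * emb θ w * c) * g⁻¹) t :=
          hgx ▸ Commute.map h2 (MulAut.conj g).toMonoidHom
        obtain ⟨v, hv⟩ := exists_emb θ h3
        have h4 := hcen _ h1
        rw [← hv] at h4
        exact ⟨v, (emb_commute θ).1 h4, hv⟩
      choose f hf using him
      refine Set.ncard_le_ncard_of_injOn (fun w => if hw : w * A = A * w then f w hw else 1) (fun w hw => ?_)
        (fun u hu v hv e' => ?_) (Set.toFinite _)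
      · rw [Set.mem_ofPred_eq] at hw
        simp only [dif_pos hw]
        exact (hf w hw).1
      · rw [Set.mem_ofPred_eq] at hu hv
        simp only [dif_pos hu, dif_pos hv] at e'
        have := congrArg (emb θ) e'
        rw [(hf u hu).2, (hf v hv).2] at this
        exact emb_injective θ (mul_left_cancel (mul_right_cancel (mul_left_cancel (mul_right_cancel this))))
    obtain ⟨-, -, -, -, -, h512⟩ := exists_sylow
    have h384 := card_cent_B
    omega
  · -- `h` interchanges `t` and `B`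
    obtain ⟨h, hh⟩ : ∃ h, h = g * c⁻¹ := ⟨_, rfl⟩
    have hct : c⁻¹ * t * c = t := by rw [hc.inv_left.eq, inv_mul_cancel_right]
    have hht : h * t * h⁻¹ = emb θ B := by
      calc h * t * h⁻¹ = g * (c⁻¹ * t * c) * g⁻¹ := by rw [hh]; group
        _ = emb θ B := by rw [hct, hg]
    have hhb : h * emb θ B * h⁻¹ = t := by
      calc h * emb θ B * h⁻¹ = g * (c⁻¹ * (c * x * c⁻¹) * c) * g⁻¹ := by rw [hh, e]; group
        _ = t := by rw [← hgx]; group
    obtain ⟨-, -, -, -, hrb, -, hrr⟩ := marks_comm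
    have h1 : Commute (h * emb θ R * h⁻¹) (h * emb θ B * h⁻¹) :=
      Commute.map ((emb_commute θ).2 hrb) (MulAut.conj h).toMonoidHom
    have h2 : Commute (h * emb θ R * h⁻¹) (h * t * h⁻¹) :=
      Commute.map (emb_comm θ R) (MulAut.conj h).toMonoidHom
    rw [hhb] at h1
    rw [hht] at h2
    obtain ⟨v, hv⟩ := exists_emb θ h1
    rw [← hv] at h2
    refine sq_ne_B ((emb_commute θ).1 h2) (emb_injective θ ?_)
    calc emb θ (v * v) = h * emb θ (R * R) * h⁻¹ := by rw [map_mul, map_mul, hv]; group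
      _ = emb θ B := by rw [hrr, hθ, hht]

/-- `t` is conjugate to `A`. -/
theorem conj_A [Finite G] (hO : Cfsg.oddCore G = ⊥) (hZ : Subgroup.center G = ⊥) : IsConj t (emb θ A) := by
  by_contra hn
  have ho : orderOf t = 2 := hθ ▸ orderOf_emb θ hθ Z_inv
  have hc := ZStar.isolated_mem_center ZStar.uniqueInvolution (z := t) ⟨ho, fun g hg => ?_⟩ hO
  · rw [hZ, mem_bot] at hc
    rw [hc, orderOf_one] at ho
    omega
  · have h2 : orderOf (g * t * g⁻¹) = 2 :=
      (orderOf_injective (MulAut.conj g).toMonoidHom (MulAut.conj g).injective t).trans ho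
    rcases cls θ hθ (show Commute (g * t * g⁻¹) t from hg.symm) h2 with e | ⟨c, -, e⟩ | ⟨c, -, e⟩
    · exact e
    · exact absurd (isConj_iff.2 ⟨c * g, by rw [← e]; group⟩) hn
    · exact absurd (isConj_iff.2 ⟨c * g, by rw [← e]; group⟩) (not_conj_B θ hθ)

theorem not_conj_neg [Finite G] {x : ↥C0} (hx : x ∈ negElts) : ¬ IsConj t (emb θ x) :=
  fun e => not_conj_B θ hθ (e.trans (isConj_emb θ (conj_B_neg hx)))

/-- `Uniq` from a subgroup of the model. -/
theorem uniq_of [Finite G] {W : Set G} (S : Subgroup ↥C0) {k m : ℕ} (hS : Nat.card S = 2 ^ k) (hm : Odd m)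
    (hZS : Z ∈ S) (hW : ∀ x ∈ S, TransvCent.Closing.Fix W (emb θ x)) (D : Subgroup ↥C0)
    (hD : ∀ x : ↥C0, TransvCent.Closing.Fix W (emb θ x) → x ∈ D) (hDcard : Nat.card D ∣ 2 ^ k * m)
    (hcen : ∀ x ∈ S, (∀ s ∈ S, s * x = x * s) → x * x = 1 → x ≠ 1 → x = Z ∨ ∃ d : ↥C0, d * x * d⁻¹ = B) :
    CoThreeClose.Uniq W t := by
  haveI : Fact (Nat.Prime 2) := ⟨Nat.prime_two⟩
  have hS2 : IsPGroup 2 S := IsPGroup.of_card (n := k) hS
  refine ⟨S.map (emb θ), hS2.map _, ⟨Z, hZS, hθ⟩, ?_, ?_, ?_⟩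
  · rintro _ ⟨w, hw, rfl⟩
    exact ⟨emb_comm θ w, hW w hw⟩
  · intro R hR hle hall r hr
    obtain ⟨w, rfl⟩ := exists_emb θ (hall r hr).1
    have hsub : R.comap (emb θ) ≤ D := fun v hv => hD v (hall _ hv).2
    have hle' : S ≤ R.comap (emb θ) := fun v hv => hle ⟨v, hv, rfl⟩
    exact ⟨w, le_of_two_group hS hm (hR.comap_of_injective _ (emb_injective θ)) hle'
      ((card_dvd_of_le hsub).trans hDcard) hr, rfl⟩
  · rintro _ ⟨w, hw, rfl⟩ hcomm hconj
    have ho : orderOf t = 2 := hθ ▸ orderOf_emb θ hθ Z_inv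
    have hwo : orderOf w = 2 := by
      obtain ⟨g, hg⟩ := isConj_iff.1 hconj
      rw [← orderOf_injective (emb θ) (emb_injective θ), ← hg, ← ho]
      exact orderOf_injective (MulAut.conj g).toMonoidHom (MulAut.conj g).injective t
    rcases hcen w hw (fun s hs => (emb_commute θ).1 (hcomm _ ⟨s, hs, rfl⟩))
      (by rw [← pow_two, ← hwo, pow_orderOf_eq_one]) (fun e => by rw [e, orderOf_one] at hwo; omega) with e | hd
    · exact e ▸ hθ
    · exact absurd (hconj.trans (isConj_emb θ hd)) (not_conj_B θ hθ)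

theorem inV_emb {v : G} (hv : CoThreeClose.InV (emb θ B) (emb θ Y) v) : ∃ w, InV w ∧ emb θ w = v := by
  rcases hv with rfl | rfl | rfl | rfl
  exacts [⟨1, Or.inl rfl, map_one _⟩, ⟨B, Or.inr (Or.inl rfl), rfl⟩, ⟨Y, Or.inr (Or.inr (Or.inl rfl)), rfl⟩,
    ⟨B * Y, Or.inr (Or.inr (Or.inr rfl)), map_mul _ _ _⟩]

theorem card_triple [Finite G] :
    {c : G | Commute c t ∧ Commute c (emb θ B) ∧ Commute c (emb θ Y)}.ncard = 32 := by
  rw [← card_cent_BY, ← Set.ncard_image_of_injective _ (emb_injective θ)]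
  congr 1
  ext c
  simp only [Set.mem_image, Set.mem_ofPred_eq]
  constructor
  · rintro ⟨h1, h2, h3⟩
    obtain ⟨w, rfl⟩ := exists_emb θ h1
    exact ⟨w, ⟨(emb_commute θ).1 h2, (emb_commute θ).1 h3⟩, rfl⟩
  · rintro ⟨w, ⟨h2, h3⟩, rfl⟩
    exact ⟨emb_comm θ w, (emb_commute θ).2 h2, (emb_commute θ).2 h3⟩

theorem localData [Finite G] (hA : IsConj t (emb θ A))
    (h2 : ∀ u : G, IsConj t u → Commute u (emb θ B) → Commute u (emb θ Y) →
      ∀ v : G, Commute v u → Commute v (emb θ B) → Commute v (emb θ Y) → Odd (orderOf v) → v = 1) :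
    CoThreeClose.LocalData t (emb θ B) (emb θ Y) := by
  obtain ⟨hcb, hcy, htb, hty, hrb, hry, hrr⟩ := marks_comm
  have htne : ¬ IsConj t (1 : G) := fun e => by
    have ho : orderOf t = 2 := hθ ▸ orderOf_emb θ hθ Z_inv
    rw [isConj_comm, isConj_one_right] at e
    rw [e, orderOf_one] at ho
    omega
  have hneg : ∀ w : ↥C0, InV w → ¬ IsConj t (emb θ (Tau * w)) := by
    rintro w (rfl | rfl | rfl | rfl) <;> refine not_conj_neg θ hθ ?_ <;> simp [negElts]
  refine ⟨hθ ▸ orderOf_emb θ hθ Z_inv, orderOf_emb θ hθ B_inv, orderOf_emb θ hθ Y_inv,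
    fun e => B_ne_Y (emb_injective θ e), (emb_commute θ).2 B_comm_Y, (emb_comm θ B).symm,
    (emb_comm θ Y).symm, card_triple θ hθ,
    ⟨emb θ R, (emb_commute θ).2 hrb, (emb_commute θ).2 hry, by rw [← map_mul, hrr, hθ]⟩, ?_, ?_, ?_, ?_, h2⟩
  · intro c h1 hb hy
    obtain ⟨w, rfl⟩ := exists_emb θ h1
    rcases (cent_BY ((emb_commute θ).1 hb) ((emb_commute θ).1 hy)).1 with e | e
    · exact Or.inl (by rw [← map_mul, e, map_one])
    · exact Or.inr (by rw [← map_mul, e, hθ])
  · intro v hv hv1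
    obtain ⟨w, hw, rfl⟩ := inV_emb θ hθ hv
    rw [show t * emb θ w = emb θ (Z * w) by rw [map_mul, hθ]]
    refine not_conj_neg θ hθ ?_
    rcases hw with rfl | rfl | rfl | rfl
    · exact absurd (map_one _) hv1
    all_goals simp [negElts]
  · intro v hv
    obtain ⟨w, hw, rfl⟩ := inV_emb θ hθ hv
    rcases hw with rfl | rfl | rfl | rfl
    · rw [map_one]; exact htne
    all_goals refine not_conj_neg θ hθ ?_; simp [negElts]
  · obtain ⟨hC1, hC2⟩ := conj_A_marks
    refine ⟨emb θ C, emb θ Tau, ⟨emb_comm θ C, (emb_commute θ).2 hcb, (emb_commute θ).2 hcy⟩,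
      ⟨emb_comm θ Tau, (emb_commute θ).2 htb, (emb_commute θ).2 hty⟩, by rw [← map_mul, C_inv.1, map_one],
      by rw [← map_mul, Tau_inv.1, map_one], hA.trans (isConj_emb θ hC1).symm, ?_, ?_, ?_, ?_, ?_⟩
    · rw [show t * emb θ C = emb θ (Z * C) by rw [map_mul, hθ]]
      exact hA.trans (isConj_emb θ hC2).symm
    · intro v hv e
      obtain ⟨w, hw, rfl⟩ := inV_emb θ hθ hv
      exact (marks_ne hw).1 (emb_injective θ (by rw [e, map_mul, hθ]))
    · intro hv
      obtain ⟨w, hw, e⟩ := inV_emb θ hθ hv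
      exact (marks_ne hw).2 (emb_injective θ e.symm)
    · intro v hv
      obtain ⟨w, hw, rfl⟩ := inV_emb θ hθ hv
      rw [← map_mul]
      exact hneg w hw
    · intro c h1 hb hy hcc
      obtain ⟨w, rfl⟩ := exists_emb θ h1
      obtain ⟨v, hv, hcase⟩ := (cent_BY ((emb_commute θ).1 hb) ((emb_commute θ).1 hy)).2
        (emb_injective θ (by rw [map_mul, hcc, map_one]))
      refine ⟨emb θ v, ?_, ?_⟩
      · rcases hv with rfl | rfl | rfl | rfl
        exacts [Or.inl (map_one _), Or.inr (Or.inl rfl), Or.inr (Or.inr (Or.inl rfl)),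
          Or.inr (Or.inr (Or.inr (map_mul _ _ _)))]
      · rcases hcase with e | e | e | e | e | e <;> simp only [e, map_mul, hθ, true_or, or_true]

/-- The facts needed by the closing step. -/
theorem facts [Finite G] (hO : Cfsg.oddCore G = ⊥) (hZ : Subgroup.center G = ⊥) :
    CoThreeClose.Facts t (emb θ A) (emb θ B) (emb θ Y) := by
  have hA := conj_A θ hθ hO hZ
  refine ⟨hθ ▸ orderOf_emb θ hθ Z_inv, orderOf_emb θ hθ B_inv, emb_comm θ B, fun x => cls θ hθ, hA,
    not_conj_B θ hθ, ?_, orderOf_emb θ hθ Y_inv, emb_comm θ Y, (emb_commute θ).2 B_comm_Y.symm,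
    fun e => B_ne_Y (emb_injective θ e.symm), not_conj_neg θ hθ (by simp [negElts]), ?_, ?_, ?_, ?_,
    localData θ hθ hA, card_triple θ hθ⟩
  · rw [show t * emb θ B = emb θ (Z * B) by rw [map_mul, hθ]]
    exact not_conj_neg θ hθ (by simp [negElts])
  · rw [← map_mul]
    exact not_conj_neg θ hθ (by simp [negElts])
  · intro x hxt hxb hx2
    obtain ⟨w, rfl⟩ := exists_emb θ hxt
    rw [orderOf_injective (emb θ) (emb_injective θ)] at hx2
    rcases node ((emb_commute θ).1 hxb) (by rw [← pow_two, ← hx2, pow_orderOf_eq_one])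
      (fun e => by rw [e, orderOf_one] at hx2; omega) with e | e | e | e | e | ⟨d, hd, e⟩
    · exact Or.inl (e ▸ rfl)
    · exact Or.inr (Or.inl (by rw [e, hθ]))
    · exact Or.inr (Or.inl (hA.trans (isConj_emb θ e).symm))
    · exact Or.inr (Or.inr (Or.inl (by rw [← map_mul, e, hθ])))
    · exact Or.inr (Or.inr (Or.inl (by rw [← map_mul]; exact hA.trans (isConj_emb θ e).symm)))
    · refine Or.inr (Or.inr (Or.inr ⟨emb θ d, emb_comm θ d, (emb_commute θ).2 hd, ?_⟩))
      rcases e with e | e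
      · exact Or.inl (by rw [← e]; simp only [map_mul, map_inv])
      · exact Or.inr ((congrArg (emb θ) e).trans (map_mul _ _ _) |> fun h => by simpa only [map_mul, map_inv] using h)
  · obtain ⟨S, hS, hZS, -, hcen, -⟩ := exists_sylow
    exact uniq_of θ hθ S (k := 10) (m := 2835) (by rw [hS]; rfl) (by decide) hZS
      (fun x _ w hw => absurd hw (Set.notMem_empty w)) ⊤ (fun x _ => mem_top x)
      (by rw [card_top, natCard_C0]; norm_num) hcen
  · obtain ⟨S, hS, hZS, hSB, hcen⟩ := exists_sylow_B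
    refine uniq_of θ hθ S (k := 7) (m := 3) (by rw [hS]; rfl) (by decide) hZS (fun x hx w hw => ?_)
      (centralizer {B}) (fun x hx => ?_) ?_ hcen
    · rw [Set.mem_singleton_iff] at hw
      subst hw
      exact ((emb_commute θ).2 (hSB x hx)).eq
    · exact mem_centralizer_singleton_iff.2 ((emb_commute θ).1 (hx _ rfl))
    · rw [show Nat.card (centralizer ({B} : Set ↥C0)) = {x : ↥C0 | x * B = B * x}.ncard by
        rw [← Nat.card_coe_set_eq]
        exact Nat.card_congr (Equiv.subtypeEquivRight fun x => mem_centralizer_singleton_iff), card_cent_B]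
      norm_num

/-- **The closing step for the third Conway group.** -/
theorem range_eq_top [Finite G] (hO : Cfsg.oddCore G = ⊥) (hZ : Subgroup.center G = ⊥) {T : Subgroup P276}
    (hT : C0 ≤ T) (hg : g0 ∈ T) (φ : ↥T →* G) (hφi : Function.Injective φ)
    (hφ : ∀ x : ↥C0, φ ⟨x, hT x.2⟩ = emb θ x) : φ.range = ⊤ := by
  have F := facts θ hθ hO hZ
  refine F.eq_top (fun c hc => ?_) ⟨φ ⟨g0, hg⟩, ⟨_, rfl⟩, ?_⟩ ⟨φ ⟨five, five_mem hT hg⟩, ⟨_, rfl⟩, ?_⟩
  · obtain ⟨x, rfl⟩ := exists_emb θ hc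
    exact ⟨_, hφ x⟩
  · refine (congrArg (fun w => φ ⟨g0, hg⟩ * w * (φ ⟨g0, hg⟩)⁻¹) ((hφ Z).trans hθ).symm).trans ?_
    rw [← hφ, ← map_mul, ← map_inv, ← map_mul]
    refine congrArg φ (Subtype.ext ?_)
    show g0 * z0 * g0⁻¹ = (A : P276)
    rw [g0_z0, mul_inv_cancel_right]
  · obtain ⟨h5, hb, hy⟩ := five_rel
    refine ⟨?_, ?_, ?_⟩
    · rw [orderOf_injective φ hφi, Subgroup.orderOf_mk, h5]
    · rw [← hφ]
      exact Commute.map (show Commute (⟨five, five_mem hT hg⟩ : ↥T) ⟨(B : P276), hT B.2⟩ from Subtype.ext hb) φ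
    · rw [← hφ]
      exact Commute.map (show Commute (⟨five, five_mem hT hg⟩ : ↥T) ⟨(Y : P276), hT Y.2⟩ from Subtype.ext hy) φ

end

end Cfsg.Agent.CoThreeType.Classes
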