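/-
A bound on a group generated by a subgroup and one involution, from a certificate on double cosets
(owner: helper27).

Main definitions: `Fct`.
Main results (namespace `Cfsg.Agent.CoThreeType.DoubleCosets`):
* the rules `Fct.tree`, `Fct.root`, `Fct.shift`, `Fct.rev`, `Fct.tri`
* `exists_rep` : a closed family of representatives covers the group
* `injective_of_closed` : a map injective on the subgroup is injective
-/
import Cfsg.Agent.EqLemmas
import Mathlib.Algebra.Group.Subgroup.Basic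
import Mathlib.GroupTheory.Index
import Mathlib.Tactic.Group

set_option autoImplicit false

namespace Cfsg.Agent.CoThreeType.DoubleCosets

variable {Γ : Type*} [Group Γ] {ι : Type*}

/-- The neighbour `R i * c * g` lies in the double coset of `R j`, with right factor `b`. -/
def Fct (C : Subgroup Γ) (R : ι → Γ) (g : Γ) (i : ι) (c : Γ) (j : ι) (b : Γ) : Prop :=
  ∃ a ∈ C, R i * c * g = a * R j * b

variable {C : Subgroup Γ} {R : ι → Γ} {g : Γ}

theorem Fct.tree {i j : ι} {c : Γ} (h : R j = R i * c * g) : Fct C R g i c j 1 :=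
  ⟨1, one_mem C, by rw [one_mul, mul_one, h]⟩

theorem Fct.root {i j : ι} {c : Γ} (hc : c ∈ C) (hi : R i = 1) (hj : R j = g) : Fct C R g i c j 1 :=
  ⟨c, hc, by rw [hi, hj, one_mul, mul_one]⟩

/-- An element that `g` carries to `k'` moves from the left of `g` to its right. -/
theorem Fct.shift {i j : ι} {c b k k' : Γ} (h : Fct C R g i c j b) (hk : k * g = g * k') :
    Fct C R g i (c * k) j (b * k') := by
  obtain ⟨a, ha, e⟩ := h
  exact ⟨a, ha, by rw [mul_assoc (R i), mul_assoc c, hk, ← mul_assoc c, ← mul_assoc (R i), ← mul_assoc (R i),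
    ← mul_assoc, e, mul_assoc]⟩

/-- The same edge in the other direction. -/
theorem Fct.rev {i j : ι} {c b : Γ} (h : Fct C R g i c j b) (hg : g * g = 1) : Fct C R g j b i c := by
  obtain ⟨a, ha, e⟩ := h
  refine ⟨a⁻¹, inv_mem ha, ?_⟩
  have : R i * c = a * R j * b * g := by rw [← e, mul_assoc, hg, mul_one]
  rw [mul_assoc a⁻¹, this]
  group

/-- Two edges and a relation of length three. -/
theorem Fct.tri {i j l : ι} {c b p p₁ p₂ b₂ : Γ} (h₁ : Fct C R g i c j b) (h₂ : Fct C R g j (b * p) l b₂)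
    (hp : g * p * g = p₁ * g * p₂) : Fct C R g i (c * p₁) l (b₂ * p₂⁻¹) := by
  obtain ⟨a, ha, e⟩ := h₁
  obtain ⟨a₂, ha₂, e₂⟩ := h₂
  refine ⟨a * a₂, mul_mem ha ha₂, ?_⟩
  calc R i * (c * p₁) * g = R i * c * (p₁ * g * p₂) * p₂⁻¹ := by group
    _ = R i * c * g * p * g * p₂⁻¹ := by rw [← hp]; group
    _ = a * (R j * (b * p) * g) * p₂⁻¹ := by rw [e]; group
    _ = a * (a₂ * R l * b₂) * p₂⁻¹ := by rw [e₂]
    _ = a * a₂ * R l * (b₂ * p₂⁻¹) := by group

/-- A closed family of representatives covers the group. -/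
theorem exists_rep {i₀ : ι} (h₀ : R i₀ = 1) (hC : ∀ i, ∀ c ∈ C, ∃ j, ∃ b ∈ C, Fct C R g i c j b)
    (hg : g * g = 1) {x : Γ} (hx : x ∈ C ⊔ Subgroup.zpowers g) :
    ∃ i, ∃ a ∈ C, ∃ b ∈ C, x = a * R i * b := by
  rw [← Subgroup.closure_eq C, ← Subgroup.zpowers_inv, Subgroup.zpowers_eq_closure,
    ← Subgroup.closure_union] at hx
  have hinv : g⁻¹ = g := inv_eq_of_mul_eq_one_right hg
  rw [hinv] at hx
  induction hx using Subgroup.closure_induction_right with
  | one => exact ⟨i₀, 1, one_mem C, 1, one_mem C, by simp [h₀]⟩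
  | mul_right y _ s hs ih =>
    obtain ⟨i, a, ha, b, hb, rfl⟩ := ih
    rcases hs with hs | hs
    · exact ⟨i, a, ha, b * s, mul_mem hb hs, mul_assoc _ _ _⟩
    · rw [Set.mem_singleton_iff] at hs
      obtain ⟨j, b', hb', a', ha', e⟩ := hC i b hb
      exact ⟨j, a * a', mul_mem ha ha', b', hb', by
        rw [hs, mul_assoc a, mul_assoc a, e]; group⟩
  | mul_inv_cancel y _ s hs ih =>
    obtain ⟨i, a, ha, b, hb, rfl⟩ := ih
    rcases hs with hs | hs
    · exact ⟨i, a, ha, b * s⁻¹, mul_mem hb (inv_mem hs), mul_assoc _ _ _⟩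
    · rw [Set.mem_singleton_iff] at hs
      obtain ⟨j, b', hb', a', ha', e⟩ := hC i b hb
      exact ⟨j, a * a', mul_mem ha ha', b', hb', by
        rw [hs, hinv, mul_assoc a, mul_assoc a, e]; group⟩

/-- A homomorphism injective on the subgroup that sends no further representative into its image is
injective on the generated group; only the subgroup itself maps into that image. -/
theorem eq_one_of_closed {T : Type*} [Group T] (π : Γ →* T) {i₀ : ι} (h₀ : R i₀ = 1)
    (hC : ∀ i, ∀ c ∈ C, ∃ j, ∃ b ∈ C, Fct C R g i c j b) (hg : g * g = 1)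
    (hπ : ∀ c ∈ C, π c = 1 → c = 1) (hR : ∀ i, i ≠ i₀ → π (R i) ∉ C.map π)
    {x : Γ} (hx : x ∈ C ⊔ Subgroup.zpowers g) (hx1 : π x = 1) : x = 1 := by
  obtain ⟨i, a, ha, b, hb, rfl⟩ := exists_rep h₀ hC hg hx
  by_cases hi : i = i₀
  · subst hi
    rw [h₀, mul_one] at hx1 ⊢
    exact hπ _ (mul_mem ha hb) hx1
  · refine absurd ⟨a⁻¹ * b⁻¹, mul_mem (inv_mem ha) (inv_mem hb), ?_⟩ (hR i hi)
    rw [map_mul, map_mul] at hx1
    rw [map_mul, map_inv, map_inv]
    calc (π a)⁻¹ * (π b)⁻¹ = (π a)⁻¹ * (π a * π (R i) * π b) * (π b)⁻¹ := by rw [hx1, mul_one]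
      _ = π (R i) := by group

/-- An element commuting with `z` in the generated group lies in the subgroup. -/
theorem mem_of_commute {i₀ : ι} (h₀ : R i₀ = 1) (hC : ∀ i, ∀ c ∈ C, ∃ j, ∃ b ∈ C, Fct C R g i c j b)
    (hg : g * g = 1) {z : Γ} (hCz : ∀ c ∈ C, c * z = z * c) (hR : ∀ i, i ≠ i₀ → R i * z ≠ z * R i)
    {x : Γ} (hx : x ∈ C ⊔ Subgroup.zpowers g) (hxz : x * z = z * x) : x ∈ C := by
  obtain ⟨i, a, ha, b, hb, rfl⟩ := exists_rep h₀ hC hg hx
  by_cases hi : i = i₀
  · subst hi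
    rw [h₀, mul_one]
    exact mul_mem ha hb
  · refine absurd ?_ (hR i hi)
    have h1 := hCz a ha
    have h2 := hCz b hb
    calc R i * z = a⁻¹ * (a * R i * b * z) * b⁻¹ := by rw [mul_assoc (a * R i), h2]; group
      _ = a⁻¹ * (z * a) * R i := by rw [hxz]; group
      _ = a⁻¹ * (a * z) * R i := by rw [h1]
      _ = z * R i := by group

end Cfsg.Agent.CoThreeType.DoubleCosets
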