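/-
A supplement of an abelian normal subgroup that meets it in a given normal subgroup (owner: helper27).

Main results (namespace `Cfsg.Agent.CoThreeType`):
* `exists_supplement` : Gaschütz's theorem in the quotient by the given subgroup
* `mul_card_le` : distinct left cosets bound the order of a group from below
-/
import Cfsg.Agent.EqLemmas
import Cfsg.Agent.Lib.Solvable.Gaschutz
import Mathlib.GroupTheory.QuotientGroup.Basic
import Mathlib.Algebra.Group.Subgroup.Finite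

set_option autoImplicit false

namespace Cfsg.Agent.CoThreeType

open scoped IsMulCommutative

/-- A subgroup with `n` left cosets of `S` inside it has at least `n` times the order of `S`. -/
theorem mul_card_le {K : Type*} [Group K] [Finite K] {S H : Subgroup K} (hS : S ≤ H) {n : ℕ} (w : Fin n → K)
    (hw : ∀ i, w i ∈ H) (hd : ∀ i j, (w i)⁻¹ * w j ∈ S → i = j) : n * Nat.card S ≤ Nat.card H := by
  have h : Function.Injective fun p : Fin n × ↥S => (⟨w p.1 * p.2, mul_mem (hw p.1) (hS p.2.2)⟩ : ↥H) := by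
    rintro ⟨i, a⟩ ⟨j, b⟩ e
    have e' : w i * (a : K) = w j * (b : K) := congrArg Subtype.val e
    obtain rfl := hd i j (by
      rw [show (w i)⁻¹ * w j = (a : K) * (b : K)⁻¹ from
        inv_mul_eq_iff_eq_mul.2 (by rw [← mul_assoc, e', mul_inv_cancel_right])]
      exact mul_mem a.2 (inv_mem b.2))
    rw [Subtype.ext (mul_left_cancel e')]
  simpa [Nat.card_prod] using Nat.card_le_card_of_injective _ h

/-- **A supplement.** `K` is abelian, `D` supplements `K` in `U` and meets it in `Δ` only, and the index of `U`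
is prime to the order of `K`; then some subgroup of `X` supplements `K` and meets it in `Δ` only. -/
theorem exists_supplement {Γ : Type*} [Group Γ] [Finite Γ] {X K U D Δ : Subgroup Γ} (hUX : U ≤ X)
    (hKU : K ≤ U) (hDU : D ≤ U) (hΔK : Δ ≤ K) (hDK : D ⊓ K ≤ Δ)
    (hcov : ∀ u ∈ U, ∃ k ∈ K, u * k ∈ D) (hK : ∀ x ∈ X, ∀ k ∈ K, x * k * x⁻¹ ∈ K)
    (hΔ : ∀ x ∈ X, ∀ k ∈ Δ, x * k * x⁻¹ ∈ Δ) (hcomm : ∀ a ∈ K, ∀ b ∈ K, a * b = b * a)
    (hcop : (Nat.card K).Coprime (U.relIndex X)) :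
    ∃ H ≤ X, Δ ≤ H ∧ H ⊓ K ≤ Δ ∧ ∀ x ∈ X, ∃ k ∈ K, x * k ∈ H := by
  have hKX : K ≤ X := hKU.trans hUX
  have : (K.subgroupOf X).Normal :=
    (Subgroup.normal_subgroupOf_iff hKX).2 fun k x hk hx => hK x hx k hk
  have : (Δ.subgroupOf X).Normal :=
    (Subgroup.normal_subgroupOf_iff (hΔK.trans hKX)).2 fun k x hk hx => hΔ x hx k hk
  obtain ⟨π, hπ⟩ : ∃ π : ↥X →* ↥X ⧸ Δ.subgroupOf X, π = QuotientGroup.mk' _ := ⟨_, rfl⟩
  have hsurj : Function.Surjective π := hπ ▸ QuotientGroup.mk'_surjective _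
  have hker : ∀ x : ↥X, π x = 1 ↔ (x : Γ) ∈ Δ := fun x => by
    rw [hπ]
    exact QuotientGroup.eq_one_iff x
  have : ((K.subgroupOf X).map π).Normal := Subgroup.Normal.map inferInstance π hsurj
  have : IsMulCommutative ((K.subgroupOf X).map π) := ⟨⟨by
    rintro ⟨_, a, ha, rfl⟩ ⟨_, b, hb, rfl⟩
    refine Subtype.ext ?_
    show π a * π b = π b * π a
    rw [← map_mul, ← map_mul]
    exact congrArg π (Subtype.ext (hcomm _ ha _ hb))⟩⟩
  obtain ⟨H, hH⟩ := Solvable.gaschutz_exists (K := (K.subgroupOf X).map π) (U := (U.subgroupOf X).map π)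
    (A := (D.subgroupOf X).map π) (Subgroup.map_mono fun x hx => hKU hx) (by
      refine (hcop.coprime_dvd_left ?_).coprime_dvd_right ?_
      · exact (Subgroup.card_map_dvd _ π).trans
          (Nat.card_congr (Subgroup.subgroupOfEquivOfLe hKX).toEquiv).dvd
      · exact Subgroup.index_map_dvd _ hsurj) (by
      rw [Subgroup.eq_bot_iff_forall]
      rintro _ ⟨⟨d, hd, rfl⟩, k, hk, e⟩
      refine (hker d).2 (hDK ⟨hd, ?_⟩)
      have h1 : π (k⁻¹ * d) = 1 := by rw [map_mul, map_inv, e, inv_mul_cancel]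
      have h2 := mul_mem (show (k : Γ) ∈ K from hk) (hΔK ((hker _).1 h1))
      simpa using h2) (by
      refine le_antisymm (sup_le (Subgroup.map_mono fun x hx => hKU hx) (Subgroup.map_mono fun x hx => hDU hx)) ?_
      rintro _ ⟨u, hu, rfl⟩
      obtain ⟨k, hk, hd⟩ := hcov _ hu
      have e : u = (u * ⟨k, hKX hk⟩) * (⟨k, hKX hk⟩ : ↥X)⁻¹ := by rw [mul_inv_cancel_right]
      rw [e, map_mul, map_inv]
      exact mul_mem (Subgroup.mem_sup_right ⟨_, hd, rfl⟩) (Subgroup.mem_sup_left (inv_mem ⟨_, hk, rfl⟩)))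
  refine ⟨(H.comap π).map X.subtype, ?_, ?_, ?_, fun x hx => ?_⟩
  · rintro _ ⟨x, -, rfl⟩
    exact x.2
  · intro x hx
    exact ⟨⟨x, hKX (hΔK hx)⟩, Subgroup.mem_comap.2 ((hker ⟨x, hKX (hΔK hx)⟩).2 hx ▸ one_mem H), rfl⟩
  · rintro _ ⟨⟨x, hxH, rfl⟩, hxK⟩
    exact (hker x).1 (Subgroup.disjoint_def.1 hH.disjoint ⟨x, hxK, rfl⟩ hxH)
  · obtain ⟨_, ⟨k, hk, rfl⟩, h, hh, e⟩ :=
      Subgroup.mem_sup_of_normal_left.1 (hH.sup_eq_top ▸ Subgroup.mem_top (π ⟨x, hx⟩) :
        π ⟨x, hx⟩ ∈ (K.subgroupOf X).map π ⊔ H)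
    -- `x` is `k` times a member of `H`; move `k` to the right
    refine ⟨x⁻¹ * (k : Γ)⁻¹ * x, by simpa using hK x⁻¹ (inv_mem hx) _ (inv_mem hk),
      k⁻¹ * ⟨x, hx⟩, ?_, ?_⟩
    · rw [SetLike.mem_coe, Subgroup.mem_comap, map_mul, map_inv, ← e, inv_mul_cancel_left]
      exact hh
    · show (k : Γ)⁻¹ * x = _
      group

end Cfsg.Agent.CoThreeType
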