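/-
The elementary group of order 16 of the centralizer of `z0`: its centralizer and the class of `A`
(owner: helper27).

Main definitions (namespace `Cfsg.Agent.CoThreeType`): `eb`, `Esub`.
Main results:
* `eb_mul`, `eb_inj`, `eb_one`, `eb_two`
* `mem_Esub_of_comm` : the elementary group is its own centralizer in `C0`
* `exists_xu`, `mem_uList` : the conjugates of `A`
-/
import Cfsg.Agent.Lib.CoThreeType.Closure
import Cfsg.Agent.Lib.CoThreeType.Classes
import Cfsg.Agent.Lib.CoThreeType.RigidCheck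
import Cfsg.Agent.Lib.CoThreeType.Supplement

set_option autoImplicit false
set_option maxRecDepth 20000

namespace Cfsg.Agent.CoThreeType

open Classes (Z A)

attribute [local irreducible] Data.negC Data.letterC Data.levels ClosureData.uW ClosureData.kGens
  ClosureData.kTab ClosureData.moves ClosureData.crep ClosureData.one ClosureData.cosets ClosureData.parents
  ClosureData.facts ClosureData.index_ RigidData.eBits RigidData.xU RigidData.uList RigidData.kA RigidData.pairs
  RigidData.pure RigidData.pGens RigidData.pAct RigidData.stab RigidData.moveA RigidData.sigmaE RigidData.rels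
  RigidData.pElts RigidData.movePos RigidData.xW RigidData.mElts RigidData.kDec

/-- Two products of coded permutations agree, and so do the products. -/
theorem perm_eq {l r : List ℕ} (hl : ∀ d ∈ l, valid d = true) (hr : ∀ d ∈ r, valid d = true)
    (h : eqP l r = true) : (l.map toP).prod = (r.map toP).prod := prodP_eq hl hr h

/-- Equal products have equal keys. -/
theorem keys_eq {l r : List ℕ} (hl : ∀ w ∈ l, wordOK w = true) (hr : ∀ w ∈ r, wordOK w = true)
    (h : (l.map el).prod = (r.map el).prod) : keys l = keys r := by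
  have hp : ∀ {t : List ℕ}, (∀ w ∈ t, wordOK w = true) → ((t.map el).prod : P276) = (t.map wV).prod := by
    intro t ht
    rw [SubmonoidClass.coe_list_prod, List.map_map]
    exact congrArg List.prod (List.map_congr_left fun v hv => coe_el (ht v hv))
  have hk := check_base0
  simp only [Bool.and_eq_true, decide_eq_true_eq, List.all_eq_true] at hk
  obtain ⟨hlen, hlt⟩ := hk
  have hlt' : ∀ n : Fin 4, basePts.getD n 0 < 276 := fun n => by
    rw [List.getD_eq_getElem _ _ (by omega)]; exact hlt _ (List.getElem_mem _)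
  have hw : (l.map wV).prod = (r.map wV).prod := by rw [← hp hl, ← hp hr, h]
  show appKs l base0 = appKs r base0
  rw [show base0 = pack (⟨_, hlt' 0⟩ : Fin 276).val (⟨_, hlt' 1⟩ : Fin 276).val (⟨_, hlt' 2⟩ : Fin 276).val
    (⟨_, hlt' 3⟩ : Fin 276).val from rfl, appKs_pack hl, appKs_pack hr, hw]

theorem key_eq {v w : ℕ} (hv : wordOK v = true) (hw : wordOK w = true) (h : el v = el w) : key v = key w :=
  keys_eq (l := [v]) (r := [w]) (by simpa using hv) (by simpa using hw) (by simpa using h)

theorem el_eq_of_keys {l r : List ℕ} (hl : ∀ w ∈ l, wordOK w = true) (hr : ∀ w ∈ r, wordOK w = true)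
    (h : Nat.beq (keys l) (keys r) = true) : (l.map el).prod = (r.map el).prod := by
  refine el_prod_eq ?_
  simp only [eqWs, Bool.and_eq_true, List.all_eq_true]
  exact ⟨⟨hl, hr⟩, h⟩

theorem wordOK_of_eqWs {l r : List ℕ} (h : eqWs l r = true) :
    (∀ w ∈ l, wordOK w = true) ∧ ∀ w ∈ r, wordOK w = true := by
  simp only [eqWs, Bool.and_eq_true, List.all_eq_true] at h
  exact h.1

theorem el_eq_two {a b c d : ℕ} (h : eqWs [a, b] [c, d] = true) : el a * el b = el c * el d := by
  simpa using el_prod_eq h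

theorem nodup_of_nodupB : ∀ {l : List ℕ}, nodupB l = true → l.Nodup
  | [], _ => List.nodup_nil
  | a :: l, h => by
    simp only [nodupB, Bool.and_eq_true, Bool.not_eq_true', List.any_eq_false] at h
    refine List.nodup_cons.2 ⟨fun ha => ?_, nodup_of_nodupB h.2⟩
    simpa using h.1 a ha

/-- The members of the elementary group. -/
noncomputable def eb (i : ℕ) : ↥C0 := el (eWord i)

theorem eWord_ok {i : ℕ} (hi : i < 16) : wordOK (eWord i) = true := by
  have h := check_e
  simp only [eOK, Bool.and_eq_true, List.all_eq_true, List.mem_range] at h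
  exact h.1.1.1.1.1.1.1.2 i hi

theorem eb_mul {i j : ℕ} (hi : i < 16) (hj : j < 16) : eb i * eb j = eb (i ^^^ j) := by
  have h := check_e
  simp only [eOK, Bool.and_eq_true, List.all_eq_true, List.mem_range] at h
  simpa [eb] using el_prod_eq (h.1.1.1.1.1.1.2 i hi j hj)

theorem eb_inj {i j : ℕ} (hi : i < 16) (hj : j < 16) (h : eb i = eb j) : i = j := by
  have hk := check_e
  simp only [eOK, Bool.and_eq_true] at hk
  exact List.inj_on_of_nodup_map (nodup_of_nodupB hk.1.1.1.1.1.2) (List.mem_range.2 hi) (List.mem_range.2 hj)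
    (key_eq (eWord_ok hi) (eWord_ok hj) h)

theorem eb_zero : eb 0 = 1 := by
  have h := check_e
  simp only [eOK, Bool.and_eq_true] at h
  simpa [eb] using el_mul_of_check h.1.1.1.1.2

theorem eb_self {i : ℕ} (hi : i < 16) : eb i * eb i = 1 := by
  rw [eb_mul hi hi, Nat.xor_self, eb_zero]

theorem eb_inv {i : ℕ} (hi : i < 16) : (eb i)⁻¹ = eb i := inv_eq_of_mul_eq_one_right (eb_self hi)

theorem eb_comm {i j : ℕ} (hi : i < 16) (hj : j < 16) : eb i * eb j = eb j * eb i := by
  rw [eb_mul hi hj, eb_mul hj hi, Nat.xor_comm]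

theorem xor_lt16 {i j : ℕ} (hi : i < 16) (hj : j < 16) : i ^^^ j < 16 := Nat.xor_lt_two_pow (n := 4) hi hj

theorem eb_one : eb 1 = Z := by
  have h := check_e
  simp only [eOK, Bool.and_eq_true] at h
  refine Subtype.ext ?_
  rw [eb, coe_el (eWord_ok (by norm_num)), wV]
  simpa [Z, z0] using perm_eq (l := codes (eWord 1)) (r := [Data.negC]) (codes_valid (eWord_ok (by norm_num)))
    (by simp [neg_valid]) h.1.1.1.2

theorem eb_two : eb 2 = A := by
  have h := check_e
  simp only [eOK, Bool.and_eq_true] at h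
  have hv := letter_valid (k := 7) (by norm_num)
  obtain ⟨d, hd⟩ : ∃ d, d = Data.letterC.getD 7 0 := ⟨_, rfl⟩
  have h' := h.1.1.2
  rw [← hd] at hv h'
  refine Subtype.ext ?_
  rw [eb, coe_el (eWord_ok (by norm_num)), wV,
    perm_eq (codes_valid (eWord_ok (by norm_num))) (r := [d, Data.negC, d]) (by simp [hv, neg_valid]) h']
  have hg : toP d = g0 := by rw [hd]; rfl
  show ([d, Data.negC, d].map toP).prod = (A : P276)
  simp only [List.map_cons, List.map_nil, List.prod_cons, List.prod_nil, mul_one, hg]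
  show g0 * (z0 * g0) = (A : P276)
  rw [← mul_assoc, Classes.g0_z0, mul_assoc, g0_sq, mul_one]

/-- The elementary group. -/
noncomputable def Esub : Subgroup ↥C0 where
  carrier := {x | ∃ i < 16, eb i = x}
  one_mem' := ⟨0, by norm_num, eb_zero⟩
  mul_mem' := by
    rintro _ _ ⟨i, hi, rfl⟩ ⟨j, hj, rfl⟩
    exact ⟨i ^^^ j, xor_lt16 hi hj, (eb_mul hi hj).symm⟩
  inv_mem' := by
    rintro _ ⟨i, hi, rfl⟩
    exact ⟨i, hi, (eb_inv hi).symm⟩

theorem eb_mem {i : ℕ} (hi : i < 16) : eb i ∈ Esub := ⟨i, hi, rfl⟩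

theorem card_Esub : Nat.card Esub = 16 := by
  refine (Nat.card_eq_of_bijective (fun i : Fin 16 => (⟨eb i, eb_mem i.2⟩ : ↥Esub)) ⟨fun i j e => ?_, ?_⟩).symm.trans
    (Nat.card_fin 16)
  · exact Fin.ext (eb_inj i.2 j.2 (congrArg Subtype.val e))
  · rintro ⟨_, i, hi, rfl⟩
    exact ⟨⟨i, hi⟩, rfl⟩

theorem Esub_comm {x y : ↥C0} (hx : x ∈ Esub) (hy : y ∈ Esub) : x * y = y * x := by
  obtain ⟨i, hi, rfl⟩ := hx
  obtain ⟨j, hj, rfl⟩ := hy
  exact eb_comm hi hj

theorem xu_spec {e : ℕ} (he : e < 630) : el (cw e) * A = el (xu e) * el (cw e) ∧ wordOK (xu e) = true := by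
  have h := check_fam
  simp only [famOK, Bool.and_eq_true, List.all_eq_true, List.mem_range] at h
  have h' := h.1.1.1.1.1.1 e he
  exact ⟨by rw [← eb_two]; exact el_eq_two h', (wordOK_of_eqWs h').2 _ (by simp)⟩

theorem xu_inj {i j : ℕ} (hi : i < 630) (hj : j < 630) (h : el (xu i) = el (xu j)) : i = j := by
  have hk := check_fam
  simp only [famOK, Bool.and_eq_true] at hk
  exact List.inj_on_of_nodup_map (nodup_of_nodupB hk.1.1.1.1.1.2) (List.mem_range.2 hi) (List.mem_range.2 hj)
    (key_eq (xu_spec hi).2 (xu_spec hj).2 h)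

/-- The centralizer of `A` in `C0`. -/
noncomputable def centA : Subgroup ↥C0 := Subgroup.centralizer {A}

theorem mem_centA {x : ↥C0} : x ∈ centA ↔ x * A = A * x := Subgroup.mem_centralizer_singleton_iff

theorem card_centA : Nat.card centA ≤ 4608 := by
  have h := mul_card_le (S := centA) (H := ⊤) le_top (fun e : Fin 630 => el (cw e)) (fun _ => Subgroup.mem_top _)
    (fun i j hij => Fin.ext (xu_inj i.2 j.2 ?_))
  · rw [Subgroup.card_top, natCard_C0] at h
    omega
  · have hi := (xu_spec i.2).1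
    have hj := (xu_spec j.2).1
    have hij' := mem_centA.1 hij
    calc el (xu i) = el (cw i) * A * (el (cw i))⁻¹ := by rw [hi, mul_inv_cancel_right]
      _ = el (cw i) * (A * ((el (cw i))⁻¹ * el (cw j))) * (el (cw j))⁻¹ := by group
      _ = el (cw i) * (((el (cw i))⁻¹ * el (cw j)) * A) * (el (cw j))⁻¹ := by rw [hij']
      _ = el (cw j) * A * (el (cw j))⁻¹ := by group
      _ = el (xu j) := by rw [hj, mul_inv_cancel_right]

/-- The elementary group is the centralizer in `C0` of `A` and two further members. -/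
theorem mem_Esub_of_comm {c : ↥C0} (h2 : c * A = A * c) (h4 : c * eb 4 = eb 4 * c) (h8 : c * eb 8 = eb 8 * c) :
    c ∈ Esub := by
  let S : Subgroup ↥C0 := centA ⊓ Subgroup.centralizer {eb 4} ⊓ Subgroup.centralizer {eb 8}
  have hle : Esub ≤ S := fun x hx => ⟨⟨mem_centA.2 (Esub_comm hx (eb_two ▸ eb_mem (by norm_num))),
    Subgroup.mem_centralizer_singleton_iff.2 (Esub_comm hx (eb_mem (by norm_num)))⟩,
    Subgroup.mem_centralizer_singleton_iff.2 (Esub_comm hx (eb_mem (by norm_num)))⟩
  have hk := check_centPairs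
  simp only [centPairsOK, Bool.and_eq_true, List.all_eq_true] at hk
  obtain ⟨⟨hlen, hp⟩, hnd⟩ := hk
  have hlen : RigidData.pairs.length = 288 := Nat.eq_of_beq_eq_true hlen
  obtain ⟨L, hL⟩ : ∃ L, L = RigidData.pairs := ⟨_, rfl⟩
  rw [← hL] at hlen hp hnd
  have hget : ∀ i : Fin 288, L[i.val]'(by omega) ∈ L := fun i => List.getElem_mem _
  have hcard := mul_card_le (S := S) (H := centA) (fun x hx => hx.1.1)
    (fun i : Fin 288 => el (L[i.val]'(by omega)).1)
    (fun i => mem_centA.2 (by rw [← eb_two]; exact el_eq_two (hp _ (hget i)).1.1))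
    (fun i j hij => ?_)
  · have hS : Nat.card S ≤ 16 := by have := card_centA; omega
    rw [Subgroup.eq_of_le_of_card_ge hle (by rw [card_Esub]; exact hS)]
    exact ⟨⟨mem_centA.2 h2, Subgroup.mem_centralizer_singleton_iff.2 h4⟩,
      Subgroup.mem_centralizer_singleton_iff.2 h8⟩
  · obtain ⟨u, hu⟩ : ∃ u, u = L[i.val]'(by omega) := ⟨_, rfl⟩
    obtain ⟨v, hv⟩ : ∃ v, v = L[j.val]'(by omega) := ⟨_, rfl⟩
    have hu' := hp _ (hget i)
    have hv' := hp _ (hget j)
    rw [← hu] at hu'
    rw [← hv] at hv'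
    rw [← hu, ← hv] at hij
    have aux : ∀ {a b c d x : ↥C0}, a * x = b * a → c * x = d * c → a⁻¹ * c * x = x * (a⁻¹ * c) → b = d := by
      intro a b c d x h1 h2 h3
      calc b = a * x * a⁻¹ := by rw [h1, mul_inv_cancel_right]
        _ = a * (x * (a⁻¹ * c)) * c⁻¹ := by group
        _ = a * (a⁻¹ * c * x) * c⁻¹ := by rw [h3]
        _ = c * x * c⁻¹ := by group
        _ = d := by rw [h2, mul_inv_cancel_right]
    have e1 : el u.2.1 = el v.2.1 := aux (el_eq_two hu'.1.2) (el_eq_two hv'.1.2)
      (Subgroup.mem_centralizer_singleton_iff.1 hij.1.2)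
    have e2 : el u.2.2 = el v.2.2 := aux (el_eq_two hu'.2) (el_eq_two hv'.2)
      (Subgroup.mem_centralizer_singleton_iff.1 hij.2)
    have k1 := key_eq ((wordOK_of_eqWs hu'.1.2).2 _ (by simp)) ((wordOK_of_eqWs hv'.1.2).2 _ (by simp)) e1
    have k2 := key_eq ((wordOK_of_eqWs hu'.2).2 _ (by simp)) ((wordOK_of_eqWs hv'.2).2 _ (by simp)) e2
    have hnd' := nodup_of_nodupB hnd
    refine Fin.ext ((List.Nodup.getElem_inj_iff hnd' (i := i.val) (j := j.val)
      (hi := by rw [List.length_map]; omega) (hj := by rw [List.length_map]; omega)).1 ?_)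
    rw [List.getElem_map, List.getElem_map, ← hu, ← hv, k1, k2]

/-- The listed elements of `kTab` commute with `A`. -/
theorem kWord_comm {n : ℕ} (hn : n < kSize) : el (kWord n) * A = A * el (kWord n) := by
  refine Subtype.ext ?_
  have h : (el (kWord n) : P276) * g0 = g0 * (el (kImage n) : P276) :=
    congrArg Prod.snd (k_shift amalgam_model n hn)
  show (el (kWord n) : P276) * (A : P276) = (A : P276) * (el (kWord n) : P276)
  refine mul_right_cancel (b := g0) ?_
  rw [mul_assoc, mul_assoc, ← Classes.g0_z0, h, ← mul_assoc, h, ← mul_assoc, ← Classes.g0_z0, mul_assoc,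
    mul_assoc, z0_comm (el (kImage n)).2]

/-- Every conjugate of `A` is listed. -/
theorem exists_xu (x : ↥C0) : ∃ e < 630, x * A * x⁻¹ = el (xu e) := by
  obtain ⟨e, he, l, hl, rfl⟩ := exists_coset x
  refine ⟨e, he, ?_⟩
  have hc : Commute (l.map fun n => el (kWord n)).prod A := by
    refine (Commute.list_prod_right _ _ fun y hy => ?_).symm
    obtain ⟨n, hn, rfl⟩ := List.mem_map.1 hy
    exact (kWord_comm (hl n hn)).symm
  rw [mul_assoc (el (cw e)), hc.eq, ← mul_assoc, (xu_spec he).1]
  group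

theorem mem_uList {e : ℕ} (he : e < 630) (h : el (xu e) * A = A * el (xu e)) : e ∈ RigidData.uList := by
  by_contra hn
  have hk := check_fam
  simp only [famOK, Bool.and_eq_true, List.all_eq_true, List.mem_range, Bool.or_eq_true, List.any_eq_true,
    Bool.not_eq_true'] at hk
  rcases hk.1.1.1.2 e he with ⟨f, hf, hfe⟩ | hne
  · exact hn (Nat.eq_of_beq_eq_true hfe ▸ hf)
  · have hw : ∀ w ∈ [xu e, eWord 2], wordOK w = true := by simp [(xu_spec he).2, eWord_ok]
    have := keys_eq (l := [xu e, eWord 2]) (r := [eWord 2, xu e]) hw (by simp [(xu_spec he).2, eWord_ok])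
      (by simpa [← eb_two, eb] using h)
    rw [this] at hne
    simp at hne

theorem uList_lt {e : ℕ} (he : e ∈ RigidData.uList) : e < 630 := by
  have hk := check_fam
  simp only [famOK, Bool.and_eq_true, List.all_eq_true, decide_eq_true_eq] at hk
  exact (hk.1.1.1.1.2 e he).1

/-- The members other than `1` and `Z` are conjugates of `A`. -/
theorem conj_eb {i : ℕ} (h2 : 2 ≤ i) (hi : i < 16) : ∃ d : ↥C0, d * eb i * d⁻¹ = A := by
  have hk := check_fam
  simp only [famOK, Bool.and_eq_true, List.all_eq_true, List.mem_range, decide_eq_true_eq] at hk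
  obtain ⟨hp, he⟩ := hk.2 (i - 2) (by omega)
  rw [show i - 2 + 2 = i by omega] at he
  refine ⟨(el (cw (RigidData.pure.getD (i - 2) 0)))⁻¹, ?_⟩
  rw [show eb i = el (xu (RigidData.pure.getD (i - 2) 0)) by simpa [eb] using el_mul_of_check he, inv_inv,
    mul_assoc, ← (xu_spec hp).1, inv_mul_cancel_left]

end Cfsg.Agent.CoThreeType
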