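/-
The relations of the amalgam in a group with an involution centralizer of type 2.Sp6(2) (owner: helper27).

The normalizer of the elementary group of order 16 is matched with its model by a complement in the quotient
by the diagonal; one element of order three is then determined by its action.

Main definitions (namespace `Cfsg.Agent.CoThreeType`): `Local`, `normPairs`.
Main results:
* `local_emb` : the facts used about the given group
* `exists_amalgam` : the amalgam relations hold for some involution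
-/
import Cfsg.Agent.Lib.CoThreeType.Elem

set_option autoImplicit false
set_option maxRecDepth 20000

namespace Cfsg.Agent.CoThreeType

open Classes (Z A B emb)

attribute [local irreducible] Data.negC Data.letterC Data.levels ClosureData.uW ClosureData.kGens
  ClosureData.kTab ClosureData.moves ClosureData.crep ClosureData.one ClosureData.cosets ClosureData.parents
  ClosureData.facts ClosureData.index_ RigidData.eBits RigidData.xU RigidData.uList RigidData.kA RigidData.pairs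
  RigidData.pure RigidData.pGens RigidData.pAct RigidData.stab RigidData.moveA RigidData.rels
  RigidData.pElts RigidData.movePos RigidData.xW RigidData.mElts RigidData.kDec

universe u

/-- The product of a word in the two generators. -/
noncomputable def Pw (w : List ℕ) : ↥C0 := ((pW w).map el).prod

/-- The generators of the normalizer. -/
noncomputable def pg (a : ℕ) : ↥C0 := el (RigidData.pGens.getD a 0)

theorem Pw_eq (w : List ℕ) : Pw w = (w.map pg).prod := by
  rw [Pw, pW, List.map_map]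
  rfl

theorem Pw_slide {w : List ℕ} {x y : ℕ} (h : eqWs (pW w ++ [x]) (y :: pW w) = true) :
    Pw w * el x = el y * Pw w := by
  simpa [Pw, List.prod_append] using el_prod_eq h

theorem act_spec {a i : ℕ} (ha : a < 2) (hi : i < 16) : act a i < 16 ∧ pg a * eb (act a i) = eb i * pg a := by
  have h := check_norm
  simp only [normOK, Bool.and_eq_true, List.all_eq_true, List.mem_range, decide_eq_true_eq] at h
  obtain ⟨h1, h2⟩ := h.1.1.1.1.2 a ha i hi
  exact ⟨h1, el_eq_two h2⟩

theorem g0_eb {i : ℕ} (hi : i < 16) : RigidData.sigmaE.getD i 0 < 16 ∧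
    g0 * (eb i : P276) = (eb (RigidData.sigmaE.getD i 0) : P276) * g0 := by
  have h := check_e
  simp only [eOK, Bool.and_eq_true, List.all_eq_true, List.mem_range, decide_eq_true_eq] at h
  obtain ⟨h1, h2⟩ := h.2 i hi
  refine ⟨h1, ?_⟩
  have hv := letter_valid (k := 7) (by norm_num)
  obtain ⟨d, hd⟩ : ∃ d, d = Data.letterC.getD 7 0 := ⟨_, rfl⟩
  rw [← hd] at hv h2
  rw [eb, eb, coe_el (eWord_ok hi), coe_el (eWord_ok h1), g0, letter, ← hd, wV, wV]
  simpa [List.map_append] using perm_eq (l := d :: codes (eWord i))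
    (r := codes (eWord (RigidData.sigmaE.getD i 0)) ++ [d]) (by
      intro x hx
      rcases List.mem_cons.1 hx with hx | hx
      · exact hx ▸ hv
      · exact codes_valid (eWord_ok hi) x hx)
    (by
      intro x hx
      rcases List.mem_append.1 hx with hx | hx
      · exact codes_valid (eWord_ok h1) x hx
      · exact (List.mem_singleton.1 hx) ▸ hv) h2

theorem eb_three : eb 3 = eb 1 * eb 2 := by
  rw [eb_mul (by norm_num) (by norm_num)]
  rfl

theorem eb_twelve : eb 12 = eb 4 * eb 8 := by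
  rw [eb_mul (by norm_num) (by norm_num)]
  rfl

/-- Words with the letter outside on the left and on the right. -/
theorem g0_conj {p q : ℕ} (hp : wordOK p = true) (hq : wordOK q = true)
    (h : eqP (Data.letterC.getD 7 0 :: (codes p ++ [Data.letterC.getD 7 0])) (codes q) = true) :
    g0 * (el p : P276) * g0 = (el q : P276) := by
  have hv := letter_valid (k := 7) (by norm_num)
  obtain ⟨d, hd⟩ : ∃ d, d = Data.letterC.getD 7 0 := ⟨_, rfl⟩
  rw [← hd] at hv h
  rw [coe_el hp, coe_el hq, g0, letter, ← hd, wV, wV]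
  simpa [List.map_append, mul_assoc] using perm_eq (by
      intro x hx
      rcases List.mem_cons.1 hx with hx | hx
      · exact hx ▸ hv
      rcases List.mem_append.1 hx with hx | hx
      · exact codes_valid hp x hx
      · exact (List.mem_singleton.1 hx) ▸ hv)
    (codes_valid hq) h

/-- The facts used about the group. -/
structure Local {G : Type u} [Group G] (φ : ↥C0 →* G) : Prop where
  inj : Function.Injective φ
  cent : ∀ x : G, Commute x (φ Z) → ∃ c, φ c = x
  swap : ∃ h : G, h * φ Z * h⁻¹ = φ A ∧ h * φ A * h⁻¹ = φ Z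
  conjA : IsConj (φ Z) (φ A)
  fused : ∀ w : ↥C0, IsConj (φ Z) (φ w) → w = Z ∨ ∃ d : ↥C0, d * w * d⁻¹ = A

/-- The facts hold for the centralizer. -/
theorem local_emb {G : Type u} [Group G] [Finite G] {t : G} (θ : ↥C0 ≃* ↥(Subgroup.centralizer ({t} : Set G)))
    (hθ : emb θ Z = t) (hO : Cfsg.oddCore G = ⊥) (hZ : Subgroup.center G = ⊥) : Local (emb θ) := by
  have hA := Classes.conj_A θ hθ hO hZ
  have ho : orderOf t = 2 := hθ ▸ Classes.orderOf_emb θ hθ Classes.Z_inv
  refine ⟨Classes.emb_injective θ, fun x hx => Classes.exists_emb θ (hθ ▸ hx), ?_, by rwa [hθ], fun w hw => ?_⟩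
  · obtain ⟨s, hs⟩ := isConj_iff.1 hA
    have hcomm : Commute (emb θ A) t := Classes.emb_comm θ A
    have hxt : Commute (s⁻¹ * t * s) t := by
      have h := Commute.map hcomm (MulAut.conj s⁻¹).toMonoidHom
      rw [← hs] at h
      simpa [mul_assoc] using h.symm
    have hx2 : orderOf (s⁻¹ * t * s) = 2 := by
      rw [← ho, ← orderOf_injective (MulAut.conj s).toMonoidHom (MulAut.conj s).injective]
      simp [mul_assoc]
    rw [hθ]
    rcases Classes.cls θ hθ hxt hx2 with e | ⟨c, hc, e⟩ | ⟨c, -, e⟩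
    · refine absurd ?_ Classes.A_ne_Z
      refine Classes.emb_injective θ (hs.symm.trans (Eq.trans ?_ hθ.symm))
      calc s * t * s⁻¹ = s * (s⁻¹ * t * s) * s⁻¹ := by rw [e]
        _ = t := by group
    · refine ⟨c * s⁻¹, ?_, ?_⟩
      · rw [← e]; group
      · calc c * s⁻¹ * emb θ A * (c * s⁻¹)⁻¹ = c * t * c⁻¹ := by rw [← hs]; group
          _ = t := by rw [hc.eq, mul_inv_cancel_right]
    · exact absurd (isConj_iff.2 ⟨c * s⁻¹, by rw [← e]; group⟩) (Classes.not_conj_B θ hθ)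
  · rw [hθ] at hw
    obtain ⟨g, hg⟩ := isConj_iff.1 hw
    have h2 : orderOf w = 2 := by
      rw [← orderOf_injective (emb θ) (Classes.emb_injective θ), ← hg, ← ho]
      exact orderOf_injective (MulAut.conj g).toMonoidHom (MulAut.conj g).injective t
    rcases Classes.classify (show w * w = 1 by rw [← pow_two, ← h2, pow_orderOf_eq_one])
      (fun e => by rw [e, orderOf_one] at h2; omega) with e | e | e
    · exact Or.inl e
    · exact Or.inr e
    · exact absurd (hw.trans (Classes.isConj_emb θ e)) (Classes.not_conj_B θ hθ)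

section

variable {G : Type u} [Group G] [Finite G] {φ : ↥C0 →* G}

/-- The pairs acting in the same way on the two copies of the elementary group. -/
noncomputable def normPairs (φ : ↥C0 →* G) : Subgroup (G × P276) :=
  Subgroup.normalizer (Esub.map (pairHom φ) : Set (G × P276)) ⊓ (⊤ : Subgroup G).prod T0

/-- The pairs of members of the two copies. -/
noncomputable def kerPairs (φ : ↥C0 →* G) : Subgroup (G × P276) := (Esub.map φ).prod (Esub.map C0.subtype)

theorem mem_normPairs {p : G × P276} (h2 : p.2 ∈ T0)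
    (h : ∀ i < 16, ∃ c ∈ Esub, p * pairHom φ (eb i) * p⁻¹ = pairHom φ c) : p ∈ normPairs φ := by
  refine ⟨Subgroup.mem_normalizer_fintype ?_, Subgroup.mem_prod.2 ⟨Subgroup.mem_top _, h2⟩⟩
  rintro _ ⟨_, ⟨i, hi, rfl⟩, rfl⟩
  obtain ⟨c, hc, e⟩ := h i hi
  exact ⟨c, hc, e.symm⟩

theorem act_mem {p : G × P276} (hp : p ∈ normPairs φ) {c : ↥C0} (hc : c ∈ Esub) :
    ∃ c' ∈ Esub, pairHom φ c' = p * pairHom φ c * p⁻¹ :=
  (Subgroup.mem_normalizer_iff.1 hp.1 _).1 ⟨c, hc, rfl⟩

theorem act_eq {p : G × P276} (hp : p ∈ normPairs φ) {c c' : ↥C0} (hc : c ∈ Esub)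
    (h : p.2 * (c : P276) * p.2⁻¹ = (c' : P276)) : p.1 * φ c * p.1⁻¹ = φ c' := by
  obtain ⟨d, -, e⟩ := act_mem hp hc
  rw [show c' = d from Subtype.ext (h.symm.trans (congrArg Prod.snd e).symm)]
  exact (congrArg Prod.fst e).symm

theorem pg_mem {a : ℕ} (ha : a < 2) : pairHom φ (pg a) ∈ normPairs φ := by
  refine inv_inv (pairHom φ (pg a)) ▸ inv_mem (mem_normPairs (T0_inv (C0_le_T0 (pg a).2)) fun i hi => ?_)
  refine ⟨eb (act a i), eb_mem (act_spec ha hi).1, ?_⟩
  rw [inv_inv, ← map_inv, ← map_mul, ← map_mul]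
  refine congrArg _ ?_
  rw [mul_assoc, ← (act_spec ha hi).2, inv_mul_cancel_left]
where
  T0_inv {x : P276} (h : x ∈ T0) : x⁻¹ ∈ T0 := inv_mem h

theorem Pw_mem {H : Subgroup (G × P276)} (h : ∀ a < 2, pairHom φ (pg a) ∈ H) {w : List ℕ}
    (hw : ∀ a ∈ w, a < 2) : pairHom φ (Pw w) ∈ H := by
  rw [Pw_eq, map_list_prod]
  refine Subgroup.list_prod_mem _ fun x hx => ?_
  obtain ⟨_, hy, rfl⟩ := List.mem_map.1 hx
  obtain ⟨a, ha, rfl⟩ := List.mem_map.1 hy
  exact h a (hw a ha)

/-- An element of `C0` fixing a member of the first copy. -/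
theorem conj_eq_of_slide {W : ↥C0} {i j : ℕ} (h : W * eb i = eb j * W) : φ W * φ (eb i) * (φ W)⁻¹ = φ (eb j) := by
  rw [← map_mul, h, map_mul, mul_inv_cancel_right]

variable (L : Local φ)
include L

/-- An element interchanging `Z` and `A` that normalizes the copy, with the images of two members. -/
theorem exists_g1 : ∃ g1 : G, g1 * φ Z * g1⁻¹ = φ A ∧ g1 * φ A * g1⁻¹ = φ Z ∧
    ∀ i ∈ [4, 8], ∃ a < 16, g1 * φ (eb i) * g1⁻¹ = φ (eb a) := by
  obtain ⟨h, hz, ha⟩ := L.swap
  have hconj : ∀ x : ↥C0, h * φ x * h⁻¹ = MulAut.conj h (φ x) := fun x => rfl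
  have hmul : ∀ x y : ↥C0, h * φ (x * y) * h⁻¹ = h * φ x * h⁻¹ * (h * φ y * h⁻¹) := fun x y => by
    rw [map_mul]; group
  have four : ∀ v < 4, ∃ v' < 4, h * φ (eb v') * h⁻¹ = φ (eb v) := by
    have h1 : h * φ (eb 1) * h⁻¹ = φ (eb 2) := by rw [eb_one, eb_two, hz]
    have h2 : h * φ (eb 2) * h⁻¹ = φ (eb 1) := by rw [eb_one, eb_two, ha]
    intro v hv
    interval_cases v
    · exact ⟨0, by norm_num, by rw [eb_zero, map_one]; group⟩
    · exact ⟨2, by norm_num, h2⟩
    · exact ⟨1, by norm_num, h1⟩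
    · refine ⟨3, by norm_num, ?_⟩
      rw [eb_three, hmul, h1, h2, ← map_mul,
        eb_comm (by norm_num) (by norm_num)]
  have hinj : ∀ {x y : ↥C0}, h * φ x * h⁻¹ = h * φ y * h⁻¹ → x = y := fun e =>
    L.inj (mul_left_cancel (mul_right_cancel e))
  have pre : ∀ i < 16, 4 ≤ i → ∃ e ∈ RigidData.uList, h * φ (eb i) * h⁻¹ = φ (el (xu e)) := by
    intro i hi h4
    have c2 : eb i * A = A * eb i := by rw [← eb_two, eb_comm hi (by norm_num)]
    have hct : Commute (h * φ (eb i) * h⁻¹) (φ Z) := by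
      rw [← ha, hconj, hconj]
      exact Commute.map (Commute.map c2 φ) (MulAut.conj h).toMonoidHom
    obtain ⟨w, hw⟩ := L.cent _ hct
    have hwA : w * A = A * w := by
      refine L.inj ?_
      rw [map_mul, map_mul, hw, ← hz, hconj, hconj]
      exact Commute.map (Commute.map (Classes.comm_Z (eb i)) φ) (MulAut.conj h).toMonoidHom
    have hwc : IsConj (φ Z) (φ w) := by
      rw [hw]
      obtain ⟨d, hd⟩ := conj_eb (by omega) hi
      exact L.conjA.trans (isConj_iff.2 ⟨h * φ d⁻¹, by rw [← hd, map_mul, map_mul, map_inv]; group⟩)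
    rcases L.fused w hwc with e | ⟨d, hd⟩
    · rw [e, ← ha] at hw
      have := eb_inj (by norm_num : 2 < 16) hi (eb_two.trans (hinj hw))
      omega
    · obtain ⟨e, he, hxe⟩ := exists_xu d⁻¹
      have hwe : w = el (xu e) := by rw [← hxe, ← hd]; group
      exact ⟨e, mem_uList he (hwe ▸ hwA), by rw [← hw, hwe]⟩
  have small : ∀ i < 16, ∀ v < 4, h * φ (eb i) * h⁻¹ = φ (eb v) → i < 4 := by
    intro i hi v hv e
    obtain ⟨v', hv', e'⟩ := four v hv
    rw [eb_inj hi (by omega) (hinj (e.trans e'.symm))]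
    exact hv'
  obtain ⟨i, hi, hi'⟩ := pre 4 (by norm_num) le_rfl
  obtain ⟨j, hj, hj'⟩ := pre 8 (by norm_num) (by norm_num)
  obtain ⟨l, hl, hl'⟩ := pre 12 (by norm_num) (by norm_num)
  have oki := (xu_spec (uList_lt hi)).2
  have okj := (xu_spec (uList_lt hj)).2
  have okl := (xu_spec (uList_lt hl)).2
  have k := check_pair
  simp only [pairOK, List.all_eq_true] at k
  have k := k i hi j hj
  simp only [Bool.or_eq_true, List.any_eq_true, List.mem_range, Bool.not_eq_true', List.any_eq_false,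
    Bool.and_eq_true] at k
  rcases k with (((⟨v, hv, e⟩ | ⟨v, hv, e⟩) | e) | e) | ⟨k, hk, ⟨a, ha', ea⟩, b, hb', eb'⟩
  · refine absurd (small 4 (by norm_num) v hv ?_) (lt_irrefl 4)
    rw [hi']
    have := el_eq_of_keys (l := [xu i]) (r := [eWord v]) (by simpa using oki)
      (by simpa using eWord_ok (show v < 16 by omega)) e
    exact congrArg φ (by simpa [eb] using this)
  · rcases e with e | e
    · refine absurd (small 8 (by norm_num) v hv ?_) (by norm_num)
      rw [hj']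
      have := el_eq_of_keys (l := [xu j]) (r := [eWord v]) (by simpa using okj)
        (by simpa using eWord_ok (show v < 16 by omega)) e
      exact congrArg φ (by simpa [eb] using this)
    · refine absurd (small 12 (by norm_num) v hv ?_) (by norm_num)
      have : el (xu j) = el (xu i) * eb v := by
        simpa [eb] using el_eq_of_keys (l := [xu j]) (r := [xu i, eWord v]) (by simpa using okj)
          (by simp [oki, eWord_ok (show v < 16 by omega)]) e
      rw [eb_twelve, hmul, hi', hj', this,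
        ← map_mul, ← mul_assoc, show el (xu i) * el (xu i) = 1 from L.inj (by
          rw [map_mul, ← hi', ← hmul, eb_self (by norm_num), map_one]; group), one_mul]
  · have h1 : el (xu i) * el (xu j) = el (xu j) * el (xu i) := L.inj (by
      rw [map_mul, map_mul, ← hi', ← hj', ← hmul, ← hmul, eb_comm (by norm_num) (by norm_num)])
    rw [keys_eq (l := [xu i, xu j]) (r := [xu j, xu i]) (by simp [oki, okj]) (by simp [oki, okj])
      (by simpa using h1)] at e
    simp at e
  · refine absurd ?_ (by simpa using e l hl)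
    refine keys_eq (l := [xu i, xu j]) (r := [xu l]) (by simp [oki, okj]) (by simp [okl]) ?_
    refine L.inj ?_
    simp only [List.map_cons, List.map_nil, List.prod_cons, List.prod_nil, mul_one]
    rw [map_mul, ← hi', ← hj', ← hl', ← hmul, eb_mul (by norm_num) (by norm_num)]
    rfl
  · have kc : el k * A = A * el k := by
      have hk' := check_fam
      simp only [famOK, Bool.and_eq_true, List.all_eq_true] at hk'
      rw [← eb_two]
      exact el_eq_two (hk'.1.1.2 k hk)
    refine ⟨φ (el k) * h, ?_, ?_, ?_⟩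
    · calc φ (el k) * h * φ Z * (φ (el k) * h)⁻¹ = φ (el k) * φ A * (φ (el k))⁻¹ := by rw [← hz]; group
        _ = φ A := by rw [← map_mul, kc, map_mul, mul_inv_cancel_right]
    · calc φ (el k) * h * φ A * (φ (el k) * h)⁻¹ = φ (el k) * φ Z * (φ (el k))⁻¹ := by rw [← ha]; group
        _ = φ Z := by rw [← map_mul, Classes.comm_Z, map_mul, mul_inv_cancel_right]
    · intro x hx
      have key : ∀ {n c m : ℕ}, eqWs [k, n] [eWord c, k] = true → h * φ (eb m) * h⁻¹ = φ (el n) →
          φ (el k) * h * φ (eb m) * (φ (el k) * h)⁻¹ = φ (eb c) := by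
        intro n c m e e'
        calc φ (el k) * h * φ (eb m) * (φ (el k) * h)⁻¹ = φ (el k) * φ (el n) * (φ (el k))⁻¹ := by
              rw [← e']; group
          _ = φ (eb c) := by rw [← map_mul, el_eq_two e, map_mul, mul_inv_cancel_right]; rfl
      rcases List.mem_cons.1 hx with rfl | hx
      · exact ⟨a, ha', key ea hi'⟩
      · rw [List.mem_singleton.1 hx]
        exact ⟨b, hb', key eb' hj'⟩

/-- An element acting on the copy as `g0` does. -/
theorem exists_g2 : ∃ g2 : G, (g2, g0) ∈ normPairs φ := by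
  obtain ⟨g1, hz, ha, h48⟩ := exists_g1 L
  let N : Subgroup ↥C0 := (Esub.map φ).comap ((MulAut.conj g1).toMonoidHom.comp φ)
  have gen : ∀ i < 16, ((i &&& 1) ^^^ (i &&& 2)) ^^^ ((i &&& 4) ^^^ (i &&& 8)) = i ∧
      (i &&& 1 = 0 ∨ i &&& 1 = 1) ∧ (i &&& 2 = 0 ∨ i &&& 2 = 2) ∧ (i &&& 4 = 0 ∨ i &&& 4 = 4) ∧
      (i &&& 8 = 0 ∨ i &&& 8 = 8) := by decide
  have split : ∀ (M : Subgroup ↥C0), (∀ v ∈ [1, 2, 4, 8], eb v ∈ M) → ∀ i < 16, eb i ∈ M := by
    intro M hM i hi
    obtain ⟨hx, c1, c2, c4, c8⟩ := gen i hi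
    have hm : ∀ v, (v = 0 ∨ v ∈ [1, 2, 4, 8]) → v < 16 ∧ eb v ∈ M := by
      rintro v (rfl | hv)
      · exact ⟨by norm_num, eb_zero ▸ one_mem M⟩
      · exact ⟨by fin_cases hv <;> norm_num, hM v hv⟩
    obtain ⟨l1, m1⟩ := hm (i &&& 1) (c1.imp id fun e => by simp [e])
    obtain ⟨l2, m2⟩ := hm (i &&& 2) (c2.imp id fun e => by simp [e])
    obtain ⟨l4, m4⟩ := hm (i &&& 4) (c4.imp id fun e => by simp [e])
    obtain ⟨l8, m8⟩ := hm (i &&& 8) (c8.imp id fun e => by simp [e])
    rw [← hx, ← eb_mul (xor_lt16 l1 l2) (xor_lt16 l4 l8), ← eb_mul l1 l2, ← eb_mul l4 l8]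
    exact mul_mem (mul_mem m1 m2) (mul_mem m4 m8)
  have hnorm : g1 ∈ Subgroup.normalizer (Esub.map φ : Set G) := by
    refine Subgroup.mem_normalizer_fintype ?_
    rintro _ ⟨_, ⟨i, hi, rfl⟩, rfl⟩
    refine split N (fun v hv => ?_) i hi
    show MulAut.conj g1 (φ (eb v)) ∈ Esub.map φ
    rw [MulAut.conj_apply]
    simp only [List.mem_cons, List.not_mem_nil, or_false] at hv
    rcases hv with rfl | rfl | rfl | rfl
    · rw [eb_one, hz]; exact ⟨A, eb_two ▸ eb_mem (by norm_num), rfl⟩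
    · rw [eb_two, ha]; exact ⟨Z, eb_one ▸ eb_mem (by norm_num), rfl⟩
    · obtain ⟨a, ha, e⟩ := h48 4 (by simp); rw [e]; exact ⟨_, eb_mem ha, rfl⟩
    · obtain ⟨a, ha, e⟩ := h48 8 (by simp); rw [e]; exact ⟨_, eb_mem ha, rfl⟩
  have back : ∀ s < 16, ∃ i < 16, g1 * φ (eb i) * g1⁻¹ = φ (eb s) := by
    intro s hs
    obtain ⟨_, ⟨i, hi, rfl⟩, e⟩ := (Subgroup.mem_normalizer_iff.1 (inv_mem hnorm) _).1 ⟨_, eb_mem hs, rfl⟩
    exact ⟨i, hi, by rw [e]; group⟩
  have low : ∀ v < 4, ∃ v' < 4, g1 * φ (eb v) * g1⁻¹ = φ (eb v') := by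
    have h1 : g1 * φ (eb 1) * g1⁻¹ = φ (eb 2) := by rw [eb_one, eb_two, hz]
    have h2 : g1 * φ (eb 2) * g1⁻¹ = φ (eb 1) := by rw [eb_one, eb_two, ha]
    intro v hv
    interval_cases v
    · exact ⟨0, by norm_num, by rw [eb_zero, map_one]; group⟩
    · exact ⟨2, by norm_num, h1⟩
    · exact ⟨1, by norm_num, h2⟩
    · refine ⟨3, by norm_num, ?_⟩
      rw [eb_three]
      calc g1 * φ (eb 1 * eb 2) * g1⁻¹ = g1 * φ (eb 1) * g1⁻¹ * (g1 * φ (eb 2) * g1⁻¹) := by rw [map_mul]; group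
        _ = φ (eb 1 * eb 2) := by rw [h1, h2, ← map_mul, eb_comm (by norm_num) (by norm_num)]
  obtain ⟨s4, s8, s1, s2, s48⟩ : RigidData.sigmaE.getD 4 0 = 4 ∧ RigidData.sigmaE.getD 8 0 = 11 ∧
      RigidData.sigmaE.getD 1 0 = 2 ∧ RigidData.sigmaE.getD 2 0 = 1 ∧ 4 ^^^ 11 = 15 := by decide
  obtain ⟨i, hi, ei⟩ := back 4 (by norm_num)
  obtain ⟨j, hj, ej⟩ := back 11 (by norm_num)
  have high : ∀ m < 16, ∀ s < 16, 4 ≤ s → g1 * φ (eb m) * g1⁻¹ = φ (eb s) → 4 ≤ m := by
    intro m hm s hs h4 e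
    by_contra hc
    obtain ⟨v, hv, e'⟩ := low m (by omega)
    have := eb_inj hs (by omega) (L.inj (e.symm.trans e'))
    omega
  have eij : g1 * φ (eb (i ^^^ j)) * g1⁻¹ = φ (eb 15) := by
    calc g1 * φ (eb (i ^^^ j)) * g1⁻¹ = g1 * φ (eb i) * g1⁻¹ * (g1 * φ (eb j) * g1⁻¹) := by
          rw [← eb_mul hi hj, map_mul]; group
      _ = φ (eb 15) := by rw [ei, ej, ← map_mul, eb_mul (by norm_num) (by norm_num), s48]
  have hn := check_norm
  simp only [normOK, Bool.and_eq_true, List.all_eq_true, List.mem_range, Bool.or_eq_true, decide_eq_true_eq,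
    List.any_eq_true] at hn
  have hi4 := high i hi 4 (by norm_num) le_rfl ei
  have hj4 := high j hj 11 (by norm_num) (by norm_num) ej
  have hij4 := high _ (xor_lt16 hi hj) 15 (by norm_num) (by norm_num) eij
  obtain ⟨s, hs, hsi, hsj⟩ := (hn.2 i hi j hj).resolve_left (by omega)
  rw [Nat.beq_eq] at hsi hsj
  obtain ⟨⟨⟨-, w2⟩, w4⟩, w8⟩ := hn.1.2 s hs
  obtain ⟨W, hW⟩ : ∃ W, W = Pw s.2.2 := ⟨_, rfl⟩
  have move : ∀ {x y z : ℕ}, W * eb x = eb y * W → g1 * φ (eb y) * g1⁻¹ = φ (eb z) →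
      g1 * φ W * φ (eb x) * (g1 * φ W)⁻¹ = φ (eb z) := by
    intro x y z e e'
    rw [← e', ← conj_eq_of_slide (φ := φ) e]
    group
  refine ⟨g1 * φ W, mem_normPairs g0_mem_T0 ?_⟩
  suffices h : ∀ v ∈ [1, 2, 4, 8], eb v ∈ (Esub.map (pairHom φ)).comap
      ((MulAut.conj ((g1 * φ W, g0) : G × P276)).toMonoidHom.comp (pairHom φ)) by
    intro i hi
    obtain ⟨c, hc, e⟩ := split _ h i hi
    exact ⟨c, hc, e.symm⟩
  intro v hv
  obtain ⟨hs', e⟩ := g0_eb (show v < 16 by fin_cases hv <;> norm_num)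
  refine ⟨_, eb_mem hs', Prod.ext ?_ ?_⟩
  · show φ _ = g1 * φ W * φ (eb v) * (g1 * φ W)⁻¹
    simp only [List.mem_cons, List.not_mem_nil, or_false] at hv
    rcases hv with rfl | rfl | rfl | rfl
    · rw [s1]
      exact (move (by rw [eb_one, Classes.comm_Z]) (by rw [eb_one, eb_two, hz])).symm
    · rw [s2]
      exact (move (hW ▸ Pw_slide w2) (by rw [eb_one, eb_two, ha])).symm
    · rw [s4]
      exact (move (hW ▸ Pw_slide w4) (hsi ▸ ei)).symm
    · rw [s8]
      exact (move (hW ▸ Pw_slide w8) (hsj ▸ ej)).symm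
  · show (eb _ : P276) = g0 * (eb v : P276) * g0⁻¹
    rw [e, mul_inv_cancel_right]


theorem card_kerPairs : Nat.card (kerPairs φ) ∣ 256 := by
  rw [kerPairs, Nat.card_congr (Subgroup.prodEquiv _ _).toEquiv, Nat.card_prod,
    Subgroup.card_map_of_injective L.inj, Subgroup.card_map_of_injective Subtype.val_injective, card_Esub]

theorem kerPairs_le : kerPairs φ ≤ normPairs φ := by
  rintro ⟨_, _⟩ ⟨⟨a, ha, rfl⟩, b, hb, rfl⟩
  refine mem_normPairs (C0_le_T0 b.2) fun i hi => ⟨eb i, eb_mem hi, Prod.ext ?_ ?_⟩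
  · show φ a * φ (eb i) * (φ a)⁻¹ = φ (eb i)
    rw [← map_mul, Esub_comm ha (eb_mem hi), map_mul, mul_inv_cancel_right]
  · show (b : P276) * (eb i : P276) * (b : P276)⁻¹ = (eb i : P276)
    rw [← Subgroup.coe_mul, Esub_comm hb (eb_mem hi), Subgroup.coe_mul, mul_inv_cancel_right]

/-- A pair acting trivially on the model acts as a member of the copy. -/
theorem fst_mem {p : G × P276} (hp : p ∈ normPairs φ) (h : p.2 = 1) : p.1 ∈ Esub.map φ := by
  have hfix : ∀ i < 16, p.1 * φ (eb i) = φ (eb i) * p.1 := fun i hi => by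
    have := act_eq hp (eb_mem hi) (c' := eb i) (by rw [h]; simp)
    exact mul_inv_eq_iff_eq_mul.1 this
  obtain ⟨c, hc⟩ := L.cent p.1 (eb_one ▸ hfix 1 (by norm_num))
  have key : ∀ i < 16, c * eb i = eb i * c := fun i hi => L.inj (by
    rw [map_mul, map_mul, hc]; exact hfix i hi)
  exact ⟨c, mem_Esub_of_comm (eb_two ▸ key 2 (by norm_num)) (key 4 (by norm_num)) (key 8 (by norm_num)), hc⟩

/-- A subgroup of pairs that lifts the model's normalizer. -/
structure Good (φ : ↥C0 →* G) (H : Subgroup (G × P276)) : Prop where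
  le : H ≤ normPairs φ
  uniq : ∀ p ∈ H, ∀ q ∈ H, p.2 = q.2 → p.1 = q.1
  diag : ∀ i < 16, pairHom φ (eb i) ∈ H
  gen : ∀ a < 2, pairHom φ (pg a) ∈ H
  cover : ∀ p ∈ normPairs φ, ∃ i < 16, ((p.1 * φ (eb i), p.2) : G × P276) ∈ H

theorem exists_cover {H : Subgroup (G × P276)} (hd : ∀ i < 16, pairHom φ (eb i) ∈ H) {p : G × P276}
    (h : ∃ k ∈ kerPairs φ, p * k ∈ H) : ∃ i < 16, ((p.1 * φ (eb i), p.2) : G × P276) ∈ H := by
  obtain ⟨⟨_, _⟩, ⟨⟨_, ⟨i, hi, rfl⟩, rfl⟩, _, ⟨j, hj, rfl⟩, rfl⟩, hk⟩ := h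
  refine ⟨i ^^^ j, xor_lt16 hi hj, ?_⟩
  convert mul_mem hk (hd j hj) using 1
  refine Prod.ext ?_ ?_
  · show _ = p.1 * φ (eb i) * φ (eb j)
    rw [← eb_mul hi hj, map_mul, mul_assoc]
  · show _ = p.2 * (eb j : P276) * (eb j : P276)
    rw [mul_assoc, ← Subgroup.coe_mul, eb_self hj, Subgroup.coe_one, mul_one]

theorem exists_good : ∃ H, Good φ H := by
  obtain ⟨g2, hg2⟩ := exists_g2 L
  have hpg : ∀ w : List ℕ, (∀ a ∈ w, a < 2) → pairHom φ (Pw w) ∈ normPairs φ := fun w => Pw_mem fun a => pg_mem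
  let U : Subgroup (G × P276) := normPairs φ ⊓ (Subgroup.centralizer {z0}).comap (MonoidHom.snd G P276)
  have memU : ∀ {p : G × P276}, p ∈ normPairs φ → p.2 * z0 = z0 * p.2 → p ∈ U := fun hp h =>
    ⟨hp, Subgroup.mem_centralizer_singleton_iff.2 h⟩
  have hKU : kerPairs φ ≤ U := fun p hp => memU (kerPairs_le L hp) (by
    obtain ⟨-, b, -, hb⟩ := hp
    rw [← hb]
    exact z0_comm b.2)
  have hdiag : Esub.map (pairHom φ) ≤ kerPairs φ := by
    rintro _ ⟨c, hc, rfl⟩
    exact ⟨⟨c, hc, rfl⟩, c, hc, rfl⟩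
  obtain ⟨H, hHle, hdH, hHK, hHcov⟩ := exists_supplement (X := normPairs φ) (K := kerPairs φ) (U := U)
    (D := normPairs φ ⊓ (pairHom φ).range) (Δ := Esub.map (pairHom φ)) inf_le_left hKU (by
      rintro p ⟨hp, c, rfl⟩
      exact memU hp (z0_comm c.2)) hdiag (by
      rintro _ ⟨⟨-, c, rfl⟩, -, b, hb, e⟩
      exact ⟨b, hb, by rw [show b = c from Subtype.ext e]⟩) (by
      intro p hp
      have h2 : p.2 ∈ C0 := centralizer_z0 (Subgroup.mem_prod.1 hp.1.2).2
        (Subgroup.mem_centralizer_singleton_iff.1 hp.2)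
      have hfix : p.1 * φ Z * p.1⁻¹ = φ Z := act_eq hp.1 (eb_one ▸ eb_mem (by norm_num)) (by
        show p.2 * z0 * p.2⁻¹ = z0
        have h := Subgroup.mem_centralizer_singleton_iff.1 hp.2
        change p.2 * z0 = z0 * p.2 at h
        rw [h, mul_inv_cancel_right])
      obtain ⟨c1, hc1⟩ := L.cent p.1 (mul_inv_eq_iff_eq_mul.1 hfix)
      have key : ∀ i < 16, (c1⁻¹ * ⟨p.2, h2⟩) * eb i = eb i * (c1⁻¹ * ⟨p.2, h2⟩) := by
        intro i hi
        have h := act_eq hp.1 (eb_mem hi) (c' := ⟨p.2, h2⟩ * eb i * (⟨p.2, h2⟩ : ↥C0)⁻¹) rfl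
        rw [← hc1, ← map_inv, ← map_mul, ← map_mul] at h
        calc c1⁻¹ * ⟨p.2, h2⟩ * eb i = c1⁻¹ * (⟨p.2, h2⟩ * eb i * (⟨p.2, h2⟩ : ↥C0)⁻¹) * ⟨p.2, h2⟩ := by group
          _ = c1⁻¹ * (c1 * eb i * c1⁻¹) * ⟨p.2, h2⟩ := by rw [L.inj h]
          _ = eb i * (c1⁻¹ * ⟨p.2, h2⟩) := by group
      have hE := mem_Esub_of_comm (eb_two ▸ key 2 (by norm_num)) (key 4 (by norm_num)) (key 8 (by norm_num))
      refine ⟨(φ (c1⁻¹ * ⟨p.2, h2⟩), 1), ⟨⟨_, hE, rfl⟩, 1, one_mem _, rfl⟩, ?_, ⟨p.2, h2⟩, ?_⟩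
      · exact mul_mem hp.1 (kerPairs_le L ⟨⟨_, hE, rfl⟩, 1, one_mem _, rfl⟩)
      · refine Prod.ext ?_ ?_
        · show φ ⟨p.2, h2⟩ = p.1 * φ (c1⁻¹ * ⟨p.2, h2⟩)
          rw [map_mul, map_inv, hc1, mul_inv_cancel_left]
        · exact (mul_one _).symm) (by
      rintro p hp _ ⟨⟨a, ha, e1⟩, b, hb, e2⟩
      obtain ⟨a', ha', ea⟩ := act_mem hp ha
      obtain ⟨b', hb', eb'⟩ := act_mem hp hb
      refine ⟨⟨a', ha', (congrArg Prod.fst ea).trans ?_⟩, b', hb', (congrArg Prod.snd eb').trans ?_⟩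
      · show p.1 * φ a * p.1⁻¹ = p.1 * _ * p.1⁻¹
        rw [e1]
      · show p.2 * (b : P276) * p.2⁻¹ = p.2 * _ * p.2⁻¹
        exact congrArg (fun z => p.2 * z * p.2⁻¹) e2) (by
      rintro p hp _ ⟨c, hc, rfl⟩
      obtain ⟨c', hc', e⟩ := act_mem hp hc
      exact ⟨c', hc', e⟩) (by
      rintro ⟨_, _⟩ ⟨⟨a, ha, rfl⟩, b, hb, rfl⟩ ⟨_, _⟩ ⟨⟨a', ha', rfl⟩, b', hb', rfl⟩
      refine Prod.ext ?_ ?_
      · show φ a * φ a' = φ a' * φ a
        rw [← map_mul, ← map_mul, Esub_comm ha ha']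
      · exact congrArg Subtype.val (Esub_comm hb hb')) (by
      refine Nat.Coprime.coprime_dvd_left (card_kerPairs L) ?_
      -- the conjugates of `z0` number fifteen
      have wit : ∀ i : Fin 15, ∃ p : ↥(normPairs φ), p.1.2 * z0 * p.1.2⁻¹ = (eb (i.val + 1) : P276) := by
        intro i
        by_cases h0 : i.val = 0
        · refine ⟨1, ?_⟩
          rw [h0, eb_one]
          simp [Z]
        · have hn := check_norm
          simp only [normOK, Bool.and_eq_true, List.all_eq_true, List.mem_range, Bool.or_eq_true,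
            decide_eq_true_eq, List.any_eq_true] at hn
          obtain ⟨m, hm, hmi⟩ := (hn.1.1.2 (i.val + 1) (by omega)).resolve_left (by omega)
          obtain ⟨hw, hm'⟩ := hn.1.1.1.2 m hm
          refine ⟨⟨_, mul_mem (hpg m.2 hw) hg2⟩, ?_⟩
          show (Pw m.2 : P276) * g0 * z0 * ((Pw m.2 : P276) * g0)⁻¹ = _
          have hs := congrArg Subtype.val (Pw_slide hm')
          rw [Nat.beq_eq] at hmi
          change (Pw m.2 : P276) * (eb 2 : P276) = (eb m.1 : P276) * (Pw m.2 : P276) at hs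
          rw [mul_assoc (Pw m.2 : P276), Classes.g0_z0, ← eb_two, ← hmi]
          calc (Pw m.2 : P276) * ((eb 2 : P276) * g0) * ((Pw m.2 : P276) * g0)⁻¹
              = (Pw m.2 : P276) * (eb 2 : P276) * (Pw m.2 : P276)⁻¹ := by group
            _ = (eb m.1 : P276) := by rw [hs, mul_inv_cancel_right]
      choose w hw using wit
      have same : ∀ p q : ↥(normPairs φ), ((p : ↥(normPairs φ) ⧸ U.subgroupOf (normPairs φ)) = q) ↔
          p.1.2 * z0 * p.1.2⁻¹ = q.1.2 * z0 * q.1.2⁻¹ := by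
        intro p q
        rw [QuotientGroup.eq, Subgroup.mem_subgroupOf]
        constructor
        · intro h
          have := Subgroup.mem_centralizer_singleton_iff.1 h.2
          change p.1.2⁻¹ * q.1.2 * z0 = z0 * (p.1.2⁻¹ * q.1.2) at this
          calc p.1.2 * z0 * p.1.2⁻¹ = p.1.2 * (z0 * (p.1.2⁻¹ * q.1.2)) * q.1.2⁻¹ := by group
            _ = q.1.2 * z0 * q.1.2⁻¹ := by rw [← this]; group
        · intro h
          refine memU (p⁻¹ * q).2 ?_
          show p.1.2⁻¹ * q.1.2 * z0 = z0 * (p.1.2⁻¹ * q.1.2)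
          calc p.1.2⁻¹ * q.1.2 * z0 = p.1.2⁻¹ * (q.1.2 * z0 * q.1.2⁻¹) * q.1.2 := by group
            _ = z0 * (p.1.2⁻¹ * q.1.2) := by rw [← h]; group
      have h15 : U.relIndex (normPairs φ) = 15 := by
        refine (Nat.card_eq_of_bijective (fun i => ((w i : ↥(normPairs φ) ⧸ U.subgroupOf (normPairs φ))))
          ⟨fun i j e => ?_, fun q => ?_⟩).symm.trans (Nat.card_fin 15)
        · have := eb_inj (by omega) (by omega) (Subtype.ext ((hw i).symm.trans (((same _ _).1 e).trans (hw j))))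
          omega
        · induction q using QuotientGroup.induction_on with
          | _ p =>
            obtain ⟨c, ⟨k, hk, rfl⟩, e⟩ := act_mem p.2 (eb_one ▸ eb_mem (by norm_num) : Z ∈ Esub)
            have e' : (eb k : P276) = p.1.2 * z0 * p.1.2⁻¹ := congrArg Prod.snd e
            have h0 : k ≠ 0 := by
              rintro rfl
              refine z0_ne_one ?_
              rw [eb_zero, Subgroup.coe_one] at e'
              calc z0 = p.1.2⁻¹ * (p.1.2 * z0 * p.1.2⁻¹) * p.1.2 := by group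
                _ = 1 := by rw [← e']; group
            refine ⟨⟨k - 1, by omega⟩, (same _ _).2 ?_⟩
            rw [hw, ← e', show k - 1 + 1 = k by omega]
      rw [h15]
      norm_num)
  have hd : ∀ i < 16, pairHom φ (eb i) ∈ H := fun i hi => hdH ⟨_, eb_mem hi, rfl⟩
  have huniq : ∀ p ∈ H, ∀ q ∈ H, p.2 = q.2 → p.1 = q.1 := by
    intro p hp q hq e
    have hm := mul_mem (inv_mem hp) hq
    have h2 : (p⁻¹ * q).2 = 1 := by show p.2⁻¹ * q.2 = 1; rw [e, inv_mul_cancel]
    have hk : p⁻¹ * q ∈ kerPairs φ := ⟨fst_mem L (hHle hm) h2, 1, one_mem _, h2.symm⟩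
    obtain ⟨c, -, hc⟩ := hHK ⟨hm, hk⟩
    have hc1 : c = 1 := Subtype.ext ((congrArg Prod.snd hc).trans h2)
    have := congrArg Prod.fst hc
    rw [hc1, map_one] at this
    exact inv_mul_eq_one.1 this.symm
  -- the values on the two generators form a cocycle
  have hgen : ∀ a < 2, ∃ d < 16, ((φ (pg a * eb d), (pg a : P276)) : G × P276) ∈ H := fun a ha => by
    obtain ⟨d, hd', h⟩ := exists_cover L hd (hHcov _ (pg_mem (φ := φ) ha))
    exact ⟨d, hd', by rw [map_mul]; exact h⟩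
  obtain ⟨d₀, hd₀, h0⟩ := hgen 0 (by norm_num)
  obtain ⟨d₁, hd₁, h1⟩ := hgen 1 (by norm_num)
  obtain ⟨d, hd2⟩ : ∃ d, d = two d₀ d₁ := ⟨_, rfl⟩
  have hda : ∀ a < 2, d a < 16 ∧ ((φ (pg a * eb (d a)), (pg a : P276)) : G × P276) ∈ H := by
    intro a ha
    rw [hd2]
    interval_cases a
    · exact ⟨hd₀, h0⟩
    · exact ⟨hd₁, h1⟩
  have run : ∀ w : List ℕ, (∀ a ∈ w, a < 2) → ∀ (W : ↥C0) (s : ℕ), s < 16 →
      ((φ (W * eb s), (W : P276)) : G × P276) ∈ H →
      w.foldl (fun s a => act a s ^^^ d a) s < 16 ∧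
      ((φ (W * Pw w * eb (w.foldl (fun s a => act a s ^^^ d a) s)), ((W * Pw w : ↥C0) : P276)) : G × P276) ∈ H := by
    intro w
    induction w with
    | nil => intro _ W s hs h; simpa [Pw, pW, hs] using h
    | cons a w ih =>
      intro hw W s hs h
      have ha := hw a List.mem_cons_self
      obtain ⟨hact, hrel⟩ := act_spec ha hs
      have h' := mul_mem h (hda a ha).2
      have hlt := xor_lt16 hact (hda a ha).1
      have := ih (fun b hb => hw b (List.mem_cons_of_mem _ hb)) (W * pg a) _ hlt (by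
        convert h' using 1
        refine Prod.ext ?_ ?_
        · show _ = φ (W * eb s) * φ (pg a * eb (d a))
          rw [← map_mul, ← eb_mul hact (hda a ha).1, mul_assoc W (eb s), ← mul_assoc (eb s), ← hrel]
          simp only [mul_assoc]
        · rfl)
      rw [Pw_eq, List.map_cons, List.prod_cons, ← Pw_eq, ← mul_assoc W]
      exact this
  have hcoc : ∀ r ∈ RigidData.rels, Nat.beq (dl d r.1) (dl d r.2.1) = true := by
    intro r hr
    have hk := check_cocycle
    simp only [cocycleOK, Bool.and_eq_true, List.all_eq_true, decide_eq_true_eq] at hk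
    obtain ⟨⟨⟨hw1, hw2⟩, he⟩, heq⟩ := hk.1 r hr
    have hbase : ((φ (1 * eb 0), ((1 : ↥C0) : P276)) : G × P276) ∈ H := by
      rw [one_mul, eb_zero, map_one, Subgroup.coe_one]; exact one_mem H
    obtain ⟨b1, m1⟩ := run r.1 hw1 1 0 (by norm_num) hbase
    obtain ⟨b2, m2⟩ := run r.2.1 hw2 1 0 (by norm_num) hbase
    have e0 : Pw r.1 = Pw r.2.1 * eb r.2.2 := by
      simpa [Pw, eb, List.prod_append] using el_prod_eq heq
    have := huniq _ m1 _ (mul_mem m2 (hd _ he)) (by
      show ((1 * Pw r.1 : ↥C0) : P276) = ((1 * Pw r.2.1 : ↥C0) : P276) * (eb r.2.2 : P276)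
      rw [one_mul, one_mul, e0, Subgroup.coe_mul])
    change φ _ = φ _ * φ _ at this
    rw [← map_mul, one_mul, one_mul, e0, mul_assoc, mul_assoc, eb_mul he b1, eb_mul b2 he] at this
    have h' := eb_inj (xor_lt16 he b1) (xor_lt16 b2 he) (mul_left_cancel (L.inj this))
    rw [Nat.beq_eq]
    rw [Nat.xor_comm (List.foldl _ 0 r.2.1)] at h'
    exact Nat.xor_right_inj.1 h'
  obtain ⟨e, he, he0, he1⟩ : ∃ e < 16, d₀ = act 0 e ^^^ e ∧ d₁ = act 1 e ^^^ e := by
    have hk := check_cocycle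
    simp only [cocycleOK, Bool.and_eq_true, List.all_eq_true, List.mem_range, Bool.or_eq_true,
      Bool.not_eq_true', List.any_eq_true, Nat.beq_eq] at hk
    rcases hk.2 d₀ hd₀ d₁ hd₁ with h | h
    · have : (RigidData.rels.all fun r => Nat.beq (dl (two d₀ d₁) r.1) (dl (two d₀ d₁) r.2.1)) = true :=
        List.all_eq_true.2 fun r hr => hd2 ▸ hcoc r hr
      rw [this] at h
      simp at h
    · exact h
  -- conjugation by the member found
  obtain ⟨p, hp⟩ : ∃ p : G × P276, p = (φ (eb e), 1) := ⟨_, rfl⟩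
  have hpk : p ∈ kerPairs φ := hp ▸ ⟨⟨_, eb_mem he, rfl⟩, 1, one_mem _, rfl⟩
  have hpX := kerPairs_le L hpk
  have hsnd : ∀ x : G × P276, (p⁻¹ * x * p).2 = x.2 := fun x => by simp [hp]
  refine ⟨H.comap (MulAut.conj p⁻¹).toMonoidHom, ?_, ?_, fun i hi => ?_, fun a ha => ?_, fun x hx => ?_⟩
  · intro x hx
    have := mul_mem (mul_mem hpX (hHle hx)) (inv_mem hpX)
    simpa [mul_assoc] using this
  · intro x hx y hy e
    simp only [Subgroup.mem_comap, MulEquiv.coe_toMonoidHom, MulAut.conj_apply, inv_inv] at hx hy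
    have := huniq _ hx _ hy (by rw [hsnd, hsnd, e])
    simpa using this
  · simp only [Subgroup.mem_comap, MulEquiv.coe_toMonoidHom, MulAut.conj_apply, inv_inv]
    convert hd i hi using 1
    refine Prod.ext ?_ (hsnd _)
    show (p⁻¹).1 * φ (eb i) * p.1 = φ (eb i)
    rw [hp, Prod.fst_inv, mul_assoc, ← map_mul, eb_comm hi he, map_mul, inv_mul_cancel_left]
  · simp only [Subgroup.mem_comap, MulEquiv.coe_toMonoidHom, MulAut.conj_apply, inv_inv]
    obtain ⟨hdl, hm⟩ := hda a ha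
    convert hm using 1
    refine Prod.ext ?_ (hsnd _)
    show (p⁻¹).1 * φ (pg a) * p.1 = φ (pg a * eb (d a))
    obtain ⟨hact, hrel⟩ := act_spec ha he
    have hdv : d a = act a e ^^^ e := by
      rw [hd2]
      interval_cases a
      · exact he0
      · exact he1
    rw [hp, Prod.fst_inv, ← map_inv, eb_inv he, ← map_mul, ← map_mul, hdv, ← eb_mul hact he, ← mul_assoc,
      hrel]
  · refine exists_cover L (H := H.comap _) (fun i hi => ?_) ?_
    · simp only [Subgroup.mem_comap, MulEquiv.coe_toMonoidHom, MulAut.conj_apply, inv_inv]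
      convert hd i hi using 1
      refine Prod.ext ?_ (hsnd _)
      show (p⁻¹).1 * φ (eb i) * p.1 = φ (eb i)
      rw [hp, Prod.fst_inv, mul_assoc, ← map_mul, eb_comm hi he, map_mul, inv_mul_cancel_left]
    obtain ⟨k, hk, hm⟩ := hHcov _ (mul_mem (mul_mem (inv_mem hpX) hx) hpX)
    refine ⟨k, hk, ?_⟩
    simp only [Subgroup.mem_comap, MulEquiv.coe_toMonoidHom, MulAut.conj_apply, inv_inv]
    have hc : k * p = p * k := by
      obtain ⟨⟨b, hb, e1⟩, -⟩ := hk
      refine Prod.ext ?_ ?_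
      · show k.1 * p.1 = p.1 * k.1
        rw [hp, ← e1, ← map_mul, ← map_mul, Esub_comm hb (eb_mem he)]
      · simp [hp]
    rw [show p⁻¹ * (x * k) * p = p⁻¹ * x * p * k by rw [mul_assoc, mul_assoc x, hc]; group]
    exact hm

/-- **The amalgam relations.** -/
theorem exists_amalgam : ∃ g : G, Amalgam φ g := by
  obtain ⟨H, hH⟩ := exists_good L
  obtain ⟨g2, hg2⟩ := exists_g2 L
  obtain ⟨i, -, hgH⟩ := hH.cover _ hg2
  obtain ⟨g, hg⟩ : ∃ g, g = g2 * φ (eb i) := ⟨_, rfl⟩
  rw [← hg] at hgH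
  have hsq : g * g = 1 := hH.uniq _ (mul_mem hgH hgH) 1 (one_mem H) g0_sq
  have hginv : g⁻¹ = g := inv_eq_of_mul_eq_one_right hsq
  have hz : g * φ Z * g⁻¹ = φ A := act_eq (hH.le hgH) (eb_one ▸ eb_mem (by norm_num)) (by
    show g0 * z0 * g0⁻¹ = (A : P276)
    rw [Classes.g0_z0, mul_inv_cancel_right])
  have ha : g * φ A * g⁻¹ = φ Z := by
    rw [← hz, hginv]
    simp only [← mul_assoc, hsq, one_mul]
    rw [mul_assoc, hsq, mul_one]
  have pel : ∀ {n : ℕ}, n < RigidData.pElts.length → pairHom φ (el (pEl n)) ∈ H ∧ wordOK (pEl n) = true := by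
    intro n hn
    have hk := check_used
    simp only [usedOK, Bool.and_eq_true, List.all_eq_true, decide_eq_true_eq] at hk
    obtain ⟨hw, hm⟩ := hk.1.1.1.1 _ (List.getElem_mem hn)
    rw [pEl, List.getD_eq_getElem _ _ hn]
    exact ⟨by rw [el_mul_of_check hm]; exact Pw_mem hH.gen hw, (wordOK_of_eqWs hm).1 _ (by simp)⟩
  have gconj : ∀ {p q : ℕ}, p < RigidData.pElts.length → q < RigidData.pElts.length →
      eqP (Data.letterC.getD 7 0 :: (codes (pEl p) ++ [Data.letterC.getD 7 0])) (codes (pEl q)) = true →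
      g * φ (el (pEl p)) * g = φ (el (pEl q)) := fun hp hq h =>
    hH.uniq _ (mul_mem (mul_mem hgH (pel hp).1) hgH) _ (pel hq).1 (g0_conj (pel hp).2 (pel hq).2 h)
  refine ⟨g, hsq, ?_, ?_⟩
  · -- the element of order three
    have hr := check_rigid
    simp only [rigidOK, Bool.and_eq_true, List.all_eq_true, List.mem_range, Bool.or_eq_true,
      decide_eq_true_eq, List.any_eq_true, Nat.ble_eq, Nat.beq_eq, Bool.not_eq_true'] at hr
    obtain ⟨⟨⟨⟨⟨⟨⟨hx1, hx2⟩, hcube⟩, hlen⟩, hme⟩, hm4⟩, hm8⟩, hrig⟩ := hr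
    obtain ⟨x₁, e₁⟩ : ∃ x, x = RigidData.xW.1 := ⟨_, rfl⟩
    obtain ⟨x₂, e₂⟩ : ∃ x, x = RigidData.xW.2 := ⟨_, rfl⟩
    rw [← e₁] at hx1 hcube hme
    rw [← e₂] at hx2 hrig hme
    have c1 : el x₁ * A = A * el x₁ := by rw [← eb_two]; exact el_eq_two hx1
    have c2 : el x₂ * A = A * el x₂ := by rw [← eb_two]; exact el_eq_two hx2
    have hcomm : ∀ {y : G} {a b : G}, y * a = a * y → g * a * g = b → g * y * g * b = b * (g * y * g) := by
      intro y a b h1 h2
      rw [← h2]
      calc g * y * g * (g * a * g) = g * y * (g * g) * a * g := by simp only [mul_assoc]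
        _ = g * (y * a) * g := by rw [hsq, mul_one, mul_assoc g y a]
        _ = g * (a * y) * g := by rw [h1]
        _ = g * a * (g * g) * y * g := by rw [hsq, mul_one, mul_assoc g a y]
        _ = g * a * g * (g * y * g) := by simp only [mul_assoc]
    have hu : Commute (g * φ (el x₁) * g) (φ Z) :=
      hcomm (a := φ A) (by rw [← map_mul, c1, map_mul]) (by rw [← ha, hginv])
    obtain ⟨v, hv⟩ := L.cent _ hu
    have vA : v * A = A * v := L.inj (by
      rw [map_mul, map_mul, hv]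
      exact hcomm (a := φ Z) (by rw [← map_mul, Classes.comm_Z, map_mul]) (by rw [← hz, hginv]))
    have vM : ∀ m ∈ RigidData.mElts, (el x₂)⁻¹ * v * el (pEl m.2.1) = el (pEl m.2.1) * ((el x₂)⁻¹ * v) := by
      intro m hm
      obtain ⟨⟨⟨⟨⟨⟨⟨l1, l2⟩, l3⟩, l4⟩, r1⟩, r2⟩, q12⟩, q34⟩ := hme m hm
      have s1 := el_eq_two r1
      have s2 := el_eq_two r2
      have hv' : v * el (pEl m.2.1) = el (pEl m.2.2.2) * v := L.inj (by
        rw [map_mul, map_mul, hv, ← gconj l1 l2 q12, ← gconj l3 l4 q34]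
        calc g * φ (el x₁) * g * (g * φ (el (pEl m.1)) * g)
            = g * φ (el x₁) * (g * g) * φ (el (pEl m.1)) * g := by simp only [mul_assoc]
          _ = g * (φ (el x₁) * φ (el (pEl m.1))) * g := by rw [hsq, mul_one, mul_assoc g]
          _ = g * (φ (el (pEl m.2.2.1)) * φ (el x₁)) * g := by rw [← map_mul, s1, map_mul]
          _ = g * φ (el (pEl m.2.2.1)) * (g * g) * φ (el x₁) * g := by rw [hsq, mul_one, ← mul_assoc g]
          _ = _ := by simp only [mul_assoc])
      rw [mul_assoc, hv', ← mul_assoc, ← mul_assoc]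
      congr 1
      rw [inv_mul_eq_iff_eq_mul, ← mul_assoc, s2, mul_inv_cancel_right]
    have hnear : ∀ n < 2, (RigidData.mElts.getD n (0, 0, 0, 0)) ∈ RigidData.mElts := fun n hn => by
      rw [List.getD_eq_getElem _ _ (by omega)]; exact List.getElem_mem _
    have wA : (el x₂)⁻¹ * v * A = A * ((el x₂)⁻¹ * v) := by
      rw [mul_assoc, vA, ← mul_assoc, ← mul_assoc]
      congr 1
      rw [inv_mul_eq_iff_eq_mul, ← mul_assoc, c2, mul_inv_cancel_right]
    obtain ⟨j, hj, hjw⟩ : (el x₂)⁻¹ * v ∈ Esub := mem_Esub_of_comm wA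
      (by rw [show eb 4 = el (pEl (RigidData.mElts.getD 0 (0, 0, 0, 0)).2.1) by simpa [eb] using el_mul_of_check hm4]
          exact vM _ (hnear 0 (by norm_num)))
      (by rw [show eb 8 = el (pEl (RigidData.mElts.getD 1 (0, 0, 0, 0)).2.1) by simpa [eb] using el_mul_of_check hm8]
          exact vM _ (hnear 1 (by norm_num)))
    have hvj : v = el x₂ * eb j := by rw [hjw, mul_inv_cancel_left]
    have hv3 : v * v * v = 1 := L.inj (by
      rw [map_mul, map_mul, hv, map_one]
      calc g * φ (el x₁) * g * (g * φ (el x₁) * g) * (g * φ (el x₁) * g)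
          = g * φ (el x₁) * (g * g) * φ (el x₁) * (g * g) * φ (el x₁) * g := by simp only [mul_assoc]
        _ = g * φ (el x₁ * el x₁ * el x₁) * g := by
          rw [hsq, mul_one, mul_one, map_mul, map_mul]; simp only [mul_assoc]
        _ = 1 := by
          rw [show el x₁ * el x₁ * el x₁ = 1 by simpa [el_zero, mul_assoc] using el_prod_eq hcube, map_one,
            mul_one, hsq])
    have j0 : j = 0 := by
      have okx : wordOK x₂ = true := (wordOK_of_eqWs hx2).1 _ (by simp)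
      have oke : wordOK (eWord j) = true := eWord_ok hj
      rcases hrig j hj with (h | h) | ⟨m, hm, h⟩
      · exact h
      · have h3 : el x₂ * eb j * (el x₂ * eb j) * (el x₂ * eb j) = 1 := by rw [← hvj]; exact hv3
        have ok0 : wordOK 0 = true := by decide
        rw [keys_eq (l := [x₂, eWord j, x₂, eWord j, x₂, eWord j]) (r := [0]) (by simp [okx, oke])
          (by simp [ok0]) (by simpa [el_zero, eb, mul_assoc] using h3)] at h
        simp at h
      · obtain ⟨⟨⟨⟨⟨⟨⟨-, l2⟩, -⟩, -⟩, -⟩, -⟩, -⟩, -⟩ := hme m hm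
        have := vM m hm
        rw [← hjw] at this
        rw [keys_eq (l := [eWord j, pEl m.2.1]) (r := [pEl m.2.1, eWord j]) (by simp [oke, (pel l2).2])
          (by simp [oke, (pel l2).2]) (by simpa [eb] using this)] at h
        simp at h
    rw [j0, eb_zero, mul_one] at hvj
    have hx : φ (el x₁) * g = g * φ (el x₂) := by
      rw [← hvj, hv, ← mul_assoc, ← mul_assoc, hsq, one_mul]
    intro p hp
    obtain ⟨n, hn, rfl⟩ := List.getElem_of_mem hp
    have hk := check_used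
    simp only [usedOK, Bool.and_eq_true, List.all_eq_true, decide_eq_true_eq, List.mem_range, Bool.or_eq_true,
      Nat.beq_eq] at hk
    have hnl : n < RigidData.kDec.length := hk.1.2.symm ▸ hn
    obtain ⟨⟨hd, hk1⟩, hk2⟩ := hk.2 n hnl
    rw [List.getD_eq_getElem ClosureData.kGens _ hn] at hk1 hk2
    have e1 := el_prod_eq hk1
    have e2 := el_prod_eq hk2
    simp only [List.map_cons, List.map_nil, List.prod_cons, List.prod_nil, mul_one] at e1 e2
    rw [e1, e2]
    clear e1 e2 hk1 hk2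
    revert hd
    induction RigidData.kDec.getD n [] with
    | nil => simp
    | cons it l ih =>
      intro hd
      simp only [List.map_cons, List.prod_cons, map_mul]
      rw [mul_assoc, ih fun x hx => hd x (List.mem_cons_of_mem _ hx), ← mul_assoc, ← mul_assoc]
      congr 1
      cases hit : Nat.beq it.1 0
      · simp only [cond_false]
        rcases hd it List.mem_cons_self with h | ⟨⟨h1, h2⟩, h3⟩
        · rw [h] at hit; simp at hit
        · rw [← gconj h1 h2 h3, ← mul_assoc, ← mul_assoc, hsq, one_mul]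
      · simp only [cond_true]
        rw [← e₁, ← e₂]
        exact hx
  · intro m hm
    obtain ⟨n, hn, rfl⟩ := List.getElem_of_mem hm
    have hk := check_used
    simp only [usedOK, Bool.and_eq_true, List.all_eq_true, decide_eq_true_eq, List.mem_range, Nat.beq_eq] at hk
    have hnl : n < RigidData.movePos.length := hk.1.1.1.2.symm ▸ hn
    obtain ⟨⟨⟨⟨⟨l1, l2⟩, l3⟩, r1⟩, r2⟩, r3⟩ := hk.1.1.2 n hnl
    rw [List.getD_eq_getElem ClosureData.moves _ hn] at r1 r2 r3
    have key : ∀ {a q : ℕ}, q < RigidData.pElts.length → mulOK a [pEl q] = true → pairHom φ (el a) ∈ H := by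
      intro a q hq h
      rw [show el a = el (pEl q) by simpa using el_mul_of_check h]
      exact (pel hq).1
    exact hH.uniq _ (mul_mem (mul_mem hgH (key l1 r1)) hgH) _ (mul_mem (mul_mem (key l2 r2) hgH) (key l3 r3))
      (moves_model hm)

end

end Cfsg.Agent.CoThreeType
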