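/-
Uniqueness of the non-split double cover of a perfect group with multiplier of order two
(owner: helper27).

Main results (namespace `Cfsg.Agent.CoThreeType`):
* `nonempty_mulEquiv_of_covers`
* `nonempty_mulEquiv_sp6_covers` : the case of `Sp6(2)`
-/
import Cfsg.Agent.Lib.McLCent.Unique
import Cfsg.Agent.S0269
import Cfsg.Agent.S2093

set_option autoImplicit false

namespace Cfsg.Agent.CoThreeType

universe u

section

variable {H : Type*} [Group H] {S : Type*} [Group S]

/-- The map onto the quotient. -/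
theorem exists_cover_hom (h : Cfsg.IsNonsplitDoubleCover H S) :
    ∃ σ : H →* S, Function.Surjective σ ∧ σ.ker = Subgroup.center H := by
  obtain ⟨-, ⟨e⟩, -⟩ := h
  refine ⟨e.toMonoidHom.comp (QuotientGroup.mk' _), e.surjective.comp (QuotientGroup.mk'_surjective _), ?_⟩
  ext x
  simp

theorem isPerfect_of_cover [Finite H] (hS : commutator S = ⊤) (h : Cfsg.IsNonsplitDoubleCover H S) :
    commutator H = ⊤ := by
  obtain ⟨σ, hσ, hker⟩ := exists_cover_hom h
  have hmap : (commutator H).map σ = ⊤ := by
    rw [commutator_def, Subgroup.map_commutator, Subgroup.map_top_of_surjective σ hσ, ← commutator_def, hS]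
  have hsup : commutator H ⊔ Subgroup.center H = ⊤ := by
    rw [← hker, ← Subgroup.comap_map_eq, hmap, Subgroup.comap_top]
  by_cases hle : Subgroup.center H ≤ commutator H
  · rwa [sup_eq_left.2 hle] at hsup
  exfalso
  have hbot : commutator H ⊓ Subgroup.center H = ⊥ := by
    rw [Subgroup.eq_bot_iff_forall]
    intro x hx
    by_contra hx1
    refine hle fun y hy => ?_
    have hz : Subgroup.zpowers x = Subgroup.center H :=
      Subgroup.eq_of_le_of_card_ge (Subgroup.zpowers_le.2 hx.2) (by
        rw [h.1, Nat.card_zpowers]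
        have h0 := orderOf_pos x
        have h1 : orderOf x ≠ 1 := fun e => hx1 (orderOf_eq_one_iff.1 e)
        omega)
    rw [← hz] at hy
    exact (Subgroup.zpowers_le.2 hx.1) hy
  refine h.2.2 (commutator H) (Subgroup.isComplement'_of_disjoint_and_mul_eq_univ ?_ ?_)
  · rw [disjoint_iff, inf_comm]; exact hbot
  · rw [← Subgroup.mul_normal, sup_comm, hsup, Subgroup.coe_top]

/-- A subgroup of small order maps bijectively onto a double cover below it. -/
theorem bijective_of_fac [Finite H] (hS : commutator S = ⊤) {E : Type*} [Group E] [Finite E] (P : Subgroup E)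
    (hP2 : Nat.card ↥P ≤ 2 * Nat.card S) {ρ : E →* S}
    (hρP : P.map ρ = ⊤) (f : E →* H) (σ : H →* S)
    (hH : Cfsg.IsNonsplitDoubleCover H S) (hk : σ.ker = Subgroup.center H)
    (hfac : σ.comp f = ρ) : Function.Bijective (f.comp P.subtype) := by
  have hs : Function.Surjective (f.comp P.subtype) := by
    rw [← MonoidHom.range_eq_top]
    refine top_le_iff.1 ((isPerfect_of_cover hS hH).ge.trans (McLCent.commutator_le_of_sup_center ?_))
    have hm : (f.comp P.subtype).range.map σ = ⊤ := by
      rw [MonoidHom.range_comp, Subgroup.range_subtype, Subgroup.map_map, hfac, hρP]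
    rw [← hk, ← Subgroup.comap_map_eq, hm, Subgroup.comap_top]
  refine hs.bijective_of_nat_card_le (hP2.trans ?_)
  obtain ⟨hc, ⟨e⟩, -⟩ := hH
  rw [Subgroup.card_eq_card_quotient_mul_card_subgroup (Subgroup.center H), hc, Nat.card_congr e.toEquiv,
    mul_comm]

end

/-- Two non-split double covers of a perfect group with multiplier of order two are isomorphic. -/
theorem nonempty_mulEquiv_of_covers {H K S : Type u} [Group H] [Finite H] [Group K] [Finite K] [Group S]
    [Finite S] (hS : commutator S = ⊤) (hM : Cfsg.HasCyclicSchurMultiplier S 2)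
    (hH : Cfsg.IsNonsplitDoubleCover H S) (hK : Cfsg.IsNonsplitDoubleCover K S) : Nonempty (H ≃* K) := by
  classical
  obtain ⟨σ, hσ, hσk⟩ := exists_cover_hom hH
  obtain ⟨τ, hτ, hτk⟩ := exists_cover_hom hK
  let E : Subgroup (H × K) :=
    { carrier := {p | σ p.1 = τ p.2}
      one_mem' := by simp
      mul_mem' := fun {a b} ha hb => by
        show σ (a * b).1 = τ (a * b).2
        rw [Prod.fst_mul, Prod.snd_mul, map_mul, map_mul, show σ a.1 = τ a.2 from ha,
          show σ b.1 = τ b.2 from hb]
      inv_mem' := fun {a} ha => by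
        show σ a⁻¹.1 = τ a⁻¹.2
        rw [Prod.fst_inv, Prod.snd_inv, map_inv, map_inv, show σ a.1 = τ a.2 from ha] }
  let ρ : ↥E →* S := σ.comp ((MonoidHom.fst H K).comp E.subtype)
  have hρ : Function.Surjective ρ := fun a => by
    obtain ⟨x, hx⟩ := hσ a
    obtain ⟨y, hy⟩ := hτ a
    exact ⟨⟨(x, y), hx.trans hy.symm⟩, hx⟩
  have hρc : ρ.ker ≤ Subgroup.center ↥E := by
    intro p hp
    have h1 : p.1.1 ∈ Subgroup.center H := hσk ▸ (MonoidHom.mem_ker.1 hp : σ p.1.1 = 1)
    have h2 : p.1.2 ∈ Subgroup.center K := hτk ▸ (p.2.symm.trans (MonoidHom.mem_ker.1 hp) : τ p.1.2 = 1)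
    exact Subgroup.mem_center_iff.2 fun q => Subtype.ext (Prod.ext (Subgroup.mem_center_iff.1 h1 q.1.1)
      (Subgroup.mem_center_iff.1 h2 q.1.2))
  let P : Subgroup ↥E := ⁅commutator ↥E, commutator ↥E⁆
  have hρP : P.map ρ = ⊤ := by
    show Subgroup.map ρ ⁅commutator ↥E, commutator ↥E⁆ = ⊤
    have hc : (commutator ↥E).map ρ = ⊤ := by
      rw [commutator_def, Subgroup.map_commutator, Subgroup.map_top_of_surjective ρ hρ, ← commutator_def, hS]
    rw [Subgroup.map_commutator, hc, ← commutator_def, hS]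
  have hPE : P ⊔ Subgroup.center ↥E = ⊤ := by
    refine top_le_iff.1 (le_trans ?_ (sup_le_sup_left hρc P))
    rw [← Subgroup.comap_map_eq, hρP, Subgroup.comap_top]
  have hPtop : commutator ↥E = P := le_antisymm (McLCent.commutator_le_of_sup_center hPE)
    (Subgroup.commutator_mono le_top le_top)
  have hperf : commutator ↥P = ⊤ := by
    refine Subgroup.map_injective (Subgroup.subtype_injective P) ?_
    rw [Subgroup.map_subtype_commutator, ← MonoidHom.range_eq_map, Subgroup.range_subtype]
    show ⁅P, P⁆ = P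
    conv_rhs => rw [show P = ⁅commutator ↥E, commutator ↥E⁆ from rfl, hPtop]
  let π : ↥P →* S := ρ.comp P.subtype
  have hstem : Cfsg.IsStemExtension π := by
    refine ⟨?_, fun p hp => ?_, ?_⟩
    · rw [← MonoidHom.range_eq_top, MonoidHom.range_comp, Subgroup.range_subtype, hρP]
    · exact Subgroup.mem_center_iff.2 fun q => Subtype.ext
        (Subgroup.mem_center_iff.1 (hρc (MonoidHom.mem_ker.2 (MonoidHom.mem_ker.1 hp))) (q : ↥E))
    · rw [hperf]; exact le_top
  obtain ⟨μ, hμ⟩ := hM.2 _ π hstem
  have hcard : Nat.card π.ker ≤ 2 := (Nat.card_le_card_of_surjective μ hμ).trans (by simp)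
  have hP2 : Nat.card ↥P ≤ 2 * Nat.card S := by
    rw [Subgroup.card_eq_card_quotient_mul_card_subgroup π.ker,
      Nat.card_congr (QuotientGroup.quotientKerEquivOfSurjective π hstem.1).toEquiv, mul_comm 2]
    exact Nat.mul_le_mul_left _ hcard
  have hfst := bijective_of_fac hS P hP2 hρP ((MonoidHom.fst H K).comp E.subtype) σ hH hσk rfl
  have hsnd := bijective_of_fac hS P hP2 hρP ((MonoidHom.snd H K).comp E.subtype) τ hK hτk
    (MonoidHom.ext fun p => p.2.symm)
  exact ⟨(MulEquiv.ofBijective _ hfst).symm.trans (MulEquiv.ofBijective _ hsnd)⟩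

/-- A double cover read through an isomorphism. -/
theorem isNonsplitDoubleCover_congr {H H' K K' : Type*} [Group H] [Group H'] [Group K] [Group K']
    (e : H ≃* H') (f : K ≃* K') (h : Cfsg.IsNonsplitDoubleCover H K) :
    Cfsg.IsNonsplitDoubleCover H' K' := by
  obtain ⟨hc, ⟨q⟩, hn⟩ := h
  have hmap : (Subgroup.center H).map e.toMonoidHom = Subgroup.center H' := by
    ext x
    rw [Subgroup.mem_map_equiv, Subgroup.mem_center_iff, Subgroup.mem_center_iff]
    exact ⟨fun h g => by simpa using congrArg e (h (e.symm g)), fun h g => e.injective (by simpa using h (e g))⟩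
  refine ⟨?_, ⟨((QuotientGroup.congr _ _ e hmap).symm.trans q).trans f⟩, fun L hL => hn (L.comap e.toMonoidHom) ?_⟩
  · rw [← hmap, Subgroup.card_map_of_injective e.injective, hc]
  · refine Subgroup.isComplement'_of_disjoint_and_mul_eq_univ ?_ ?_
    · rw [disjoint_iff, Subgroup.eq_bot_iff_forall]
      intro x ⟨hx, hxL⟩
      have := hL.disjoint.le_bot (show e x ∈ Subgroup.center H' ⊓ L from
        ⟨hmap ▸ Subgroup.mem_map_of_mem _ hx, hxL⟩)
      exact e.injective (by simpa using this)
    · ext x
      simp only [Set.mem_univ, iff_true]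
      obtain ⟨⟨⟨a, ha⟩, ⟨b, hb⟩⟩, hab⟩ := hL.2 (e x)
      rw [← hmap] at ha
      obtain ⟨c, hcm, rfl⟩ := Subgroup.mem_map.1 ha
      refine ⟨c, hcm, e.symm b, ?_, e.injective ?_⟩
      · show e (e.symm b) ∈ L
        rwa [MulEquiv.apply_symm_apply]
      · simpa using hab

theorem commutator_sp6 :
    commutator (Matrix.symplecticGroup (Fin 3) (ZMod 2)) = ⊤ :=
  S0269.result 3 (Or.inl le_rfl)

/-- Two non-split double covers of `Sp6(2)` are isomorphic. -/
theorem nonempty_mulEquiv_sp6_covers {H : Type u} {K : Type} [Group H] [Finite H] [Group K] [Finite K]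
    (hH : Cfsg.IsNonsplitDoubleCover H (Matrix.symplecticGroup (Fin 3) (ZMod 2)))
    (hK : Cfsg.IsNonsplitDoubleCover K (Matrix.symplecticGroup (Fin 3) (ZMod 2))) : Nonempty (K ≃* H) := by
  let S : Type u := ULift.{u} (Matrix.symplecticGroup (Fin 3) (ZMod 2))
  let eS : Matrix.symplecticGroup (Fin 3) (ZMod 2) ≃* S := MulEquiv.ulift.symm
  let eK : K ≃* ULift.{u} K := MulEquiv.ulift.symm
  have hperf : commutator S = ⊤ := by
    rw [commutator_def, ← Subgroup.map_top_of_surjective eS.toMonoidHom eS.surjective,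
      ← Subgroup.map_commutator, ← commutator_def, commutator_sp6]
  obtain ⟨e⟩ := nonempty_mulEquiv_of_covers hperf (S2093.main eS)
    (isNonsplitDoubleCover_congr eK eS hK) (isNonsplitDoubleCover_congr (MulEquiv.refl H) eS hH)
  exact ⟨eK.trans e⟩

end Cfsg.Agent.CoThreeType
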