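/-
The third Conway group from the centralizer of an involution (owner: helper27).

Main results (namespace `Cfsg.Agent.CoThreeType`):
* `nonempty_mulEquiv_T0` : the group is `T0`
* `isoCo3_of_cover` : the group is the third Conway group
-/
import Cfsg.Agent.Lib.CoThreeType.Rigid
import Cfsg.Agent.Lib.CoThreeType.Bridge
import Cfsg.Agent.Lib.CoThreeType.Unique

set_option autoImplicit false
set_option maxRecDepth 20000

namespace Cfsg.Agent.CoThreeType

open Classes (Z emb)

universe u

variable {G : Type u} [Group G] [Finite G]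

/-- A group whose involution centralizer is the model one is `T0`. -/
theorem nonempty_mulEquiv_T0 (hO : Cfsg.oddCore G = ⊥) (hZ : Subgroup.center G = ⊥) {t : G}
    (θ : ↥C0 ≃* ↥(Subgroup.centralizer ({t} : Set G))) (hθ : emb θ Z = t) : Nonempty (↥T0 ≃* G) := by
  obtain ⟨g, hg⟩ := exists_amalgam (local_emb θ hθ hO hZ)
  obtain ⟨f, hf, -⟩ := hg.exists_hom
  have hfi : Function.Injective f := by
    have := isSimpleGroup_T0
    rcases (f.normal_ker).eq_bot_or_eq_top with h | h
    · exact (MonoidHom.ker_eq_bot_iff f).1 h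
    · refine absurd ?_ Classes.Z_inv.2
      refine Classes.emb_injective θ ?_
      rw [map_one, ← hf]
      exact MonoidHom.mem_ker.1 (h ▸ Subgroup.mem_top _)
  exact ⟨MulEquiv.ofBijective f
    ⟨hfi, MonoidHom.range_eq_top.1 (Classes.range_eq_top θ hθ hO hZ C0_le_T0 g0_mem_T0 f hfi hf)⟩⟩

/-- The generator of the centre is sent to the involution. -/
theorem emb_Z {t : G} (ht : orderOf t = 2) (θ : ↥C0 ≃* ↥(Subgroup.centralizer ({t} : Set G))) : emb θ Z = t := by
  obtain ⟨x, hx⟩ := Classes.exists_emb θ (Commute.refl t)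
  have hc : ∀ y : ↥C0, y * x = x * y := fun y =>
    (Classes.emb_commute θ).1 (by rw [hx]; exact Classes.emb_comm θ y)
  have hs : sigma x ∈ Subgroup.center Multiplier.Sp6.G0 := by
    rw [Subgroup.mem_center_iff]
    intro s
    obtain ⟨y, rfl⟩ := sigma_surjective s
    rw [← map_mul, ← map_mul, hc y]
  rw [center_sp6, Subgroup.mem_bot] at hs
  rcases sigma_ker.1 hs with h | h
  · exfalso
    rw [show x = 1 from Subtype.ext h, map_one] at hx
    rw [← hx, orderOf_one] at ht
    omega
  · rw [show Z = x from Subtype.ext h.symm, hx]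

/-- **The third Conway group from the centralizer of an involution.** -/
theorem isoCo3_of_cover (hO : Cfsg.oddCore G = ⊥) (hZ : Subgroup.center G = ⊥) {t : G} (ht : orderOf t = 2)
    (hC : Cfsg.IsNonsplitDoubleCover (Subgroup.centralizer ({t} : Set G))
      (Matrix.symplecticGroup (Fin 3) (ZMod 2))) : Cfsg.Spor.IsoCo3 G := by
  obtain ⟨θ⟩ := nonempty_mulEquiv_sp6_covers hC isCover_C0
  obtain ⟨f⟩ := nonempty_mulEquiv_T0 hO hZ θ (emb_Z ht θ)
  obtain ⟨e⟩ := nonempty_co3Equiv_T0
  exact ⟨f.symm.trans e.symm⟩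

end Cfsg.Agent.CoThreeType
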