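/-
The checks of the certificate on the normalizer of the elementary group and rigidity (owner: helper27).

Main definitions (namespace `Cfsg.Agent.CoThreeType`): `eWord`, `pVal`, `dl`, `famOK`, `centOK16`, `normOK`, `rigidOK`.
-/
import Cfsg.Agent.Lib.CoThreeType.ClosureDefs
import Cfsg.Agent.Lib.CoThreeType.RigidData

set_option autoImplicit false
set_option maxRecDepth 20000

namespace Cfsg.Agent.CoThreeType

open RigidData

/-- The word of an element of the elementary group. -/
def eWord (i : ℕ) : ℕ := eBits.getD i 0

/-- The conjugate under a coset representative. -/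
def xu (e : ℕ) : ℕ := xU.getD e 0

/-- The key of a word. -/
def key (w : ℕ) : ℕ := appK w base0

/-- The key of a product. -/
def keys (l : List ℕ) : ℕ := appKs l base0

/-- A word in the two generators as words in the letters. -/
def pW (w : List ℕ) : List ℕ := w.map fun a => pGens.getD a 0

/-- Conjugation by the inverse of a generator, on indices. -/
def act (a i : ℕ) : ℕ := (pAct.getD a []).getD i 0

/-- The cocycle of a word from its values on the two generators. -/
def dl (d : ℕ → ℕ) (w : List ℕ) : ℕ := w.foldl (fun s a => act a s ^^^ d a) 0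

/-- The pair of values as a function. -/
def two (d₀ d₁ a : ℕ) : ℕ := bif Nat.beq a 0 then d₀ else d₁

/-- Strictly increasing under insertion: no repeated member. -/
def nodupB : List ℕ → Bool
  | [] => true
  | a :: l => !(l.any fun b => Nat.beq a b) && nodupB l

/-- Multiplication, indices and distinguished members of the elementary group. -/
def eOK : Bool :=
  Nat.beq eBits.length 16 && ((List.range 16).all fun i => wordOK (eWord i)) &&
  ((List.range 16).all fun i => (List.range 16).all fun j => eqWs [eWord i, eWord j] [eWord (i ^^^ j)]) &&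
  nodupB ((List.range 16).map fun i => key (eWord i)) && mulOK (eWord 0) [] &&
  eqP (codes (eWord 1)) [Data.negC] &&
  eqP (codes (eWord 2)) [Data.letterC.getD 7 0, Data.negC, Data.letterC.getD 7 0] &&
  Nat.beq sigmaE.length 16 &&
  (List.range 16).all fun i => decide (sigmaE.getD i 0 < 16) &&
    eqP (Data.letterC.getD 7 0 :: codes (eWord i)) (codes (eWord (sigmaE.getD i 0)) ++ [Data.letterC.getD 7 0])

/-- The conjugates of the involution, those commuting with it, and the family through the pair. -/
def famOK : Bool :=
  ((List.range 630).all fun e => eqWs [cw e, eWord 2] [xu e, cw e]) &&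
  nodupB ((List.range 630).map fun e => key (xu e)) &&
  (uList.all fun e => decide (e < 630) && eqWs [xu e, eWord 2] [eWord 2, xu e]) &&
  ((List.range 630).all fun e => (uList.any fun f => Nat.beq f e) ||
    !Nat.beq (keys [xu e, eWord 2]) (keys [eWord 2, xu e])) &&
  (kA.all fun k => eqWs [k, eWord 2] [eWord 2, k]) &&
  Nat.beq pure.length 14 &&
  ((List.range 14).all fun n => decide (pure.getD n 0 < 630) && mulOK (eWord (n + 2)) [xu (pure.getD n 0)])

/-- Two commuting conjugates with a conjugate as product lie in one member of the family. -/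
def pairOK : Bool :=
  uList.all fun i => uList.all fun j =>
    ((List.range 4).any fun v => Nat.beq (key (xu i)) (key (eWord v))) ||
    ((List.range 4).any fun v => Nat.beq (key (xu j)) (key (eWord v)) ||
      Nat.beq (key (xu j)) (keys [xu i, eWord v])) ||
    !Nat.beq (keys [xu i, xu j]) (keys [xu j, xu i]) ||
    !(uList.any fun l => Nat.beq (keys [xu i, xu j]) (key (xu l))) ||
    kA.any fun k => ((List.range 16).any fun a => eqWs [k, xu i] [eWord a, k]) &&
      (List.range 16).any fun b => eqWs [k, xu j] [eWord b, k]

/-- The centralizer of the elementary group in the centralizer of the involution is small. -/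
def centPairsOK : Bool :=
  Nat.beq RigidData.pairs.length 288 &&
  (RigidData.pairs.all fun p => eqWs [p.1, eWord 2] [eWord 2, p.1] && eqWs [p.1, eWord 4] [p.2.1, p.1] &&
    eqWs [p.1, eWord 8] [p.2.2, p.1]) &&
  nodupB (RigidData.pairs.map fun p => key p.2.1 * 2 ^ 36 + key p.2.2)

/-- The two generators, their action and the transitivity witnesses. -/
def normOK : Bool :=
  Nat.beq pGens.length 2 && (pGens.all wordOK) &&
  ((List.range 2).all fun a => (List.range 16).all fun i =>
    decide (act a i < 16) && eqWs [pGens.getD a 0, eWord (act a i)] [eWord i, pGens.getD a 0]) &&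
  (moveA.all fun m => (m.2.all fun a => decide (a < 2)) && eqWs (pW m.2 ++ [eWord 2]) (eWord m.1 :: pW m.2)) &&
  ((List.range 16).all fun i => decide (i < 2) || moveA.any fun m => Nat.beq m.1 i) &&
  (stab.all fun s => (s.2.2.all fun a => decide (a < 2)) && eqWs (pW s.2.2 ++ [eWord 2]) (eWord 2 :: pW s.2.2) &&
    eqWs (pW s.2.2 ++ [eWord 4]) (eWord s.1 :: pW s.2.2) && eqWs (pW s.2.2 ++ [eWord 8]) (eWord s.2.1 :: pW s.2.2)) &&
  (List.range 16).all fun i => (List.range 16).all fun j => decide (i < 4) || decide (j < 4) ||
    decide (i ^^^ j < 4) || stab.any fun s => Nat.beq s.1 i && Nat.beq s.2.1 j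

/-- The relations leave only the cocycles of the elementary group's own members. -/
def cocycleOK : Bool :=
  (rels.all fun r => (r.1.all fun a => decide (a < 2)) && (r.2.1.all fun a => decide (a < 2)) &&
    decide (r.2.2 < 16) && eqWs (pW r.1) (pW r.2.1 ++ [eWord r.2.2])) &&
  (List.range 16).all fun d₀ => (List.range 16).all fun d₁ =>
    !(rels.all fun r => Nat.beq (dl (two d₀ d₁) r.1) (dl (two d₀ d₁) r.2.1)) ||
      (List.range 16).any fun e => Nat.beq d₀ (act 0 e ^^^ e) && Nat.beq d₁ (act 1 e ^^^ e)

/-- A listed element in the letters. -/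
def pEl (n : ℕ) : ℕ := (pElts.getD n (0, [])).1

/-- The elements used, the moves among them, and the generators of the centralizer of the pair. -/
def usedOK : Bool :=
  (pElts.all fun p => (p.2.all fun a => decide (a < 2)) && mulOK p.1 (pW p.2)) &&
  Nat.beq movePos.length ClosureData.moves.length &&
  ((List.range movePos.length).all fun n =>
    let q := movePos.getD n (0, 0, 0)
    let m := ClosureData.moves.getD n (0, 0, 0, 0, 0)
    decide (q.1 < pElts.length) && decide (q.2.1 < pElts.length) && decide (q.2.2 < pElts.length) &&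
      mulOK m.2.1 [pEl q.1] && mulOK m.2.2.1 [pEl q.2.1] && mulOK m.2.2.2.1 [pEl q.2.2]) &&
  Nat.beq kDec.length ClosureData.kGens.length &&
  (List.range kDec.length).all fun n =>
    let d := kDec.getD n []
    let k := ClosureData.kGens.getD n (0, 0)
    (d.all fun it => Nat.beq it.1 0 ||
      decide (it.2.1 < pElts.length) && decide (it.2.2 < pElts.length) &&
        eqP (Data.letterC.getD 7 0 :: (codes (pEl it.2.1) ++ [Data.letterC.getD 7 0])) (codes (pEl it.2.2))) &&
    eqWs [k.1] (d.map fun it => bif Nat.beq it.1 0 then xW.1 else pEl it.2.1) &&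
    eqWs [k.2] (d.map fun it => bif Nat.beq it.1 0 then xW.2 else pEl it.2.2)

/-- The element of order three is determined by its action. -/
def rigidOK : Bool :=
  eqWs [xW.1, eWord 2] [eWord 2, xW.1] && eqWs [xW.2, eWord 2] [eWord 2, xW.2] && eqWs [xW.1, xW.1, xW.1] [0] &&
  Nat.ble 2 mElts.length &&
  (mElts.all fun m => decide (m.1 < pElts.length) && decide (m.2.1 < pElts.length) &&
    decide (m.2.2.1 < pElts.length) && decide (m.2.2.2 < pElts.length) &&
    eqWs [xW.1, pEl m.1] [pEl m.2.2.1, xW.1] && eqWs [xW.2, pEl m.2.1] [pEl m.2.2.2, xW.2] &&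
    eqP (Data.letterC.getD 7 0 :: (codes (pEl m.1) ++ [Data.letterC.getD 7 0])) (codes (pEl m.2.1)) &&
    eqP (Data.letterC.getD 7 0 :: (codes (pEl m.2.2.1) ++ [Data.letterC.getD 7 0])) (codes (pEl m.2.2.2))) &&
  mulOK (eWord 4) [pEl (mElts.getD 0 (0, 0, 0, 0)).2.1] && mulOK (eWord 8) [pEl (mElts.getD 1 (0, 0, 0, 0)).2.1] &&
  (List.range 16).all fun i => Nat.beq i 0 ||
    !Nat.beq (keys [xW.2, eWord i, xW.2, eWord i, xW.2, eWord i]) (keys [0]) ||
    mElts.any fun m => !Nat.beq (keys [eWord i, pEl m.2.1]) (keys [pEl m.2.1, eWord i])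

end Cfsg.Agent.CoThreeType
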