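/-
Kernel checks for the normalizer of the elementary group and rigidity (owner: helper27).
-/
import Cfsg.Agent.Lib.CoThreeType.RigidDefs

set_option autoImplicit false
set_option maxRecDepth 20000

namespace Cfsg.Agent.CoThreeType

theorem check_e : eOK = true := by decide +kernel
theorem check_fam : famOK = true := by decide +kernel
theorem check_pair : pairOK = true := by decide +kernel
theorem check_centPairs : centPairsOK = true := by decide +kernel
theorem check_norm : normOK = true := by decide +kernel
theorem check_cocycle : cocycleOK = true := by decide +kernel
theorem check_used : usedOK = true := by decide +kernel
theorem check_rigid : rigidOK = true := by decide +kernel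

end Cfsg.Agent.CoThreeType
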