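/-
Tables kept as binary trees read from the last bit of the index (owner: helper27).

Main definitions (namespace `Cfsg.Agent.CoThreeType`): `Tr`, `Tr.get`.
-/
import Cfsg.Agent.EqLemmas

set_option autoImplicit false

namespace Cfsg.Agent.CoThreeType

/-- A binary tree of values. -/
inductive Tr (α : Type) where
  | leaf : α → Tr α
  | node : Tr α → Tr α → Tr α

/-- The value at an index: even indices to the left, odd to the right. -/
def Tr.get {α : Type} : Tr α → Nat → α
  | .leaf a, _ => a
  | .node l r, n => bif Nat.beq (Nat.land n 1) 0 then l.get (Nat.shiftRight n 1) else r.get (Nat.shiftRight n 1)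

end Cfsg.Agent.CoThreeType
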